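import Groth.Agent.Lib.EtLimit.StalkRpush
import Groth.Agent.Lib.EtSec.ProNbhd
import Groth.Agent.Lib.Hensel.Henselization
import Groth.Prelude.Def_Hens2

/-!
# Stalks of higher direct images at strict henselizations
-/

set_option autoImplicit false
set_option backward.isDefEq.respectTransparency false
universe u

open CategoryTheory CategoryTheory.Limits AlgebraicGeometry Opposite

noncomputable section

namespace GrothLib.EtLimit

/-- A presentation of the strict localization as a limit of affine etale neighbourhoods. -/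
theorem exists_proNbhd_hens (S : Scheme.{u}) (s : S) (R : Type u) [CommRing R] [IsLocalRing R]
    [Algebra (S.presheaf.stalk s) R] [IsLocalHom (algebraMap (S.presheaf.stalk s) R)]
    [Hensel.IsStrictHenselization (S.presheaf.stalk s) R] [IsSepClosed (IsLocalRing.ResidueField R)] :
    ∃ (N : GrothLib.EtSec.ProNbhd (Hens2.geomPt S s R)) (e : Spec (CommRingCat.of R) ≅ N.c.pt),
      e.hom ≫ N.bc = Hens2.specOf S s R := by
  letI : Algebra (S.residueField s) (IsLocalRing.ResidueField R) :=
    (IsLocalRing.ResidueField.map (algebraMap (S.presheaf.stalk s) R)).toAlgebra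
  have hη : Hens2.geomPt S s R = GrothLib.EtSec.ptOf S s (IsLocalRing.ResidueField R) := by
    rw [GrothLib.EtSec.ptOf, Scheme.fromSpecResidueField, Hens2.geomPt, Hens2.specOf, ← Category.assoc,
      ← Category.assoc, ← Spec.map_comp, ← Spec.map_comp]
    rfl
  obtain ⟨N, -, H, _, _, _, _, hH, e, he, -⟩ :=
    GrothLib.EtSec.exists_proNbhd s (IsLocalRing.ResidueField R) (Hens2.geomPt S s R) hη
  haveI := hH
  obtain ⟨g⟩ := GrothLib.Hensel.IsStrictHenselization.nonempty_algEquiv (R := S.presheaf.stalk s) (S := H) (S' := R)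
  refine ⟨N, Scheme.Spec.mapIso g.toRingEquiv.toCommRingCatIso.op ≪≫ e, ?_⟩
  rw [Iso.trans_hom, Category.assoc, he, Hens2.specOf, ← Category.assoc]
  refine congrArg (· ≫ S.fromSpecStalk s) ((Spec.map_comp _ _).symm.trans (congrArg Spec.map ?_))
  exact CommRingCat.hom_ext (RingHom.ext fun x => g.commutes x)

theorem nonempty_stalk_Rpush_hens {X S : Scheme.{u}} (f : X ⟶ S) [QuasiCompact f] [QuasiSeparated f] (s : S)
    (R : Type u) [CommRing R] [IsLocalRing R]
    [Algebra (S.presheaf.stalk s) R] [IsLocalHom (algebraMap (S.presheaf.stalk s) R)]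
    [Hensel.IsStrictHenselization (S.presheaf.stalk s) R] [IsSepClosed (IsLocalRing.ResidueField R)] (n : ℕ) :
    Nonempty (EtCoh.Rpush f n ⋙ EtCoh.stalk (Hens2.geomPt S s R) ≅
      EtCoh.pull (pullback.fst f (Hens2.specOf S s R)) ⋙ EtCoh.HF (pullback f (Hens2.specOf S s R)) n) := by
  obtain ⟨N, e, he⟩ := exists_proNbhd_hens S s R
  exact nonempty_stalk_Rpush_iso (N := N) (q := pullback.snd f (Hens2.specOf S s R) ≫ e.hom)
    ((IsPullback.of_hasPullback f (Hens2.specOf S s R)).flip.of_iso (Iso.refl _) e (Iso.refl _) (Iso.refl _)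
      (by simp) (by simp) (by simp [he]) (by simp)) n

end GrothLib.EtLimit
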