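import Groth.Agent.Lib.EtColim.Cohomology
import Groth.Agent.Lib.EtDer.HpullComp
import Groth.Agent.Lib.EtShriek.Colim
import Groth.Agent.Lib.SheafCoh.Acyclic

/-!
# Free sheaves on étale schemes, disjoint unions, and local vanishing of classes
-/

set_option autoImplicit false
set_option backward.isDefEq.respectTransparency false
universe u

open CategoryTheory CategoryTheory.Limits CategoryTheory.Abelian AlgebraicGeometry Opposite
open GrothLib.SheafCoh GrothLib.EtSite GrothLib.EtColim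

noncomputable section

namespace GrothLib.EtLimit

variable {X Y : Scheme.{u}}

/-- An object of the small model. -/
abbrev up (V : X.Etale) : S X := ULiftHom.up.obj V

/-- An arrow of the small model. -/
abbrev upMap {W V : X.Etale} (p : W ⟶ V) : up W ⟶ up V := ULiftHom.up.map p

/-- Quasi-compact and quasi-separated objects. -/
def Qcqs (V : X.Etale) : Prop := CompactSpace ↥V.left ∧ QuasiSeparatedSpace ↥V.left

/-- The free sheaf on an étale scheme. -/
def ZV (V : X.Etale) : EtCoh.Ab X := (E X).inverse.obj (freeY (JS X) (up V))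

/-- Functoriality of free sheaves. -/
def mapZ {W V : X.Etale} (p : W ⟶ V) : ZV W ⟶ ZV V := (E X).inverse.map (freeYMap (JS X) (upMap p))

/-- Morphisms out of a free sheaf are sections. -/
def hZV (V : X.Etale) (F : EtCoh.Ab X) : (ZV V ⟶ F) ≃ EtCoh.sect F V :=
  ((E X).symm.toAdjunction.homEquiv (freeY (JS X) (up V)) F).trans
    (homFreeY ((E X).functor.obj F) (up V)).toEquiv

theorem hZV_comp {V : X.Etale} {F G : EtCoh.Ab X} (φ : ZV V ⟶ F) (g : F ⟶ G) :
    hZV V G (φ ≫ g) = g.hom.app (op V) (hZV V F φ) := by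
  refine (congrArg (homFreeY ((E X).functor.obj G) (up V))
    ((E X).symm.toAdjunction.homEquiv_naturality_right φ g)).trans ?_
  rw [homFreeY_comp]
  rfl

theorem hZV_mapZ {W V : X.Etale} (p : W ⟶ V) {F : EtCoh.Ab X} (φ : ZV V ⟶ F) :
    hZV W F (mapZ p ≫ φ) = F.obj.map p.op (hZV V F φ) := by
  refine (congrArg (homFreeY ((E X).functor.obj F) (up W))
    ((E X).symm.toAdjunction.homEquiv_naturality_left _ φ)).trans ?_
  rw [homFreeY_map]
  rfl

/-- The tautological section. -/
def gen (V : X.Etale) : EtCoh.sect (ZV V) V := hZV V _ (𝟙 _)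

theorem hZV_eq {V : X.Etale} {F : EtCoh.Ab X} (φ : ZV V ⟶ F) :
    hZV V F φ = φ.hom.app (op V) (gen V) := by
  rw [gen, ← hZV_comp, Category.id_comp]

/-- The morphism attached to a section. -/
def ofSect {V : X.Etale} {F : EtCoh.Ab X} (s : EtCoh.sect F V) : ZV V ⟶ F := (hZV V F).symm s

@[simp]
theorem ofSect_gen {V : X.Etale} {F : EtCoh.Ab X} (s : EtCoh.sect F V) :
    (ofSect s).hom.app (op V) (gen V) = s := by
  rw [← hZV_eq]
  exact Equiv.apply_symm_apply _ _

theorem ZV_ext {V : X.Etale} {F : EtCoh.Ab X} {φ ψ : ZV V ⟶ F}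
    (h : φ.hom.app (op V) (gen V) = ψ.hom.app (op V) (gen V)) : φ = ψ :=
  (hZV V F).injective ((hZV_eq φ).trans (h.trans (hZV_eq ψ).symm))

section pull

variable (f : X ⟶ Y) (V : Y.Etale)

/-- From the free sheaf on the base change to the inverse image. -/
def toPullZV : ZV ((EtCoh.bc f).obj V) ⟶ (EtCoh.pull f).obj (ZV V) :=
  ofSect (V := (EtCoh.bc f).obj V) (((EtCoh.pullPushAdj f).unit.app (ZV V)).hom.app (op V) (gen V))

/-- From the inverse image to the free sheaf on the base change. -/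
def fromPullZV : (EtCoh.pull f).obj (ZV V) ⟶ ZV ((EtCoh.bc f).obj V) :=
  ((EtCoh.pullPushAdj f).homEquiv _ _).symm
    (ofSect (V := V) (F := (EtCoh.push f).obj (ZV ((EtCoh.bc f).obj V))) (gen ((EtCoh.bc f).obj V)))

theorem unit_fromPullZV :
    (EtCoh.pullPushAdj f).unit.app (ZV V) ≫ (EtCoh.push f).map (fromPullZV f V) =
      ofSect (V := V) (F := (EtCoh.push f).obj (ZV ((EtCoh.bc f).obj V))) (gen ((EtCoh.bc f).obj V)) := by
  exact (Adjunction.homEquiv_unit _ _ _ _).symm.trans (Equiv.apply_symm_apply _ _)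

/-- Free sheaves pull back to free sheaves. -/
def pullZV : (EtCoh.pull f).obj (ZV V) ≅ ZV ((EtCoh.bc f).obj V) where
  hom := fromPullZV f V
  inv := toPullZV f V
  hom_inv_id := by
    apply ((EtCoh.pullPushAdj f).homEquiv _ _).injective
    refine (Adjunction.homEquiv_unit _ _ _ _).trans (Eq.trans ?_ (Adjunction.homEquiv_unit _ _ _ _).symm)
    rw [Functor.map_comp, ← Category.assoc, unit_fromPullZV]
    refine Eq.trans ?_ (Eq.trans (Category.comp_id _).symm (congrArg (_ ≫ ·) ((EtCoh.push f).map_id _).symm))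
    apply ZV_ext
    refine (congrArg ((toPullZV f V).hom.app (op ((EtCoh.bc f).obj V)))
      (ofSect_gen (V := V) (F := (EtCoh.push f).obj (ZV ((EtCoh.bc f).obj V))) (gen ((EtCoh.bc f).obj V)))).trans ?_
    exact ofSect_gen _
  inv_hom_id := by
    apply ZV_ext
    refine (congrArg ((fromPullZV f V).hom.app (op ((EtCoh.bc f).obj V))) (ofSect_gen _)).trans ?_
    refine (congrArg (fun φ => φ.hom.app (op V) (gen V)) (unit_fromPullZV f V)).trans ?_
    exact ofSect_gen _

theorem qcqs_bc [IsAffineHom f] {V : Y.Etale} (h : Qcqs V) : Qcqs ((EtCoh.bc f).obj V) := by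
  obtain ⟨h1, h2⟩ := h
  haveI : CompactSpace ↥((𝟭 Scheme.{u}).obj V.left) := h1
  haveI : QuasiSeparatedSpace ↥((𝟭 Scheme.{u}).obj V.left) := h2
  haveI : IsAffineHom (pullback.fst V.hom f) := MorphismProperty.pullback_fst _ _ inferInstance
  exact ⟨QuasiCompact.compactSpace_of_compactSpace (pullback.fst V.hom f),
    quasiSeparatedSpace_of_quasiSeparated (pullback.fst V.hom f)⟩

end pull

section sigma

/-- A finite family of quasi-compact quasi-separated étale schemes over `V` has a disjoint union. -/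
theorem exists_sigma {V : X.Etale} {n : ℕ} (W : Fin n → X.Etale) (g : ∀ i, W i ⟶ V)
    (hW : ∀ i, IsAffine (W i).left) :
    ∃ (T : X.Etale) (p : T ⟶ V) (j : ∀ i, W i ⟶ T), Qcqs T ∧ (∀ i, j i ≫ p = g i) ∧
      (∀ i, IsOpenImmersion (j i).left) ∧
      (∀ i k, i ≠ k → Disjoint (Set.range (j i).left.base) (Set.range (j k).left.base)) ∧
      ∀ x : T.left, ∃ i, x ∈ Set.range (j i).left.base := by
  let P : (∐ fun i => (W i).left) ⟶ V.left := Sigma.desc fun i => (g i).left
  haveI : Etale (Sigma.desc fun i => (W i).hom) := IsZariskiLocalAtSource.sigmaDesc fun i => (W i).prop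
  let T : X.Etale := Scheme.Etale.mk (Sigma.desc fun i => (W i).hom)
  have hp : P ≫ V.hom = Sigma.desc fun i => (W i).hom := Sigma.hom_ext _ _ fun i => by
    rw [Sigma.ι_desc_assoc, Sigma.ι_desc]
    exact MorphismProperty.Over.w (g i)
  haveI := hW
  haveI : IsAffine T.left := inferInstanceAs (IsAffine (∐ fun i => (W i).left))
  refine ⟨T, MorphismProperty.Over.homMk P hp trivial, fun i =>
    MorphismProperty.Over.homMk (Sigma.ι (fun i => (W i).left) i) (Sigma.ι_desc _ _) trivial,
    ⟨inferInstance, inferInstance⟩, fun i => MorphismProperty.Over.Hom.ext (Sigma.ι_desc _ _),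
    fun i => inferInstanceAs (IsOpenImmersion (Sigma.ι (fun i => (W i).left) i)),
    fun i k hik => Set.disjoint_left.2 fun z hz hz' => ?_,
    fun z => (sigmaOpenCover (fun i => (W i).left)).exists_eq z⟩
  exact ((disjoint_opensRange_sigmaι (fun i => (W i).left) i k hik).le_bot
    (show z ∈ _ ⊓ _ from ⟨hz, hz'⟩))

/-- Sections on the members of a disjoint union glue. -/
theorem exists_sect_sigma (F : EtCoh.Ab X) {T : X.Etale} {α : Type*} (W : α → X.Etale) (j : ∀ i, W i ⟶ T)
    (ho : ∀ i, IsOpenImmersion (j i).left)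
    (hd : ∀ i k, i ≠ k → Disjoint (Set.range (j i).left.base) (Set.range (j k).left.base))
    (hs : ∀ x : T.left, ∃ i, x ∈ Set.range (j i).left.base) (a : ∀ i, EtCoh.sect F (W i)) :
    ∃ z : EtCoh.sect F T, ∀ i, F.obj.map (j i).op z = a i := by
  classical
  refine GrothLib.EtShriek.exists_glue F T W j hs a fun i k Z p q hpq => ?_
  have hl : p.left ≫ (j i).left = q.left ≫ (j k).left := congrArg (fun m => m.left) hpq
  by_cases hik : i = k
  · subst hik
    haveI := ho i
    have : p = q := MorphismProperty.Over.Hom.ext ((cancel_mono (j i).left).1 hl)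
    rw [this]
  · have : ∀ z : Z.left, False := fun z => Set.disjoint_left.1 (hd i k hik) ⟨p.left.base z, rfl⟩
      ⟨q.left.base z, (congr($(hl).base z)).symm⟩
    rw [GrothLib.ConnFibres.eq_zero_of_univ F (F.obj.map p.op (a i) : EtCoh.sect F Z) fun z => (this z).elim,
      GrothLib.ConnFibres.eq_zero_of_univ F (F.obj.map q.op (a k) : EtCoh.sect F Z) fun z => (this z).elim]

end sigma

/-- Local statements on a quasi-compact étale scheme hold on a single affine cover. -/
theorem exists_cover {V : X.Etale} (hV : Qcqs V)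
    (P : ∀ ⦃W : X.Etale⦄, (W ⟶ V) → Prop)
    (hP : ∀ x : V.left, ∃ (W : X.Etale) (g : W ⟶ V) (w : W.left), g.left.base w = x ∧ P g)
    (hres : ∀ ⦃W W' : X.Etale⦄ (g : W ⟶ V) (h : W' ⟶ W), P g → P (h ≫ g))
    (hglue : ∀ ⦃T : X.Etale⦄ (p : T ⟶ V) {n : ℕ} (W : Fin n → X.Etale) (j : ∀ i, W i ⟶ T),
      (∀ i, IsOpenImmersion (j i).left) →
      (∀ i k, i ≠ k → Disjoint (Set.range (j i).left.base) (Set.range (j k).left.base)) →
      (∀ x : T.left, ∃ i, x ∈ Set.range (j i).left.base) → (∀ i, P (j i ≫ p)) → P p) :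
    ∃ (T : X.Etale) (p : T ⟶ V), Qcqs T ∧ Surjective p.left ∧ P p := by
  classical
  have h' : ∀ x : V.left, ∃ (W : X.Etale) (g : W ⟶ V) (w : W.left),
      IsAffine W.left ∧ g.left.base w = x ∧ P g := fun x => by
    obtain ⟨W, g, w, hw, hg⟩ := hP x
    obtain ⟨_, ⟨A, hA, rfl⟩, hwA, -⟩ :=
      W.left.isBasis_affineOpens.exists_subset_of_mem_open (Set.mem_univ w) isOpen_univ
    let A₀ : W.left.Opens := A
    exact ⟨opensObj W A₀, opensHom W A₀ ≫ g, (⟨w, hwA⟩ : A₀), hA, hw, hres g _ hg⟩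
  choose W g w hA hw hg using h'
  haveI := hV.1
  obtain ⟨t, ht⟩ := isCompact_univ.elim_finite_subcover (fun x : V.left => Set.range (g x).left.base)
    (fun x => GrothLib.EtBasicB.isOpen_range_left (g x)) (fun x _ => Set.mem_iUnion.2 ⟨x, w x, hw x⟩)
  let e := t.equivFin.symm
  obtain ⟨T, p, j, hT, hjp, ho, hd, hs⟩ :=
    exists_sigma (fun i => W (e i).1) (fun i => g (e i).1) (fun i => hA _)
  refine ⟨T, p, hT, ⟨fun x => ?_⟩, hglue p _ j ho hd hs fun i => (hjp i).symm ▸ hg _⟩
  obtain ⟨y, hy, hxy⟩ := Set.mem_iUnion₂.1 (ht (Set.mem_univ x))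
  have hy' : (e (t.equivFin ⟨y, hy⟩)).1 = y := congrArg Subtype.val (Equiv.symm_apply_apply _ _)
  obtain ⟨k, z, hz⟩ : ∃ k, x ∈ Set.range (g (e k).1).left.base := ⟨t.equivFin ⟨y, hy⟩, by rw [hy']; exact hxy⟩
  refine ⟨(j k).left.base z, ?_⟩
  have h : (j k).left ≫ p.left = (g (e k).1).left :=
    congrArg (fun m : W (e k).1 ⟶ V => m.left) (hjp k)
  exact (congr($(h).base z)).trans hz

/-- A class of positive degree out of a free sheaf dies on a cover. -/
theorem kill_class {V : X.Etale} (hV : Qcqs V) :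
    ∀ (n : ℕ) (F : EtCoh.Ab X) (y : Ext.{u + 1} (ZV V) F (n + 1)),
      ∃ (T : X.Etale) (p : T ⟶ V), Qcqs T ∧ Surjective p.left ∧
        (Ext.mk₀ (mapZ p)).comp y (zero_add (n + 1)) = 0 := by
  intro n
  induction n with
  | zero =>
    intro F y
    obtain ⟨y, rfl⟩ := extClass_surjective (injSES_shortExact F) 0 (Ext.subsingleton_of_injective _ _ _) y
    obtain ⟨φ, rfl⟩ := (Ext.mk₀_bijective _ _).2 y
    let q := (injSES F).g
    let s : EtCoh.sect (injSES F).X₃ V := hZV V _ φ
    haveI : Sheaf.IsLocallySurjective q := (Sheaf.isLocallySurjective_iff_epi' _ q).2 inferInstance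
    obtain ⟨T, p, hT, hp, z, hz⟩ := exists_cover hV
      (fun W g => ∃ z : EtCoh.sect (injSES F).X₂ W, q.hom.app (op W) z = (injSES F).X₃.obj.map g.op s)
      (fun x => by
        obtain ⟨W, g, w, hg, hw⟩ := (mem_topology_iff _).1
          (Presheaf.imageSieve_mem X.smallEtaleTopology q.hom s) x
        exact ⟨W, g, w, hw, hg⟩)
      (fun W W' g h ⟨z, hz⟩ => ⟨(injSES F).X₂.obj.map h.op z, by
        rw [op_comp, Functor.map_comp, ConcreteCategory.comp_apply, ← hz]
        exact NatTrans.naturality_apply q.hom h.op z⟩)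
      (fun T p n W j ho hd hs h => by
        choose a ha using h
        obtain ⟨z, hz⟩ := exists_sect_sigma _ W j ho hd hs a
        refine ⟨z, sub_eq_zero.1 (GrothLib.ConnFibres.eq_zero_of_univ _ _ fun x => ?_)⟩
        obtain ⟨i, w, rfl⟩ := hs x
        refine ⟨W i, j i, w, rfl, ?_⟩
        rw [map_sub, sub_eq_zero]
        refine (NatTrans.naturality_apply q.hom (j i).op z).symm.trans ?_
        refine (congrArg (q.hom.app (op (W i))) (hz i)).trans ((ha i).trans ?_)
        rw [op_comp, Functor.map_comp]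
        rfl)
    refine ⟨T, p, hT, hp, ?_⟩
    have hl : mapZ p ≫ φ = ofSect z ≫ q := (hZV T _).injective (by
      rw [hZV_mapZ, hZV_comp, ofSect, Equiv.apply_symm_apply]
      exact hz.symm)
    rw [← Ext.comp_assoc_of_second_deg_zero, Ext.mk₀_comp_mk₀, hl, ← Ext.mk₀_comp_mk₀,
      Ext.comp_assoc_of_second_deg_zero, (injSES_shortExact F).comp_extClass, Ext.comp_zero]
  | succ n ih =>
    intro F y
    obtain ⟨y, rfl⟩ := extClass_surjective (injSES_shortExact F) (n + 1)
      (Ext.subsingleton_of_injective _ _ _) y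
    obtain ⟨T, p, hT, hp, h⟩ := ih _ y
    refine ⟨T, p, hT, hp, ?_⟩
    rw [← Ext.comp_assoc (Ext.mk₀ (mapZ p)) y _ (zero_add (n + 1)) rfl (by omega), h, Ext.zero_comp]

end GrothLib.EtLimit
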