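import Groth.Agent.Lib.EtLimit.PushH

/-!
# Pullback of classes and base change
-/

set_option autoImplicit false
set_option backward.isDefEq.respectTransparency false
universe u

open CategoryTheory CategoryTheory.Limits CategoryTheory.Abelian AlgebraicGeometry Opposite
open GrothLib.EtColim (Z)
open scoped GrothLib.EtFast

noncomputable section

namespace GrothLib.EtLimit

variable {X Y X' Y' : Scheme.{u}}

theorem Hpull_eq_hp (f : X ⟶ Y) [PreservesFiniteLimits (EtCoh.pull f)] (F : EtCoh.Ab Y) (n : ℕ)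
    (x : Ext.{u + 1} (Z Y) F n) : EtCore.Hpull f F n x = hp f (𝟙 _) x :=
  (GrothLib.EtDer.MV.Hpull_apply f F n x).trans (Ext.comp_mk₀_id _).symm

theorem HF_map_eq' (f : X ⟶ Y) {F G : EtCoh.Ab X} (φ : F ⟶ G) (n : ℕ) (x : Ext.{u + 1} (Z X) F n) :
    (EtCoh.HF X n).map φ x = x.comp (Ext.mk₀ φ) (add_zero n) := rfl

theorem baseChange_transpose (f : X ⟶ Y) (g : Y' ⟶ Y) (f' : X' ⟶ Y') (g' : X' ⟶ X) (w : g' ≫ f = f' ≫ g)
    (F : EtCoh.Ab X) :
    (pV g' f (f' ≫ g) w).inv.app ((EtCoh.push f).obj F) ≫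
        (EtCoh.pull g').map ((EtCoh.pullPushAdj f).counit.app F) ≫ 𝟙 _ =
      (pV f' g (f' ≫ g) rfl).inv.app ((EtCoh.push f).obj F) ≫
        (EtCoh.pull f').map (EtCoh.baseChange0 f g f' g' w F) ≫
          (EtCoh.pullPushAdj f').counit.app ((EtCoh.pull g').obj F) := by
  let M := (EtCoh.pull g').obj F
  have e1 : (EtCoh.pullPushAdj g).unit.app ((EtCoh.push f).obj F) ≫
      (EtCoh.push g).map (EtCoh.baseChange0 f g f' g' w F) =
        (EtCoh.push f).map ((EtCoh.pullPushAdj g').unit.app F) ≫ (EtCoh.pushComp f g').hom.app M ≫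
          (EtCoh.pushCongr w).hom.app M ≫ (EtCoh.pushComp g f').inv.app M := by
    exact ((EtCoh.pullPushAdj g).homEquiv_unit _ _ _).symm.trans (Equiv.apply_symm_apply _ _)
  apply ((EtCoh.pullPushAdj (f' ≫ g)).homEquiv _ _).injective
  rw [Adjunction.homEquiv_unit, Adjunction.homEquiv_unit, unit_pV_inv g' f (f' ≫ g) w,
    unit_pV_inv f' g (f' ≫ g) rfl]
  erw [Category.comp_id]
  erw [Adjunction.right_triangle_components (EtCoh.pullPushAdj f') M, Category.comp_id]
  rw [Functor.map_comp, Category.assoc, reassoc_of% e1]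
  erw [Adjunction.right_triangle_components_assoc (EtCoh.pullPushAdj f) F]
  have q2 : (qV f' g (f' ≫ g) rfl).hom.app M = (EtCoh.pushComp g f').hom.app M := by
    rw [qV, Iso.trans_hom, NatTrans.comp_app, pushCongr_refl_app]
    exact Category.comp_id _
  show _ = _ ≫ _ ≫ _ ≫ (EtCoh.pushComp g f').inv.app M ≫ (qV f' g (f' ≫ g) rfl).hom.app M
  rw [q2, Iso.inv_hom_id_app, qV, Iso.trans_hom, NatTrans.comp_app]
  exact congrArg (fun z => _ ≫ _ ≫ z) (Category.comp_id _).symm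

/-- Pullback of classes commutes with base change. -/
theorem Hpull_HofPush (f : X ⟶ Y) (g : Y' ⟶ Y) (f' : X' ⟶ Y') (g' : X' ⟶ X) (w : g' ≫ f = f' ≫ g)
    (F : EtCoh.Ab X) (q : ℕ)
    [PreservesFiniteLimits (EtCoh.pull f)] [PreservesFiniteLimits (EtCoh.pull g)]
    [PreservesFiniteLimits (EtCoh.pull f')] [PreservesFiniteLimits (EtCoh.pull g')]
    (ζ : Ext.{u + 1} (Z Y) ((EtCoh.push f).obj F) q) :
    EtCore.Hpull g' F q (EtLim.HofPush f F q ζ) =
      EtLim.HofPush f' ((EtCoh.pull g').obj F) q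
        (((EtCoh.HF Y' q).map (EtCoh.baseChange0 f g f' g' w F)).hom
          (EtCore.Hpull g ((EtCoh.push f).obj F) q ζ)) := by
  refine (congrArg (EtCore.Hpull g' F q) (HofPush_eq f F q ζ)).trans ?_
  refine (Hpull_eq_hp g' F q _).trans ?_
  refine (hp_hp g' f (f' ≫ g) w _ _ ζ).trans ?_
  refine Eq.trans ?_ (congrArg (EtLim.HofPush f' ((EtCoh.pull g').obj F) q)
    ((congrArg ((EtCoh.HF Y' q).map (EtCoh.baseChange0 f g f' g' w F)).hom
      (Hpull_eq_hp g ((EtCoh.push f).obj F) q ζ)).trans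
        ((HF_map_eq' g _ q _).trans (hp_comp g (𝟙 _) (EtCoh.baseChange0 f g f' g' w F) ζ)))).symm
  refine Eq.trans ?_ (HofPush_eq f' _ q _).symm
  refine Eq.trans ?_ (hp_hp f' g (f' ≫ g) rfl _ _ ζ).symm
  refine congrArg (fun α => hp (f' ≫ g) α ζ) ?_
  rw [Category.id_comp]
  exact baseChange_transpose f g f' g' w F

end GrothLib.EtLimit
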