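import Groth.Prelude.Def_EtGm
import Mathlib.AlgebraicGeometry.AffineTransitionLimit

/-!
# Global functions and units commute with limits of schemes
-/

set_option autoImplicit false
set_option backward.isDefEq.respectTransparency false
universe u

open CategoryTheory CategoryTheory.Limits AlgebraicGeometry Opposite

noncomputable section

namespace GrothLib.EtLimit

variable {I : Type u} [SmallCategory I] [IsCofiltered I] {E : I ⥤ Scheme.{u}} {c : Cone E} (hc : IsLimit c)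
  [∀ (i j : I) (f : i ⟶ j), IsAffineHom (E.map f)]
  [∀ i, CompactSpace ↥(E.obj i)] [∀ i, QuasiSeparatedSpace ↥(E.obj i)]

omit [IsCofiltered I] [∀ (i j : I) (f : i ⟶ j), IsAffineHom (E.map f)] [∀ i, CompactSpace ↥(E.obj i)]
  [∀ i, QuasiSeparatedSpace ↥(E.obj i)] in
theorem appTop_π {i j : I} (a : j ⟶ i) (s : Γ(E.obj i, ⊤)) :
    (c.π.app j).appTop ((E.map a).appTop s) = (c.π.app i).appTop s := by
  rw [← c.w a, Scheme.Hom.comp_appTop]
  rfl

include hc in
/-- Units of global functions come from a stage. -/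
theorem exists_unit_stage (u : Γ(c.pt, ⊤)ˣ) :
    ∃ (i : I) (v : Γ(E.obj i, ⊤)ˣ), Units.map (c.π.app i).appTop.hom.toMonoidHom v = u := by
  obtain ⟨i, a, ha⟩ := exists_appTop_π_eq_of_isLimit E c hc (u : Γ(c.pt, ⊤))
  obtain ⟨i', b, hb⟩ := exists_appTop_π_eq_of_isLimit E c hc ((u⁻¹ : Γ(c.pt, ⊤)ˣ) : Γ(c.pt, ⊤))
  obtain ⟨k, f, g, -⟩ := IsCofilteredOrEmpty.cone_objs i i'
  have ha' : (c.π.app k).appTop ((E.map f).appTop a) = (u : Γ(c.pt, ⊤)) := (appTop_π f a).trans ha.symm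
  have hb' : (c.π.app k).appTop ((E.map g).appTop b) = ((u⁻¹ : Γ(c.pt, ⊤)ˣ) : Γ(c.pt, ⊤)) :=
    (appTop_π g b).trans hb.symm
  obtain ⟨l, h, hl⟩ := exists_appTop_map_eq_zero_of_isLimit E c hc ((E.map f).appTop a * (E.map g).appTop b - 1)
    (by rw [map_sub, map_mul, map_one, ha', hb', Units.mul_inv, sub_self])
  rw [map_sub, map_mul, map_one, sub_eq_zero] at hl
  refine ⟨l, Units.mk _ _ hl (by rw [mul_comm]; exact hl), Units.ext ?_⟩
  exact (appTop_π h _).trans ha'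

include hc in
/-- A unit trivial at the limit is trivial at a stage. -/
theorem exists_unit_eq_one (i : I) (v : Γ(E.obj i, ⊤)ˣ)
    (hv : Units.map (c.π.app i).appTop.hom.toMonoidHom v = 1) :
    ∃ (j : I) (a : j ⟶ i), Units.map (E.map a).appTop.hom.toMonoidHom v = 1 := by
  obtain ⟨j, a, hj⟩ := exists_appTop_map_eq_zero_of_isLimit E c hc ((v : Γ(E.obj i, ⊤)) - 1)
    (by
      rw [map_sub, map_one, sub_eq_zero]
      exact congrArg Units.val hv)
  rw [map_sub, map_one, sub_eq_zero] at hj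
  exact ⟨j, a, Units.ext hj⟩

include hc in
theorem gen_ΓAdd (x : EtCoh.ΓAdd.obj (op c.pt)) :
    ∃ (i : I) (y : EtCoh.ΓAdd.obj (op (E.obj i))), EtCoh.ΓAdd.map (c.π.app i).op y = x := by
  obtain ⟨i, t, ht⟩ := exists_appTop_π_eq_of_isLimit E c hc (ULift.down x)
  exact ⟨i, ULift.up t, congrArg ULift.up ht.symm⟩

include hc in
theorem kill_ΓAdd (i : I) (y : EtCoh.ΓAdd.obj (op (E.obj i))) (hy : EtCoh.ΓAdd.map (c.π.app i).op y = 0) :
    ∃ (j : I) (a : j ⟶ i), EtCoh.ΓAdd.map (E.map a).op y = 0 := by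
  obtain ⟨j, a, hj⟩ := exists_appTop_map_eq_zero_of_isLimit E c hc (ULift.down y) (congrArg ULift.down hy)
  exact ⟨j, a, congrArg ULift.up hj⟩

include hc in
theorem gen_ΓUnits (x : EtCoh.ΓUnits.obj (op c.pt)) :
    ∃ (i : I) (y : EtCoh.ΓUnits.obj (op (E.obj i))), EtCoh.ΓUnits.map (c.π.app i).op y = x := by
  obtain ⟨i, v, hv⟩ := exists_unit_stage hc (Additive.toMul (ULift.down x) : Γ(c.pt, ⊤)ˣ)
  exact ⟨i, ULift.up (Additive.ofMul v), congrArg (fun w => ULift.up (Additive.ofMul w)) hv⟩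

include hc in
theorem kill_ΓUnits (i : I) (y : EtCoh.ΓUnits.obj (op (E.obj i))) (hy : EtCoh.ΓUnits.map (c.π.app i).op y = 0) :
    ∃ (j : I) (a : j ⟶ i), EtCoh.ΓUnits.map (E.map a).op y = 0 := by
  obtain ⟨j, a, hj⟩ := exists_unit_eq_one hc i (Additive.toMul (ULift.down y) : Γ(E.obj i, ⊤)ˣ)
    (congrArg (fun w => Additive.toMul (ULift.down w)) hy)
  exact ⟨j, a, congrArg (fun w => ULift.up (Additive.ofMul w)) hj⟩

end GrothLib.EtLimit
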