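import Groth.Agent.Lib.EtLimit.Systems
import Groth.Prelude.Def_EtLim

/-!
# Translation to the vocabulary of `EtLim`
-/

set_option autoImplicit false
set_option backward.isDefEq.respectTransparency false
universe u

open CategoryTheory CategoryTheory.Limits CategoryTheory.Abelian AlgebraicGeometry Opposite
open GrothLib.EtColim (Z)
open scoped GrothLib.EtFast

noncomputable section

namespace GrothLib.EtLimit

variable {X Y S : Scheme.{u}}

theorem HpullThen_eq (f : X ⟶ Y) [PreservesFiniteLimits (EtCoh.pull f)] {F : EtCoh.Ab Y} {M : EtCoh.Ab X}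
    (α : (EtCoh.pull f).obj F ⟶ M) (n : ℕ) (x : Ext.{u + 1} (Z Y) F n) :
    EtLim.HpullThen f F α n x = hp f α x := rfl

theorem pullCongr_symm {f g : X ⟶ Y} (h : f = g) : EtCore.pullCongr h.symm = (EtCore.pullCongr h).symm := by
  subst h
  simp [EtCore.pullCongr]

theorem pullCongr_comp_pullComp (f : X ⟶ Y) (t : Y ⟶ S) (t' : X ⟶ S) (w : f ≫ t = t') :
    EtCore.pullCongr w.symm ≪≫ EtCore.pullComp f t = (pV f t t' w).symm := by
  rw [pullCongr_symm, pV, Iso.trans_symm, Iso.symm_symm_eq]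

variable {ι : Type u} [Preorder ι] (Xs : ιᵒᵖ ⥤ Scheme.{u})

theorem pullTrans_hom {i j k : ι} (hij : i ≤ j) (hjk : j ≤ k) :
    (EtLim.pullTrans Xs hij hjk).hom = (pV _ _ _ (map_le_comp Xs hij hjk)).inv := by
  rw [← Iso.symm_hom, ← pullCongr_comp_pullComp]
  rfl

theorem pullTransCone_hom (c : Cone Xs) {i j : ι} (hij : i ≤ j) :
    (EtLim.pullTransCone Xs c hij).hom =
      (pV (X := c.pt) (c.π.app (op j)) (Xs.map (homOfLE hij).op) (c.π.app (op i))
        (c.w (homOfLE hij).op)).inv := by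
  rw [← Iso.symm_hom, ← pullCongr_comp_pullComp]
  rfl

end GrothLib.EtLimit
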