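import Groth.Agent.Lib.EtLimit.PushColim
import Groth.Agent.Lib.EtLimit.SystemsH

/-!
# Cohomology of a limit with coefficients pushed to the stages
-/

set_option autoImplicit false
set_option backward.isDefEq.respectTransparency false
universe u

open CategoryTheory CategoryTheory.Limits CategoryTheory.Abelian AlgebraicGeometry Opposite
open GrothLib.EtColim (Z)
open scoped GrothLib.EtFast

noncomputable section

namespace GrothLib.EtLimit

variable {X Y : Scheme.{u}}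

theorem HofPush_eq (f : X ⟶ Y) [PreservesFiniteLimits (EtCoh.pull f)] (F : EtCoh.Ab X) (n : ℕ)
    (x : Ext.{u + 1} (Z Y) ((EtCoh.push f).obj F) n) :
    EtLim.HofPush f F n x = hp f ((EtCoh.pullPushAdj f).counit.app F) x := rfl

theorem HpushTrans_eq {Xi Xj : Scheme.{u}} (uij : Xj ⟶ Xi) (uj : X ⟶ Xj) (ui : X ⟶ Xi)
    (w : uj ≫ uij = ui) [PreservesFiniteLimits (EtCoh.pull uij)] (F : EtCoh.Ab X) (n : ℕ)
    (x : Ext.{u + 1} (Z Xi) ((EtCoh.push ui).obj F) n) :
    EtLim.HpushTrans uij uj ui w F n x = hp uij (pushTr uj uij ui w F) x := by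
  have e : ((EtCoh.pushCongr w.symm).app F).hom ≫ (EtCoh.pushComp uij uj).inv.app F =
      (qV uj uij ui w).inv.app F := by
    subst w
    rw [qV, Iso.trans_inv, NatTrans.comp_app]
    refine congrArg (fun a => a ≫ _) ?_
    rw [Iso.app_hom, pushCongr_refl_app]
    refine ((cancel_mono ((EtCoh.pushCongr (rfl : uj ≫ uij = uj ≫ uij)).hom.app F)).1 ?_)
    rw [Iso.inv_hom_id_app, pushCongr_refl_app]
    exact Category.comp_id _
  rw [pushTr, ← hp_mk₀, ← e]
  exact HofPush_eq uij ((EtCoh.push uj).obj F) n _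

variable {ι : Type u} [Preorder ι] [Nonempty ι] [IsDirected ι (· ≤ ·)] {Xs : ιᵒᵖ ⥤ Scheme.{u}} {c : Cone Xs}

/-- Cohomology of a limit is the colimit of the cohomology of the direct images. -/
theorem gen_and_kill_push (haff : ∀ ⦃a b : ιᵒᵖ⦄ (h : a ⟶ b), IsAffineHom (Xs.map h))
    (hqc : ∀ a, CompactSpace ↥(Xs.obj a)) (hqs : ∀ a, QuasiSeparatedSpace ↥(Xs.obj a)) (hc : IsLimit c)
    (F : EtCoh.Ab c.pt) (n : ℕ) :
    (∀ ξ : Ext.{u + 1} (Z c.pt) F n, ∃ (j : ι)
      (ξj : Ext.{u + 1} (Z (Xs.obj (op j))) ((EtCoh.push (c.π.app (op j))).obj F) n),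
        hp (c.π.app (op j)) ((EtCoh.pullPushAdj (c.π.app (op j))).counit.app F) ξj = ξ) ∧
    (∀ (j : ι) (ξj : Ext.{u + 1} (Z (Xs.obj (op j))) ((EtCoh.push (c.π.app (op j))).obj F) n),
      hp (c.π.app (op j)) ((EtCoh.pullPushAdj (c.π.app (op j))).counit.app F) ξj = 0 →
        ∃ (k : ι) (hk : j ≤ k), hp (Xs.map (homOfLE hk).op)
          (pushTr (X := c.pt) (c.π.app (op k)) (Xs.map (homOfLE hk).op) (c.π.app (op j))
            (c.w (homOfLE hk).op) F) ξj = 0) := by
  haveI := isIso_desc Xs c F haff hqc hqs hc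
  let e := asIso (colimit.desc (pushG Xs c F) (pushCocone Xs c F))
  obtain ⟨h1, h2⟩ := gen_and_kill haff hqc hqs hc (fun i => (EtCoh.push (c.π.app (op i))).obj F)
    (fun i j hij => pushTr (X := c.pt) (c.π.app (op j)) (Xs.map (homOfLE hij).op) (c.π.app (op i))
      (c.w (homOfLE hij).op) F)
    (fun i j k hij hjk => pushTr_comp (W := c.pt) (c.π.app (op k)) (Xs.map (homOfLE hjk).op)
      (Xs.map (homOfLE hij).op) (c.π.app (op j)) (Xs.map (homOfLE (hij.trans hjk)).op) (c.π.app (op i))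
      (c.w (homOfLE hjk).op) (map_le_comp Xs hij hjk) (c.w (homOfLE (hij.trans hjk)).op) (c.w (homOfLE hij).op) F)
    (pushG Xs c F) (fun i => Iso.refl _)
    (fun i j hij => by
      rw [Iso.refl_hom, Iso.refl_hom, Category.id_comp, pushG_map, sysTr]
      exact congrArg (_ ≫ ·) (Category.comp_id _).symm) n
  have hι : ∀ j, ((Iso.refl _ : (pushG Xs c F).obj j ≅ (pushG Xs c F).obj j).hom ≫ colimit.ι (pushG Xs c F) j) ≫
      e.hom = (EtCoh.pullPushAdj (c.π.app (op j))).counit.app F := fun j => by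
    rw [Iso.refl_hom, Category.id_comp]
    exact colimit.ι_desc (pushCocone Xs c F) j
  refine ⟨fun ξ => ?_, fun j ξj hξj => h2 j ξj ?_⟩
  · obtain ⟨j, ξj, hj⟩ := h1 (ξ.comp (Ext.mk₀ e.inv) (add_zero n))
    refine ⟨j, ξj, ?_⟩
    rw [← hι j]
    refine (hp_comp (c.π.app (op j)) _ e.hom ξj).symm.trans ?_
    refine (congrArg (fun z => z.comp (Ext.mk₀ e.hom) (add_zero n)) hj).trans ?_
    rw [Ext.comp_assoc_of_third_deg_zero, Ext.mk₀_comp_mk₀, Iso.inv_hom_id, Ext.comp_mk₀_id]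
  · rw [← hι j, ← hp_comp] at hξj
    have := congrArg (fun z => z.comp (Ext.mk₀ e.inv) (add_zero n)) hξj
    simp only [Ext.comp_assoc_of_third_deg_zero, Ext.mk₀_comp_mk₀, Iso.hom_inv_id, Ext.comp_mk₀_id,
      Ext.zero_comp] at this
    exact this

end GrothLib.EtLimit
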