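import Groth.Agent.Lib.EtLimit.SheafColim
import Groth.Agent.Lib.EtLimit.GammaCont
import Groth.Agent.Lib.EtLimit.PushH

/-!
# Cohomology of a limit with coefficients in a big sheaf
-/

set_option autoImplicit false
set_option backward.isDefEq.respectTransparency false
universe u

open CategoryTheory CategoryTheory.Limits CategoryTheory.Abelian AlgebraicGeometry Opposite
open GrothLib.EtColim (Z)
open scoped GrothLib.EtFast

noncomputable section

namespace GrothLib.EtLimit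

theorem limCont_ΓAdd : LimCont EtCoh.ΓAdd.{u} where
  gen {I} _ _ E c hc h1 h2 h3 x :=
    haveI := h1; haveI := h2; haveI := h3
    gen_ΓAdd hc x
  kill {I} _ _ E c hc h1 h2 h3 i y hy :=
    haveI := h1; haveI := h2; haveI := h3
    kill_ΓAdd hc i y hy

theorem limCont_ΓUnits : LimCont EtCoh.ΓUnits.{u} where
  gen {I} _ _ E c hc h1 h2 h3 x :=
    haveI := h1; haveI := h2; haveI := h3
    gen_ΓUnits hc x
  kill {I} _ _ E c hc h1 h2 h3 i y hy :=
    haveI := h1; haveI := h2; haveI := h3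
    kill_ΓUnits hc i y hy

variable {Φ : Scheme.{u}ᵒᵖ ⥤ AddCommGrpCat.{u + 1}} (hΦ : Presheaf.IsSheaf Scheme.etaleTopology Φ)
  {X Y : Scheme.{u}}

theorem HofPush_smallPush (f : X ⟶ Y) [PreservesFiniteLimits (EtCoh.pull f)] (n : ℕ)
    (x : Ext.{u + 1} (Z Y) (small hΦ Y) n) :
    EtLim.HofPush f (small hΦ X) n (x.comp (Ext.mk₀ (smallPush hΦ f)) (add_zero n)) = hp f (smallPull hΦ f) x := by
  rw [smallPull, ← hp_mk₀]
  exact HofPush_eq f (small hΦ X) n _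

theorem HF_map_eq {F G : EtCoh.Ab X} (f : F ⟶ G) (n : ℕ) (x : Ext.{u + 1} (Z X) F n) :
    (EtCoh.HF X n).map f x = x.comp (Ext.mk₀ f) (add_zero n) := rfl

theorem HGmPull_eq (f : X ⟶ Y) [PreservesFiniteLimits (EtCoh.pull f)] (n : ℕ)
    (x : Ext.{u + 1} (Z Y) (small EtCoh.isSheaf_ΓUnits Y) n) :
    EtLim.HGmPull f n x = hp f (smallPull EtCoh.isSheaf_ΓUnits f) x :=
  (congrArg (EtLim.HofPush f (EtCoh.Gm X) n) (HF_map_eq (EtLim.GmPush f) n x)).trans
    (HofPush_smallPush EtCoh.isSheaf_ΓUnits f n x)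

theorem HGaPull_eq (f : X ⟶ Y) [PreservesFiniteLimits (EtCoh.pull f)] (n : ℕ)
    (x : Ext.{u + 1} (Z Y) (small EtCoh.isSheaf_ΓAdd Y) n) :
    EtLim.HGaPull f n x = hp f (smallPull EtCoh.isSheaf_ΓAdd f) x :=
  (congrArg (EtLim.HofPush f (EtCoh.Ga X) n) (HF_map_eq (EtLim.GaPush f) n x)).trans
    (HofPush_smallPush EtCoh.isSheaf_ΓAdd f n x)

variable {ι : Type u} [Preorder ι] [Nonempty ι] [IsDirected ι (· ≤ ·)] {Xs : ιᵒᵖ ⥤ Scheme.{u}} {c : Cone Xs}

/-- Cohomology of a limit with coefficients in a big sheaf commuting with limits. -/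
theorem gen_and_kill_small (hC : LimCont Φ) (haff : ∀ ⦃a b : ιᵒᵖ⦄ (h : a ⟶ b), IsAffineHom (Xs.map h))
    (hqc : ∀ a, CompactSpace ↥(Xs.obj a)) (hqs : ∀ a, QuasiSeparatedSpace ↥(Xs.obj a)) (hc : IsLimit c)
    (n : ℕ) :
    (∀ ξ : Ext.{u + 1} (Z c.pt) (small hΦ c.pt) n, ∃ (j : ι)
      (ξj : Ext.{u + 1} (Z (Xs.obj (op j))) (small hΦ (Xs.obj (op j))) n),
        hp (c.π.app (op j)) (smallPull hΦ (c.π.app (op j))) ξj = ξ) ∧
    (∀ (j : ι) (ξj : Ext.{u + 1} (Z (Xs.obj (op j))) (small hΦ (Xs.obj (op j))) n),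
      hp (c.π.app (op j)) (smallPull hΦ (c.π.app (op j))) ξj = 0 →
        ∃ (k : ι) (hk : j ≤ k), hp (Xs.map (homOfLE hk).op) (smallPull hΦ (Xs.map (homOfLE hk).op)) ξj = 0) := by
  haveI := isIso_small hΦ Xs c hC haff hqc hqs hc
  let e := asIso (colimit.desc (smallG hΦ Xs c) (smallCocone hΦ Xs c))
  obtain ⟨h1, h2⟩ := gen_and_kill haff hqc hqs hc (fun i => small hΦ (Xs.obj (op i)))
    (fun i j hij => smallPull hΦ (Xs.map (homOfLE hij).op))
    (fun i j k hij hjk => smallPull_comp hΦ (Xs.map (homOfLE hjk).op) (Xs.map (homOfLE hij).op)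
      (Xs.map (homOfLE (hij.trans hjk)).op) (map_le_comp Xs hij hjk))
    (smallG hΦ Xs c) (fun i => Iso.refl _)
    (fun i j hij => by
      rw [Iso.refl_hom, Iso.refl_hom, Category.id_comp, smallG_map, smallTr]
      exact congrArg (_ ≫ ·) (Category.comp_id _).symm) n
  have hι : ∀ j, ((Iso.refl _ : (smallG hΦ Xs c).obj j ≅ (smallG hΦ Xs c).obj j).hom ≫ colimit.ι (smallG hΦ Xs c) j) ≫
      e.hom = smallPull hΦ (c.π.app (op j)) := fun j => by
    rw [Iso.refl_hom, Category.id_comp]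
    exact colimit.ι_desc (smallCocone hΦ Xs c) j
  refine ⟨fun ξ => ?_, fun j ξj hξj => h2 j ξj ?_⟩
  · obtain ⟨j, ξj, hj⟩ := h1 (ξ.comp (Ext.mk₀ e.inv) (add_zero n))
    refine ⟨j, ξj, ?_⟩
    rw [← hι j]
    refine (hp_comp (c.π.app (op j)) _ e.hom ξj).symm.trans ?_
    refine (congrArg (fun z => z.comp (Ext.mk₀ e.hom) (add_zero n)) hj).trans ?_
    rw [Ext.comp_assoc_of_third_deg_zero, Ext.mk₀_comp_mk₀, Iso.inv_hom_id, Ext.comp_mk₀_id]
  · rw [← hι j, ← hp_comp] at hξj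
    have := congrArg (fun z => z.comp (Ext.mk₀ e.inv) (add_zero n)) hξj
    simp only [Ext.comp_assoc_of_third_deg_zero, Ext.mk₀_comp_mk₀, Iso.hom_inv_id, Ext.comp_mk₀_id,
      Ext.zero_comp] at this
    exact this

end GrothLib.EtLimit
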