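import Mathlib.CategoryTheory.Presentable.Directed
import Mathlib.CategoryTheory.Limits.Final
import Mathlib.AlgebraicGeometry.AffineTransitionLimit

/-!
# Cofiltered diagrams of schemes and directed systems
-/

set_option autoImplicit false
universe u

open CategoryTheory CategoryTheory.Limits AlgebraicGeometry Opposite

noncomputable section

namespace GrothLib.EtLimit

/-- A cofiltered limit is a limit over a directed preorder. -/
theorem exists_reindex (I : Type u) [SmallCategory I] [IsCofiltered I] :
    ∃ (α : Type u) (_ : PartialOrder α) (_ : IsDirected α (· ≤ ·)) (_ : Nonempty α) (G : αᵒᵖ ⥤ I),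
      G.Initial := by
  obtain ⟨α, h₁, h₂, h₃, F, hF⟩ := IsFiltered.exists_directed Iᵒᵖ
  haveI : F.op.Initial := Functor.initial_op_of_final F
  exact ⟨α, h₁, h₂, h₃, F.op ⋙ (opOpEquivalence I).functor, inferInstance⟩

/-- The reindexed limit. -/
def isLimitReindex {I J : Type u} [SmallCategory I] [SmallCategory J] (G : J ⥤ I) [G.Initial] {D : I ⥤ Scheme.{u}}
    {c : Cone D} (hc : IsLimit c) : IsLimit (c.whisker G) :=
  (Functor.Initial.isLimitWhiskerEquiv G c).symm hc

end GrothLib.EtLimit
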