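import Groth.Agent.Lib.EtLimit.Resolution
import Groth.Agent.Lib.EtSite.Points

/-!
# Torsion sheaves and direct images along affine morphisms
-/

set_option autoImplicit false
set_option backward.isDefEq.respectTransparency false
universe u

open CategoryTheory CategoryTheory.Limits AlgebraicGeometry Opposite
open GrothLib.EtSite

noncomputable section

namespace GrothLib.EtLimit

variable {X Y : Scheme.{u}}

/-- Sections of a torsion sheaf over a quasi-compact object have finite order. -/
theorem isOfFinAddOrder_of_compact {F : EtCoh.Ab X} (hF : EtCoh.IsTorsion F) (T : X.Etale)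
    [CompactSpace T.left] (s : EtCoh.sect F T) : IsOfFinAddOrder s := by
  have h := hF T s
  choose V g hv hs using h
  choose v hv using hv
  obtain ⟨t, ht⟩ := isCompact_univ.elim_finite_subcover (fun x => Set.range (g x).left.base)
    (fun x => GrothLib.EtBasicB.isOpen_range_left (g x)) (fun x _ => Set.mem_iUnion.2 ⟨x, v x, hv x⟩)
  refine isOfFinAddOrder_iff_nsmul_eq_zero.2 ⟨∏ x ∈ t, addOrderOf (F.obj.map (g x).op s),
    Finset.prod_pos fun x _ => (hs x).addOrderOf_pos, ?_⟩
  refine section_eq_zero_of_germs F T _ fun Ω _ _ ξ p => ?_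
  obtain ⟨x, hx, w, hw⟩ := Set.mem_iUnion₂.1 (ht (Set.mem_univ (p.left.base (default : Spec (CommRingCat.of Ω)))))
  obtain ⟨p', hp', -⟩ := GrothLib.EtBasicB.exists_fib_lift ξ (g x) p w hw
  rw [← hp', ← germ_map]
  obtain ⟨k, hk⟩ := Finset.dvd_prod_of_mem (fun x => addOrderOf (F.obj.map (g x).op s)) hx
  rw [hk, map_nsmul, mul_comm, mul_nsmul', addOrderOf_nsmul_eq_zero, nsmul_zero, map_zero]

/-- Direct images of torsion sheaves along affine morphisms are torsion. -/
theorem isTorsion_push (f : X ⟶ Y) [IsAffineHom f] {F : EtCoh.Ab X} (hF : EtCoh.IsTorsion F) :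
    EtCoh.IsTorsion ((EtCoh.push f).obj F) := by
  intro U s x
  obtain ⟨_, ⟨A, hA, rfl⟩, hxA, -⟩ := U.left.isBasis_affineOpens.exists_subset_of_mem_open
    (Set.mem_univ x) isOpen_univ
  let A₀ : U.left.Opens := A
  refine ⟨opensObj U A₀, opensHom U A₀, ⟨(⟨x, hxA⟩ : A₀), rfl⟩, ?_⟩
  haveI : IsAffine A₀.toScheme := hA
  haveI : CompactSpace ((EtCoh.bc f).obj (opensObj U A₀)).left :=
    (qcqs_bc f (V := opensObj U A₀) ⟨isCompact_iff_compactSpace.1 hA.isCompact,
      (inferInstance : QuasiSeparatedSpace ↥A₀.toScheme)⟩).1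
  exact isOfFinAddOrder_of_compact hF ((EtCoh.bc f).obj (opensObj U A₀)) _

end GrothLib.EtLimit
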