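import Groth.Agent.Lib.EtLimit.PushH
import Groth.Agent.Lib.EtLimit.Reindex
import Groth.Agent.Lib.EtLimit.Torsion

/-!
# Cohomological dimension of a limit
-/

set_option autoImplicit false
set_option backward.isDefEq.respectTransparency false
universe u

open CategoryTheory CategoryTheory.Limits CategoryTheory.Abelian AlgebraicGeometry Opposite
open GrothLib.EtColim (Z)
open scoped GrothLib.EtFast

noncomputable section

namespace GrothLib.EtLimit

/-- The cohomological dimension passes to limits. -/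
theorem cdLE_limit {I : Type u} [SmallCategory I] [IsCofiltered I] (D : I ⥤ Scheme.{u})
    (haff : ∀ ⦃i j : I⦄ (a : i ⟶ j), IsAffineHom (D.map a))
    (hqc : ∀ i, CompactSpace ↥(D.obj i)) (hqs : ∀ i, QuasiSeparatedSpace ↥(D.obj i))
    (c : Cone D) (hc : IsLimit c) (d : ℕ) (h : ∀ i, EtCoh.CohDimLE (D.obj i) d) :
    EtCoh.CohDimLE c.pt d := by
  obtain ⟨α, hord, hdir, hne, G, hG⟩ := exists_reindex I
  intro F hF q hq
  obtain ⟨h1, -⟩ := gen_and_kill_push (Xs := G ⋙ D) (c := c.whisker G) (fun a b f => haff (G.map f))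
    (fun a => hqc _) (fun a => hqs _) (isLimitReindex G hc) F q
  haveI : ∀ (i j : I) (a : i ⟶ j), IsAffineHom (D.map a) := fun i j a => haff a
  suffices ∀ ξ : Ext.{u + 1} (Z c.pt) F q, ξ = 0 from ⟨fun a b => (this a).trans (this b).symm⟩
  intro ξ
  obtain ⟨j, ξj, rfl⟩ := h1 ξ
  haveI := isAffineHom_π_app D c hc (G.obj (op j))
  have hsub : Subsingleton (EtCoh.H (D.obj (G.obj (op j))) ((EtCoh.push (c.π.app (G.obj (op j)))).obj F) q) :=
    h _ _ (isTorsion_push _ hF) q hq
  have h0 : ξj = 0 := hsub.elim _ _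
  rw [h0]
  simp [hp]

end GrothLib.EtLimit
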