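import Groth.Agent.Lib.EtLimit.ExtRes
import Groth.Agent.Lib.EtFastInst

/-!
# Classes at the stages of a limit: killing and generation
-/

set_option autoImplicit false
set_option backward.isDefEq.respectTransparency false
universe u

open CategoryTheory CategoryTheory.Limits CategoryTheory.Abelian AlgebraicGeometry Opposite

open scoped GrothLib.EtFast

noncomputable section

namespace GrothLib.EtLimit

section conj

variable {C : Type*} [Category C] [Abelian C] [HasExt.{u + 1} C]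

/-- Transport of a class along isomorphisms. -/
def cj {A A' B B' : C} (α : A ≅ A') (β : B ≅ B') {n : ℕ} : Ext.{u + 1} A B n →+ Ext.{u + 1} A' B' n :=
  AddMonoidHom.mk' (fun x => ((Ext.mk₀ α.inv).comp x (zero_add n)).comp (Ext.mk₀ β.hom) (add_zero n))
    (fun a b => by simp)

theorem cj_apply {A A' B B' : C} (α : A ≅ A') (β : B ≅ B') {n : ℕ} (x : Ext.{u + 1} A B n) :
    cj α β x = ((Ext.mk₀ α.inv).comp x (zero_add n)).comp (Ext.mk₀ β.hom) (add_zero n) := rfl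

theorem cj_trans {A A' A'' B B' B'' : C} (α : A ≅ A') (β : B ≅ B') (α' : A' ≅ A'') (β' : B' ≅ B'') {n : ℕ}
    (x : Ext.{u + 1} A B n) : cj α' β' (cj α β x) = cj (α ≪≫ α') (β ≪≫ β') x := by
  simp [cj_apply, Ext.comp_assoc_of_second_deg_zero, Ext.comp_assoc_of_third_deg_zero,
    Ext.mk₀_comp_mk₀_assoc, Ext.mk₀_comp_mk₀]

theorem cj_refl {A B : C} {n : ℕ} (x : Ext.{u + 1} A B n) : cj (Iso.refl A) (Iso.refl B) x = x := by
  simp [cj_apply]

theorem cj_symm {A A' B B' : C} (α : A ≅ A') (β : B ≅ B') {n : ℕ} (x : Ext.{u + 1} A' B' n) :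
    cj α β (cj α.symm β.symm x) = x := by
  rw [cj_trans, Iso.symm_self_id, Iso.symm_self_id, cj_refl]

theorem cj_mk₀ {A A' B B' : C} (α : A ≅ A') (β : B ≅ B') (φ : A ⟶ B) :
    cj α β (Ext.mk₀ φ) = Ext.mk₀ (α.inv ≫ φ ≫ β.hom) := by
  simp [cj_apply, Ext.mk₀_comp_mk₀, Category.assoc]

theorem cj_eq_zero_iff {A A' B B' : C} (α : A ≅ A') (β : B ≅ B') {n : ℕ} (x : Ext.{u + 1} A B n) :
    cj α β x = 0 ↔ x = 0 := by
  refine ⟨fun h => ?_, fun h => by rw [h, map_zero]⟩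
  have := congrArg (cj α.symm β.symm) h
  rwa [map_zero, cj_trans, Iso.self_symm_id, Iso.self_symm_id, cj_refl] at this

variable {D : Type*} [Category D] [Abelian D] [HasExt.{u + 1} D] (F : C ⥤ D) [F.Additive]
  [PreservesFiniteLimits F] [PreservesFiniteColimits F]

theorem map_cj {A A' B B' : C} (α : A ≅ A') (β : B ≅ B') {n : ℕ} (x : Ext.{u + 1} A B n) :
    (cj α β x).mapExactFunctor F = cj (F.mapIso α) (F.mapIso β) (x.mapExactFunctor F) := by
  rw [cj_apply, cj_apply, Ext.mapExactFunctor_comp, Ext.mapExactFunctor_comp, Ext.mapExactFunctor_mk₀,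
    Ext.mapExactFunctor_mk₀]
  rfl

end conj

variable {X Y Z S : Scheme.{u}}

theorem map_map (f : X ⟶ Y) (t : Y ⟶ Z) (t' : X ⟶ Z) (w : f ≫ t = t') {A B : EtCoh.Ab Z} {n : ℕ}
    (x : Ext.{u + 1} A B n) :
    x.mapExactFunctor (EtCoh.pull t') =
      cj ((pV f t t' w).app A) ((pV f t t' w).app B)
        ((x.mapExactFunctor (EtCoh.pull t)).mapExactFunctor (EtCoh.pull f)) := by
  haveI : PreservesFiniteLimits (EtCoh.pull t ⋙ EtCoh.pull f) := comp_preservesFiniteLimits _ _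
  haveI : PreservesFiniteColimits (EtCoh.pull t ⋙ EtCoh.pull f) := comp_preservesFiniteColimits _ _
  have hn := GrothLib.PullH25.mapExactFunctor_natTrans (F := EtCoh.pull t ⋙ EtCoh.pull f) (EtCoh.pull t')
    (pV f t t' w).hom x
  rw [GrothLib.PullH25.mapExactFunctor_mapExactFunctor, cj_apply, Ext.comp_assoc_of_third_deg_zero]
  refine Eq.trans ?_ (congrArg (fun z => (Ext.mk₀ _).comp z (zero_add n)) hn)
  exact ((Ext.mk₀_comp_mk₀_assoc _ _ _).trans
    ((congrArg (fun φ => (Ext.mk₀ φ).comp _ (zero_add n)) ((pV f t t' w).inv_hom_id_app A)).trans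
      (Ext.mk₀_id_comp _))).symm

theorem res_eq_cj (f : X ⟶ Y) (t : Y ⟶ S) (t' : X ⟶ S) (w : f ≫ t = t') {A B : EtCoh.Ab S} {n : ℕ}
    (x : Ext.{u + 1} ((EtCoh.pull t).obj A) ((EtCoh.pull t).obj B) n) :
    res f t t' w A B n x = cj ((pV f t t' w).app A) ((pV f t t' w).app B) (x.mapExactFunctor (EtCoh.pull f)) :=
  rfl

theorem pVIso_assoc {W : Scheme.{u}} (h : W ⟶ X) (g : X ⟶ Y) (t : Y ⟶ S) (k : W ⟶ Y) (t' : X ⟶ S)
    (t'' : W ⟶ S) (hk : h ≫ g = k) (w₁ : g ≫ t = t') (w₂ : h ≫ t' = t'') (w₃ : k ≫ t = t'')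
    (G : EtCoh.Ab S) :
    (EtCoh.pull h).mapIso ((pV g t t' w₁).app G) ≪≫ (pV h t' t'' w₂).app G =
      (pV h g k hk).app ((EtCoh.pull t).obj G) ≪≫ (pV k t t'' w₃).app G :=
  Iso.ext (pV_assoc h g t k t' t'' hk w₁ w₂ w₃ G)

section Stages

variable {I : Type u} [SmallCategory I] (D : I ⥤ Scheme.{u}) (c : Cone D)

theorem w_π {j k : I} (a : k ⟶ j) : c.π.app k ≫ D.map a = c.π.app j := c.w a

theorem w_map {j k l : I} (a : k ⟶ j) (b : l ⟶ k) : D.map b ≫ D.map a = D.map (b ≫ a) := (D.map_comp _ _).symm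

/-- Classes dying at the limit die at a stage. -/
def Kill (n : ℕ) {j : I} (N F : EtCoh.Ab (D.obj j)) : Prop :=
  ∀ y : Ext.{u + 1} N F n, y.mapExactFunctor (EtCoh.pull (c.π.app j)) = 0 →
    ∃ (k : I) (a : k ⟶ j), y.mapExactFunctor (EtCoh.pull (D.map a)) = 0

/-- A class at the limit coming from a stage. -/
def Reach {n : ℕ} {j : I} {N F : EtCoh.Ab (D.obj j)}
    (ξ : Ext.{u + 1} ((EtCoh.pull (c.π.app j)).obj N) ((EtCoh.pull (c.π.app j)).obj F) n) : Prop :=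
  ∃ (k : I) (a : k ⟶ j) (y : Ext.{u + 1} ((EtCoh.pull (D.map a)).obj N) ((EtCoh.pull (D.map a)).obj F) n),
    res (c.π.app k) (D.map a) (c.π.app j) (w_π D c a) N F n y = ξ

/-- All classes at the limit come from a stage. -/
def Gen (n : ℕ) {j : I} (N F : EtCoh.Ab (D.obj j)) : Prop :=
  ∀ ξ : Ext.{u + 1} ((EtCoh.pull (c.π.app j)).obj N) ((EtCoh.pull (c.π.app j)).obj F) n, Reach D c ξ

variable {D c}

theorem map_π_eq_zero_iff {j k : I} (a : k ⟶ j) {N F : EtCoh.Ab (D.obj j)} {n : ℕ} (y : Ext.{u + 1} N F n) :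
    (y.mapExactFunctor (EtCoh.pull (D.map a))).mapExactFunctor (EtCoh.pull (c.π.app k)) = 0 ↔
      y.mapExactFunctor (EtCoh.pull (c.π.app j)) = 0 := by
  exact (cj_eq_zero_iff _ _ _).symm.trans
    (iff_of_eq (congrArg (· = 0) (map_map (c.π.app k) (D.map a) (c.π.app j) (w_π D c a) y).symm))

theorem map_map_eq_zero_iff {j k l : I} (a : k ⟶ j) (b : l ⟶ k) {N F : EtCoh.Ab (D.obj j)} {n : ℕ}
    (y : Ext.{u + 1} N F n) :
    (y.mapExactFunctor (EtCoh.pull (D.map a))).mapExactFunctor (EtCoh.pull (D.map b)) = 0 ↔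
      y.mapExactFunctor (EtCoh.pull (D.map (b ≫ a))) = 0 := by
  rw [map_map _ _ _ (w_map D a b) y, cj_eq_zero_iff]

/-- Killing for the pullbacks to a stage gives killing. -/
theorem kill_of_stage {j k : I} (a : k ⟶ j) {N F : EtCoh.Ab (D.obj j)} {n : ℕ} {y : Ext.{u + 1} N F n}
    (hy : y.mapExactFunctor (EtCoh.pull (c.π.app j)) = 0)
    (h : Kill D c n ((EtCoh.pull (D.map a)).obj N) ((EtCoh.pull (D.map a)).obj F)) :
    ∃ (l : I) (b : l ⟶ j), y.mapExactFunctor (EtCoh.pull (D.map b)) = 0 := by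
  obtain ⟨l, b, hb⟩ := h _ ((map_π_eq_zero_iff a y).2 hy)
  exact ⟨l, b ≫ a, (map_map_eq_zero_iff a b y).1 hb⟩

/-- A class reached from a stage, seen from below, is reached. -/
theorem reach_of_stage {j k : I} (a : k ⟶ j) {N F : EtCoh.Ab (D.obj j)} {n : ℕ}
    (ξ : Ext.{u + 1} ((EtCoh.pull (c.π.app j)).obj N) ((EtCoh.pull (c.π.app j)).obj F) n)
    (h : Reach D c (cj ((pV (c.π.app k) (D.map a) (c.π.app j) (w_π D c a)).app N).symm
      ((pV (c.π.app k) (D.map a) (c.π.app j) (w_π D c a)).app F).symm ξ)) :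
    Reach D c ξ := by
  obtain ⟨l, b, y, hy⟩ := h
  let P := pV (D.map b) (D.map a) (D.map (b ≫ a)) (w_map D a b)
  refine ⟨l, b ≫ a, cj (P.app N) (P.app F) y, ?_⟩
  rw [res_eq_cj, map_cj]
  refine (cj_trans _ _ _ _ _).trans ?_
  refine (congrArg₂ (fun α β => cj α β (y.mapExactFunctor (EtCoh.pull (c.π.app l))))
    (pVIso_assoc (c.π.app l) (D.map b) (D.map a) (c.π.app k) (D.map (b ≫ a)) (c.π.app j) (w_π D c b)
      (w_map D a b) (w_π D c (b ≫ a)) (w_π D c a) N)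
    (pVIso_assoc (c.π.app l) (D.map b) (D.map a) (c.π.app k) (D.map (b ≫ a)) (c.π.app j) (w_π D c b)
      (w_map D a b) (w_π D c (b ≫ a)) (w_π D c a) F)).trans ?_
  refine (cj_trans _ _ _ _ _).symm.trans ?_
  rw [res_eq_cj] at hy
  exact (congrArg (cj _ _) hy).trans (cj_symm _ _ _)

theorem reach_map {j : I} {N F : EtCoh.Ab (D.obj j)} {n : ℕ} (y : Ext.{u + 1} N F n) :
    Reach D c (y.mapExactFunctor (EtCoh.pull (c.π.app j))) := by
  refine ⟨j, 𝟙 j, y.mapExactFunctor (EtCoh.pull (D.map (𝟙 j))), ?_⟩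
  rw [res_eq_cj, ← map_map]

theorem res_later {j k l : I} (a : k ⟶ j) (b : l ⟶ k) {N F : EtCoh.Ab (D.obj j)} {n : ℕ}
    (y : Ext.{u + 1} ((EtCoh.pull (D.map a)).obj N) ((EtCoh.pull (D.map a)).obj F) n) :
    res (c.π.app l) (D.map (b ≫ a)) (c.π.app j) (w_π D c (b ≫ a)) N F n
        (res (D.map b) (D.map a) (D.map (b ≫ a)) (w_map D a b) N F n y) =
      res (c.π.app k) (D.map a) (c.π.app j) (w_π D c a) N F n y :=
  res_res (c.π.app l) (D.map b) (c.π.app k) (w_π D c b) (D.map a) (D.map (b ≫ a)) (c.π.app j)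
    (w_map D a b) (w_π D c (b ≫ a)) (w_π D c a) y

/-- Reachability is invariant under isomorphisms of the first sheaf. -/
theorem Reach.of_iso {j : I} {N N' F : EtCoh.Ab (D.obj j)} (e : N ≅ N') {n : ℕ}
    (ξ : Ext.{u + 1} ((EtCoh.pull (c.π.app j)).obj N) ((EtCoh.pull (c.π.app j)).obj F) n)
    (h : Reach D c (cj ((EtCoh.pull (c.π.app j)).mapIso e) (Iso.refl _) ξ)) : Reach D c ξ := by
  obtain ⟨k, a, y, hy⟩ := h
  refine ⟨k, a, cj ((EtCoh.pull (D.map a)).mapIso e.symm) (Iso.refl _) y, ?_⟩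
  rw [res_eq_cj] at hy ⊢
  rw [map_cj]
  refine (cj_trans _ _ _ _ _).trans ?_
  have e1 : (EtCoh.pull (c.π.app k)).mapIso ((EtCoh.pull (D.map a)).mapIso e.symm) ≪≫
      (pV (c.π.app k) (D.map a) (c.π.app j) (w_π D c a)).app N =
      (pV (c.π.app k) (D.map a) (c.π.app j) (w_π D c a)).app N' ≪≫ (EtCoh.pull (c.π.app j)).mapIso e.symm :=
    Iso.ext ((pV (c.π.app k) (D.map a) (c.π.app j) (w_π D c a)).hom.naturality e.inv)
  have e2 : (EtCoh.pull (c.π.app k)).mapIso (Iso.refl ((EtCoh.pull (D.map a)).obj F)) ≪≫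
      (pV (c.π.app k) (D.map a) (c.π.app j) (w_π D c a)).app F =
      (pV (c.π.app k) (D.map a) (c.π.app j) (w_π D c a)).app F ≪≫ Iso.refl _ := by
    ext
    simp
  refine (congrArg₂ (fun α β => cj α β (y.mapExactFunctor (EtCoh.pull (c.π.app k)))) e1 e2).trans ?_
  refine (cj_trans _ _ _ _ _).symm.trans ?_
  refine (congrArg _ hy).trans ?_
  refine (cj_trans _ _ _ _ _).trans ?_
  rw [← Functor.mapIso_trans, Iso.self_symm_id, Functor.mapIso_refl, Iso.refl_trans]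
  exact cj_refl _

variable [IsCofiltered I]

theorem Reach.sub {j : I} {N F : EtCoh.Ab (D.obj j)} {n : ℕ}
    {ξ ξ' : Ext.{u + 1} ((EtCoh.pull (c.π.app j)).obj N) ((EtCoh.pull (c.π.app j)).obj F) n}
    (h : Reach D c ξ) (h' : Reach D c ξ') : Reach D c (ξ - ξ') := by
  obtain ⟨k, a, y, rfl⟩ := h
  obtain ⟨k', a', y', rfl⟩ := h'
  obtain ⟨l, b, b', e⟩ := IsCofiltered.cospan a a'
  refine ⟨l, b ≫ a, res (D.map b) (D.map a) (D.map (b ≫ a)) (w_map D a b) N F n y -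
    res (D.map b') (D.map a') (D.map (b ≫ a)) (by rw [e]; exact w_map D a' b') N F n y', ?_⟩
  rw [map_sub, res_later, res_res (c.π.app l) (D.map b') (c.π.app k') (w_π D c b') (D.map a')
    (D.map (b ≫ a)) (c.π.app j) (by rw [e]; exact w_map D a' b') (w_π D c (b ≫ a)) (w_π D c a') y']
  rfl

end Stages

end GrothLib.EtLimit
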