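import Groth.Agent.Lib.EtDer.PullConst

/-!
# Coherence of the composition isomorphisms of inverse images on small étale sites
-/

set_option autoImplicit false
set_option backward.isDefEq.respectTransparency false
universe u

open CategoryTheory CategoryTheory.Limits AlgebraicGeometry Opposite

noncomputable section

namespace GrothLib.EtLimit

variable {X Y Z S : Scheme.{u}}

/-- Direct images along a commutative triangle compose. -/
def qV (f : X ⟶ Y) (t : Y ⟶ Z) (t' : X ⟶ Z) (w : f ≫ t = t') :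
    EtCoh.push f ⋙ EtCoh.push t ≅ EtCoh.push t' :=
  EtCoh.pushComp t f ≪≫ EtCoh.pushCongr w

/-- Inverse images along a commutative triangle compose. -/
def pV (f : X ⟶ Y) (t : Y ⟶ Z) (t' : X ⟶ Z) (w : f ≫ t = t') :
    EtCoh.pull t ⋙ EtCoh.pull f ≅ EtCoh.pull t' :=
  (EtCore.pullComp f t).symm ≪≫ EtCore.pullCongr w

theorem over_comp_left {W : Scheme.{u}} {A B C : MorphismProperty.Over EtCoh.etaleMP.{u} ⊤ W} (a : A ⟶ B) (b : B ⟶ C) :
    (a ≫ b).left = a.left ≫ b.left := rfl

theorem pullback_hom {W W' : Scheme.{u}} (f : W ⟶ W') (A : MorphismProperty.Over EtCoh.etaleMP.{u} ⊤ W') :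
    ((MorphismProperty.Over.pullback EtCoh.etaleMP ⊤ f).obj A).hom = pullback.snd A.hom f := rfl

theorem pushCongr_refl_app (f : X ⟶ Y) (H : EtCoh.Ab X) :
    (EtCoh.pushCongr (rfl : f = f)).hom.app H = 𝟙 _ := by
  apply Sheaf.hom_ext
  apply NatTrans.ext
  funext V
  refine (congrArg H.obj.map (?_ : _ = 𝟙 _)).trans (H.obj.map_id _)
  apply Quiver.Hom.unop_inj
  refine MorphismProperty.Over.Hom.ext ?_
  apply pullback.hom_ext <;> simp [EtCoh.bc, MorphismProperty.Over.pullbackCongr] <;> exact Category.id_comp _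

/-- The unit of a composite. -/
theorem unit_pV (f : X ⟶ Y) (t : Y ⟶ Z) (t' : X ⟶ Z) (w : f ≫ t = t') (G : EtCoh.Ab Z) :
    (EtCoh.pullPushAdj t').unit.app G =
      (EtCoh.pullPushAdj t).unit.app G ≫ (EtCoh.push t).map ((EtCoh.pullPushAdj f).unit.app _) ≫
        (qV f t t' w).hom.app _ ≫ (EtCoh.push t').map ((pV f t t' w).hom.app G) := by
  subst w
  have e : (qV f t (f ≫ t) rfl).hom.app ((EtCoh.pull f).obj ((EtCoh.pull t).obj G)) =
      (EtCoh.pushComp t f).hom.app _ := by
    rw [qV, Iso.trans_hom, NatTrans.comp_app, pushCongr_refl_app]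
    exact Category.comp_id _
  rw [e, GrothLib.EtDer.unit_pullComp f t G]
  simp [pV, EtCore.pullCongr]

/-- Composition of direct images is associative. -/
theorem qV_assoc {W : Scheme.{u}} (h : W ⟶ X) (g : X ⟶ Y) (t : Y ⟶ S) (k : W ⟶ Y) (t' : X ⟶ S)
    (t'' : W ⟶ S) (hk : h ≫ g = k) (w₁ : g ≫ t = t') (w₂ : h ≫ t' = t'') (w₃ : k ≫ t = t'')
    (H : EtCoh.Ab W) :
    (qV g t t' w₁).hom.app ((EtCoh.push h).obj H) ≫ (qV h t' t'' w₂).hom.app H =
      (EtCoh.push t).map ((qV h g k hk).hom.app H) ≫ (qV k t t'' w₃).hom.app H := by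
  subst hk w₁
  apply Sheaf.hom_ext
  apply NatTrans.ext
  funext V
  simp [qV, EtCoh.pushComp, EtCoh.pushCongr, Functor.sheafPushforwardContinuousComp', Functor.sheafPushforwardContinuousIso,
    Functor.sheafPushforwardContinuousNatTrans, Functor.sheafPushforwardContinuousComp, ← Functor.map_comp]
  subst w₂
  congr 1
  apply Quiver.Hom.unop_inj
  refine MorphismProperty.Over.Hom.ext ?_
  erw [over_comp_left, over_comp_left, over_comp_left, over_comp_left, over_comp_left, over_comp_left]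
  apply pullback.hom_ext
  on_goal 1 => apply pullback.hom_ext
  all_goals
    simp [EtCoh.bc, MorphismProperty.Over.pullbackCongr, MorphismProperty.Over.isoMk, pullback.condition, pullback_hom]
    repeat erw [Category.id_comp]
    try simp [pullback.condition]
  apply pullback.hom_ext <;> simp [pullback.condition]

/-- The composite of the three adjunctions. -/
abbrev adj₃ {W : Scheme.{u}} (h : W ⟶ X) (g : X ⟶ Y) (t : Y ⟶ S) :=
  (EtCoh.pullPushAdj t).comp ((EtCoh.pullPushAdj g).comp (EtCoh.pullPushAdj h))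

theorem adj₃_homEquiv {W : Scheme.{u}} (h : W ⟶ X) (g : X ⟶ Y) (t : Y ⟶ S) (G : EtCoh.Ab S) (H : EtCoh.Ab W)
    (φ : (EtCoh.pull h).obj ((EtCoh.pull g).obj ((EtCoh.pull t).obj G)) ⟶ H) :
    (adj₃ h g t).homEquiv G H φ =
      (EtCoh.pullPushAdj t).unit.app G ≫ (EtCoh.push t).map ((EtCoh.pullPushAdj g).unit.app _) ≫
        (EtCoh.push t).map ((EtCoh.push g).map ((EtCoh.pullPushAdj h).unit.app _)) ≫
          (EtCoh.push t).map ((EtCoh.push g).map ((EtCoh.push h).map φ)) := by
  rw [Adjunction.homEquiv_unit]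
  simp [Adjunction.comp]

/-- Composition of inverse images is associative. -/
theorem pV_assoc {W : Scheme.{u}} (h : W ⟶ X) (g : X ⟶ Y) (t : Y ⟶ S) (k : W ⟶ Y) (t' : X ⟶ S)
    (t'' : W ⟶ S) (hk : h ≫ g = k) (w₁ : g ≫ t = t') (w₂ : h ≫ t' = t'') (w₃ : k ≫ t = t'')
    (G : EtCoh.Ab S) :
    (EtCoh.pull h).map ((pV g t t' w₁).hom.app G) ≫ (pV h t' t'' w₂).hom.app G =
      (pV h g k hk).hom.app ((EtCoh.pull t).obj G) ≫ (pV k t t'' w₃).hom.app G := by
  let Q := fun H : EtCoh.Ab W =>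
    (qV g t t' w₁).hom.app ((EtCoh.push h).obj H) ≫ (qV h t' t'' w₂).hom.app H
  apply ((adj₃ h g t).homEquiv _ _).injective
  refine (cancel_mono (Q ((EtCoh.pull t'').obj G))).1 (Eq.trans (b := (EtCoh.pullPushAdj t'').unit.app G) ?_ ?_)
  · have n1 := fun {A B : EtCoh.Ab X} (a : A ⟶ B) => (qV g t t' w₁).hom.naturality a
    have n2 := fun {A B : EtCoh.Ab W} (a : A ⟶ B) => (qV h t' t'' w₂).hom.naturality a
    have n3 := (EtCoh.pullPushAdj h).unit.naturality ((pV g t t' w₁).hom.app G)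
    simp only [Functor.comp_map, Functor.id_map] at n1 n2 n3
    rw [adj₃_homEquiv, unit_pV h t' t'' w₂ G, unit_pV g t t' w₁ G]
    simp only [Q, Functor.map_comp, Category.assoc]
    rw [reassoc_of% (n1 ((EtCoh.push h).map ((pV h t' t'' w₂).hom.app G))), n2,
      reassoc_of% (n1 ((EtCoh.push h).map ((EtCoh.pull h).map ((pV g t t' w₁).hom.app G)))),
      reassoc_of% (n1 ((EtCoh.pullPushAdj h).unit.app _))]
    rw [← Functor.map_comp_assoc (EtCoh.push t') _ ((EtCoh.push h).map _),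
      ← Functor.map_comp_assoc (EtCoh.push t') ((pV g t t' w₁).hom.app G)]
    congr 3
    refine congrArg (fun z => (EtCoh.push t').map z ≫ _) ?_
    exact n3.symm
  · have n1 := fun {A B : EtCoh.Ab W} (a : A ⟶ B) => (qV h g k hk).hom.naturality a
    have n2 := fun {A B : EtCoh.Ab W} (a : A ⟶ B) => (qV k t t'' w₃).hom.naturality a
    have n3 := fun {A B : EtCoh.Ab Y} (a : A ⟶ B) => (qV k t t'' w₃).hom.naturality
    simp only [Functor.comp_map, Functor.id_map] at n1 n2
    rw [adj₃_homEquiv, unit_pV k t t'' w₃ G, unit_pV h g k hk ((EtCoh.pull t).obj G)]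
    simp only [Q, Functor.map_comp, Category.assoc]
    rw [qV_assoc h g t k t' t'' hk w₁ w₂ w₃]
    have m1 : ∀ {A B : EtCoh.Ab W} (a : A ⟶ B) {T : EtCoh.Ab S}
        (r : (EtCoh.push t).obj ((EtCoh.push k).obj B) ⟶ T),
        (EtCoh.push t).map ((EtCoh.push g).map ((EtCoh.push h).map a)) ≫
            (EtCoh.push t).map ((qV h g k hk).hom.app B) ≫ r =
          (EtCoh.push t).map ((qV h g k hk).hom.app A) ≫ (EtCoh.push t).map ((EtCoh.push k).map a) ≫ r :=
      fun {A B} a {T} r => by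
        rw [← Functor.map_comp_assoc, n1 a, Functor.map_comp_assoc]
    rw [m1, m1, n2]

end GrothLib.EtLimit
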