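import Groth.Agent.Lib.EtColim.Cohomology
import Groth.Agent.Lib.EtFastInst

/-!
# `Ext` out of `ℤ` and filtered colimits of sheaves
-/

set_option autoImplicit false
set_option backward.isDefEq.respectTransparency false
universe u

open CategoryTheory CategoryTheory.Limits CategoryTheory.Abelian AlgebraicGeometry Opposite
open GrothLib.EtColim (Z)
open scoped GrothLib.EtFast

noncomputable section

namespace GrothLib.EtLimit

variable {X : Scheme.{u}}

/-- Every element of a colimit of groups comes from a stage. -/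
theorem exists_stage_rep {J : Type u} [SmallCategory J] [IsFiltered J] {A : Type*} [Category A] (G : J ⥤ A)
    (Φ : A ⥤ AddCommGrpCat.{u + 1}) [PreservesColimit G Φ] [HasColimit G] (x : Φ.obj (colimit G)) :
    ∃ (j : J) (η : Φ.obj (G.obj j)), Φ.map (colimit.ι G j) η = x :=
  Concrete.isColimit_exists_rep (G ⋙ Φ) (isColimitOfPreserves Φ (colimit.isColimit G)) x

/-- In a filtered colimit of groups, what dies dies at a stage. -/
theorem eq_zero_stage {J : Type u} [SmallCategory J] [IsFiltered J] {A : Type*} [Category A] (G : J ⥤ A)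
    (Φ : A ⥤ AddCommGrpCat.{u + 1}) [PreservesColimit G Φ] [HasColimit G] (j : J) (η : Φ.obj (G.obj j))
    (h : Φ.map (colimit.ι G j) η = 0) : ∃ (k : J) (e : j ⟶ k), Φ.map (G.map e) η = 0 := by
  let hl := isColimitOfPreserves Φ (colimit.isColimit G)
  obtain ⟨k, e, he⟩ := (Types.FilteredColimit.isColimit_eq_iff'
    (isColimitOfPreserves (forget AddCommGrpCat.{u + 1}) hl) η (0 : Φ.obj (G.obj j))).1
    (h.trans (map_zero (Φ.map (colimit.ι G j)).hom).symm)
  exact ⟨k, e, he.trans (map_zero (Φ.map (G.map e)).hom)⟩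

variable [CompactSpace X] [QuasiSeparatedSpace X] {ι : Type u} [Preorder ι] [Nonempty ι] [IsDirected ι (· ≤ ·)]

/-- A stage killing a class of a filtered colimit of sheaves. -/
theorem exists_le_colim_eq_zero (G : ι ⥤ EtCoh.Ab X) (j : ι) (n : ℕ)
    (η : Ext.{u + 1} (Z X) (G.obj j) n) (h : η.comp (Ext.mk₀ (colimit.ι G j)) (add_zero n) = 0) :
    ∃ (k : ι) (hjk : j ≤ k), η.comp (Ext.mk₀ (G.map (homOfLE hjk))) (add_zero n) = 0 := by
  haveI := GrothLib.EtColim.preservesColimitsOfShape_HF_small (X := X) n ι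
  obtain ⟨k, e, he⟩ := eq_zero_stage G (EtCoh.HF X n) j η
    ((GrothLib.EtColim.HF_map_apply (colimit.ι G j) n η).trans h)
  have hjk : j ≤ k := e.le
  obtain rfl : e = homOfLE hjk := Subsingleton.elim _ _
  exact ⟨k, hjk, (GrothLib.EtColim.HF_map_apply (G.map (homOfLE hjk)) n η).symm.trans he⟩

/-- A class of a filtered colimit of sheaves comes from a stage. -/
theorem exists_colim_eq (G : ι ⥤ EtCoh.Ab X) (n : ℕ) (ξ : Ext.{u + 1} (Z X) (colimit G) n) :
    ∃ (i : ι) (η : Ext.{u + 1} (Z X) (G.obj i) n), η.comp (Ext.mk₀ (colimit.ι G i)) (add_zero n) = ξ := by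
  haveI := GrothLib.EtColim.preservesColimitsOfShape_HF_small (X := X) n ι
  obtain ⟨i, η, hη⟩ := exists_stage_rep G (EtCoh.HF X n) ξ
  exact ⟨i, η, (GrothLib.EtColim.HF_map_apply (colimit.ι G i) n η).symm.trans hη⟩

end GrothLib.EtLimit
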