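import Groth.Agent.Lib.EtLimit.Coherence
import Groth.Agent.Lib.EtDer.HpullComp
import Groth.Agent.Lib.EtFastInst

/-!
# Pullback of `Ext`-classes between sheaves coming from a base scheme
-/

set_option autoImplicit false
set_option backward.isDefEq.respectTransparency false
universe u

open CategoryTheory CategoryTheory.Limits CategoryTheory.Abelian AlgebraicGeometry Opposite

open scoped GrothLib.EtFast

noncomputable section

namespace GrothLib.EtLimit

attribute [scoped instance] GrothLib.EtDer.pullFL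

variable {X Y Z S : Scheme.{u}}

/-- Conjugated classes compose. -/
theorem conj_comp {C : Type*} [Category C] [Abelian C] [HasExt.{u + 1} C] {a₀ a₁ b₀ b₁ c₁ c₀ : C} {m n p : ℕ}
    (h : m + n = p) (a : a₀ ⟶ a₁) (X : Ext.{u + 1} a₁ b₁ m) (b : b₁ ⟶ b₀) (b' : b₀ ⟶ b₁) (hb : b ≫ b' = 𝟙 b₁)
    (Y : Ext.{u + 1} b₁ c₁ n) (c : c₁ ⟶ c₀) :
    (((Ext.mk₀ a).comp X (zero_add m)).comp (Ext.mk₀ b) (add_zero m)).comp
        (((Ext.mk₀ b').comp Y (zero_add n)).comp (Ext.mk₀ c) (add_zero n)) h =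
      ((Ext.mk₀ a).comp (X.comp Y h) (zero_add p)).comp (Ext.mk₀ c) (add_zero p) := by
  rw [← Ext.comp_assoc _ _ (Ext.mk₀ c) h (add_zero n) (by omega),
    Ext.comp_assoc_of_second_deg_zero, Ext.mk₀_comp_mk₀_assoc, hb, Ext.mk₀_id_comp,
    Ext.comp_assoc _ X Y (zero_add m) h (by omega)]

/-- The pullback of classes along `f`, for sheaves coming from `S`. -/
def res (f : X ⟶ Y) (t : Y ⟶ S) (t' : X ⟶ S) (w : f ≫ t = t') (A B : EtCoh.Ab S) (n : ℕ) :
    Ext.{u + 1} ((EtCoh.pull t).obj A) ((EtCoh.pull t).obj B) n →+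
      Ext.{u + 1} ((EtCoh.pull t').obj A) ((EtCoh.pull t').obj B) n :=
  AddMonoidHom.mk' (fun x => ((Ext.mk₀ ((pV f t t' w).inv.app A)).comp (x.mapExactFunctor (EtCoh.pull f))
      (zero_add n)).comp (Ext.mk₀ ((pV f t t' w).hom.app B)) (add_zero n))
    (fun a b => by simp)

theorem res_apply (f : X ⟶ Y) (t : Y ⟶ S) (t' : X ⟶ S) (w : f ≫ t = t') {A B : EtCoh.Ab S} {n : ℕ}
    (x : Ext.{u + 1} ((EtCoh.pull t).obj A) ((EtCoh.pull t).obj B) n) :
    res f t t' w A B n x = ((Ext.mk₀ ((pV f t t' w).inv.app A)).comp (x.mapExactFunctor (EtCoh.pull f))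
      (zero_add n)).comp (Ext.mk₀ ((pV f t t' w).hom.app B)) (add_zero n) := rfl

theorem res_comp (f : X ⟶ Y) (t : Y ⟶ S) (t' : X ⟶ S) (w : f ≫ t = t') {A B C : EtCoh.Ab S} {m n p : ℕ}
    (h : m + n = p) (x : Ext.{u + 1} ((EtCoh.pull t).obj A) ((EtCoh.pull t).obj B) m)
    (y : Ext.{u + 1} ((EtCoh.pull t).obj B) ((EtCoh.pull t).obj C) n) :
    res f t t' w A C p (x.comp y h) = (res f t t' w A B m x).comp (res f t t' w B C n y) h := by
  rw [res_apply, res_apply, res_apply, Ext.mapExactFunctor_comp]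
  exact (conj_comp h _ _ _ _ ((pV f t t' w).hom_inv_id_app B) _ _).symm

theorem res_mk₀ (f : X ⟶ Y) (t : Y ⟶ S) (t' : X ⟶ S) (w : f ≫ t = t') {A B : EtCoh.Ab S} (φ : A ⟶ B) :
    res f t t' w A B 0 (Ext.mk₀ ((EtCoh.pull t).map φ)) = Ext.mk₀ ((EtCoh.pull t').map φ) := by
  have hn := (pV f t t' w).hom.naturality φ
  rw [res_apply, Ext.mapExactFunctor_mk₀, Ext.mk₀_comp_mk₀, Ext.mk₀_comp_mk₀, Category.assoc]
  simp only [Functor.comp_map] at hn
  rw [hn, Iso.inv_hom_id_app_assoc]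

theorem res_extClass (f : X ⟶ Y) (t : Y ⟶ S) (t' : X ⟶ S) (w : f ≫ t = t') {T : ShortComplex (EtCoh.Ab S)}
    (hT : T.ShortExact) :
    res f t t' w T.X₃ T.X₁ 1 (hT.map_of_exact (EtCoh.pull t)).extClass =
      (hT.map_of_exact (EtCoh.pull t')).extClass := by
  let e := pV f t t' w
  let φ : (T.map (EtCoh.pull t)).map (EtCoh.pull f) ⟶ T.map (EtCoh.pull t') :=
    { τ₁ := e.hom.app T.X₁
      τ₂ := e.hom.app T.X₂
      τ₃ := e.hom.app T.X₃
      comm₁₂ := (e.hom.naturality T.f).symm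
      comm₂₃ := (e.hom.naturality T.g).symm }
  have key : ((hT.map_of_exact (EtCoh.pull t)).map_of_exact (EtCoh.pull f)).extClass.comp
      (Ext.mk₀ (e.hom.app T.X₁)) (add_zero 1) =
      (Ext.mk₀ (e.hom.app T.X₃)).comp (hT.map_of_exact (EtCoh.pull t')).extClass (zero_add 1) :=
    ShortComplex.ShortExact.extClass_naturality _ _ φ
  rw [res_apply, Ext.comp_assoc_of_third_deg_zero]
  refine Eq.trans ?_ (((Ext.mk₀_comp_mk₀_assoc (e.inv.app T.X₃) (e.hom.app T.X₃) (hT.map_of_exact (EtCoh.pull t')).extClass).trans ?_))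
  · refine congrArg (fun z => (Ext.mk₀ _).comp z (zero_add 1)) ?_
    refine Eq.trans ?_ key
    exact congrArg (fun z => Ext.comp z (Ext.mk₀ (e.hom.app T.X₁)) (add_zero 1))
      (Ext.mapExactFunctor_extClass (EtCoh.pull f) (hT.map_of_exact (EtCoh.pull t)))
  · rw [Iso.inv_hom_id_app]
    exact Ext.mk₀_id_comp _

theorem res_eq_zero_iff (f : X ⟶ Y) (t : Y ⟶ S) (t' : X ⟶ S) (w : f ≫ t = t') {A B : EtCoh.Ab S} {n : ℕ}
    (x : Ext.{u + 1} ((EtCoh.pull t).obj A) ((EtCoh.pull t).obj B) n) :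
    res f t t' w A B n x = 0 ↔ x.mapExactFunctor (EtCoh.pull f) = 0 := by
  refine ⟨fun h => ?_, fun h => by rw [res_apply, h]; simp⟩
  have h2 := congrArg (fun z => ((Ext.mk₀ ((pV f t t' w).hom.app A)).comp z (zero_add n)).comp
    (Ext.mk₀ ((pV f t t' w).inv.app B)) (add_zero n)) h
  simpa [res_apply, Ext.comp_assoc_of_third_deg_zero, Ext.mk₀_comp_mk₀, Ext.mk₀_comp_mk₀_assoc,
    Ext.comp_assoc_of_second_deg_zero] using h2

theorem res_res {W : Scheme.{u}} (h : W ⟶ X) (g : X ⟶ Y) (k : W ⟶ Y) (hk : h ≫ g = k) (t : Y ⟶ S)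
    (t' : X ⟶ S) (t'' : W ⟶ S) (w₁ : g ≫ t = t') (w₂ : h ≫ t' = t'') (w₃ : k ≫ t = t'')
    {A B : EtCoh.Ab S} {n : ℕ} (x : Ext.{u + 1} ((EtCoh.pull t).obj A) ((EtCoh.pull t).obj B) n) :
    res h t' t'' w₂ A B n (res g t t' w₁ A B n x) = res k t t'' w₃ A B n x := by
  let η := pV h g k hk
  have : PreservesFiniteLimits (EtCoh.pull g ⋙ EtCoh.pull h) := comp_preservesFiniteLimits _ _
  have : PreservesFiniteColimits (EtCoh.pull g ⋙ EtCoh.pull h) := comp_preservesFiniteColimits _ _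
  have hn := GrothLib.PullH25.mapExactFunctor_natTrans (F := EtCoh.pull g ⋙ EtCoh.pull h) (EtCoh.pull k) η.hom x
  have e : x.mapExactFunctor (EtCoh.pull g ⋙ EtCoh.pull h) =
      ((Ext.mk₀ (η.hom.app ((EtCoh.pull t).obj A))).comp (x.mapExactFunctor (EtCoh.pull k)) (zero_add n)).comp
        (Ext.mk₀ (η.inv.app ((EtCoh.pull t).obj B))) (add_zero n) := by
    rw [hn, Ext.comp_assoc_of_second_deg_zero, Ext.mk₀_comp_mk₀, Iso.hom_inv_id_app]
    exact (Ext.comp_mk₀_id _).symm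
  have cB := pV_assoc h g t k t' t'' hk w₁ w₂ w₃ B
  have cA := pV_assoc h g t k t' t'' hk w₁ w₂ w₃ A
  have cA' : (pV h t' t'' w₂).inv.app A ≫ (EtCoh.pull h).map ((pV g t t' w₁).inv.app A) ≫
      η.hom.app ((EtCoh.pull t).obj A) = (pV k t t'' w₃).inv.app A := by
    rw [← cancel_mono ((pV k t t'' w₃).hom.app A), Category.assoc, Category.assoc,
      Iso.inv_hom_id_app, ← cA, ← Functor.map_comp_assoc, Iso.inv_hom_id_app]
    simp
  have cB' : η.inv.app ((EtCoh.pull t).obj B) ≫ (EtCoh.pull h).map ((pV g t t' w₁).hom.app B) ≫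
      (pV h t' t'' w₂).hom.app B = (pV k t t'' w₃).hom.app B := by
    rw [cB, Iso.inv_hom_id_app_assoc]
  rw [res_apply, res_apply, Ext.mapExactFunctor_comp, Ext.mapExactFunctor_comp, Ext.mapExactFunctor_mk₀,
    Ext.mapExactFunctor_mk₀, GrothLib.PullH25.mapExactFunctor_mapExactFunctor, e, res_apply]
  simp only [Ext.comp_assoc_of_second_deg_zero, Ext.comp_assoc_of_third_deg_zero, Ext.mk₀_comp_mk₀_assoc,
    Ext.mk₀_comp_mk₀, Category.assoc]
  rw [cA']
  congr 3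

end GrothLib.EtLimit
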