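import Groth.Agent.Lib.EtLimit.TorsionCoh
import Groth.Agent.Lib.EtDer.Injective
import Groth.Agent.Lib.PullH25.Ext

/-!
# Direct images of flasque sheaves are flasque
-/

set_option autoImplicit false
set_option backward.isDefEq.respectTransparency false
universe u

open CategoryTheory CategoryTheory.Limits CategoryTheory.Abelian AlgebraicGeometry Opposite
open GrothLib.EtSite
open GrothLib.EtColim (Z evOne bijective_evOne)
open scoped GrothLib.EtFast

noncomputable section

namespace GrothLib.EtLimit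

attribute [scoped instance] GrothLib.Constructible.jcont

variable {X Y : Scheme.{u}}

/-- The top object of an etale scheme, seen over the base. -/
def topIso (T : X.Etale) : T ≅ (EtShriek.compEtale T.hom).obj (EtCoh.top T.left) :=
  haveI : Etale T.hom := T.prop
  MorphismProperty.Over.isoMk (Iso.refl _) (by exact (Category.id_comp _).trans (Category.id_comp _))

/-- Maps out of `ℤ` on an etale scheme are sections. -/
def sectHom (T : X.Etale) (F : EtCoh.Ab X) (a : Z T.left ⟶ (EtCoh.pull T.hom).obj F) : EtCoh.sect F T :=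
  haveI : Etale T.hom := T.prop
  F.obj.map (topIso T).hom.op
    (evOne ((EtShriek.restrAlong T.hom).obj F) (a ≫ (GrothLib.ExtZero.restrIsoPull T.hom).inv.app F))

theorem bijective_sectHom (T : X.Etale) (F : EtCoh.Ab X) : Function.Bijective (sectHom T F) := by
  haveI : Etale T.hom := T.prop
  refine (ConcreteCategory.bijective_of_isIso (F.obj.map (topIso T).hom.op)).comp
    ((bijective_evOne _).comp ?_)
  let e := (GrothLib.ExtZero.restrIsoPull T.hom).app F
  exact Function.bijective_iff_has_inverse.2 ⟨fun b => b ≫ e.hom,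
    fun a => by simp [e], fun b => by simp [e]⟩

theorem sectHom_comp (T : X.Etale) {F G : EtCoh.Ab X} (φ : F ⟶ G) (a : Z T.left ⟶ (EtCoh.pull T.hom).obj F) :
    sectHom T G (a ≫ (EtCoh.pull T.hom).map φ) = φ.hom.app (op T) (sectHom T F a) := by
  haveI : Etale T.hom := T.prop
  let R := EtShriek.restrAlong T.hom
  have h := (GrothLib.ExtZero.restrIsoPull T.hom).inv.naturality φ
  refine Eq.trans ?_ (NatTrans.naturality_apply φ.hom (topIso T).hom.op _).symm
  refine congrArg (fun y => G.obj.map (topIso T).hom.op y) ?_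
  refine (congrArg (fun m : Z T.left ⟶ R.obj G => evOne (R.obj G) m)
    ((Category.assoc _ _ _).trans ((congrArg (a ≫ ·) h).trans (Category.assoc _ _ _).symm))).trans ?_
  rfl

/-- Cohomological flasqueness. -/
def IsFlasqueH (F : EtCoh.Ab X) : Prop :=
  ∀ (W : X.Etale) (q : ℕ), 0 < q → Subsingleton (EtCoh.H W.left ((EtCoh.pull W.hom).obj F) q)

theorem subsingleton_pull_injective (W : X.Etale) (I : EtCoh.Ab X) [Injective I] (q : ℕ) :
    Subsingleton (Ext.{u + 1} (Z W.left) ((EtCoh.pull W.hom).obj I) (q + 1)) :=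
  haveI : Etale W.hom := W.prop
  haveI := GrothLib.EtDer.injective_pull_etale W.hom I
  Ext.subsingleton_of_injective _ _ _

variable {S : ShortComplex (EtCoh.Ab X)}

/-- Sections lift along a short exact sequence with flasque kernel. -/
theorem surjective_app_of_flasque (hS : S.ShortExact) (h : IsFlasqueH S.X₁) (T : X.Etale) :
    Function.Surjective (S.g.hom.app (op T)) := by
  intro t
  obtain ⟨a, rfl⟩ := (bijective_sectHom T S.X₃).2 t
  haveI := GrothLib.EtDer.pullFL T.hom
  have hT := hS.map_of_exact (EtCoh.pull T.hom)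
  haveI : Subsingleton (Ext.{u + 1} (Z T.left) (S.map (EtCoh.pull T.hom)).X₁ 1) := h T 1 one_pos
  obtain ⟨b, hb⟩ := Ext.covariant_sequence_exact₃ (Z T.left) hT (Ext.mk₀ a) (zero_add 1) (Subsingleton.elim _ _)
  obtain ⟨b, rfl⟩ := (Ext.mk₀_bijective _ _).2 b
  refine ⟨sectHom T S.X₂ b, ?_⟩
  rw [← sectHom_comp]
  refine congrArg (sectHom T S.X₃) ((Ext.mk₀_bijective _ _).1 ?_)
  rw [← hb, Ext.mk₀_comp_mk₀]
  rfl

/-- The quotient of a flasque sheaf embedded in an injective one is flasque. -/
theorem isFlasqueH_quotient (hS : S.ShortExact) [Injective S.X₂] (h : IsFlasqueH S.X₁) : IsFlasqueH S.X₃ := by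
  intro W q hq
  obtain ⟨p, rfl⟩ : ∃ p, q = p + 1 := ⟨q - 1, by omega⟩
  haveI := GrothLib.EtDer.pullFL W.hom
  have hW := hS.map_of_exact (EtCoh.pull W.hom)
  haveI : Subsingleton (Ext.{u + 1} (Z W.left) (S.map (EtCoh.pull W.hom)).X₁ (p + 1 + 1)) := h W _ (by omega)
  haveI : Subsingleton (Ext.{u + 1} (Z W.left) (S.map (EtCoh.pull W.hom)).X₂ (p + 1)) :=
    subsingleton_pull_injective W S.X₂ p
  suffices ∀ x : Ext.{u + 1} (Z W.left) (S.map (EtCoh.pull W.hom)).X₃ (p + 1), x = 0 from
    ⟨fun x y => (this x).trans (this y).symm⟩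
  intro x
  obtain ⟨y, rfl⟩ := Ext.covariant_sequence_exact₃ (Z W.left) hW x rfl (Subsingleton.elim _ _)
  rw [Subsingleton.elim y 0, Ext.zero_comp]

theorem shortExact_push (f : X ⟶ Y) (hS : S.ShortExact) (h : IsFlasqueH S.X₁) :
    (S.map (EtCoh.push f)).ShortExact := by
  haveI : PreservesLimitsOfSize.{0, 0} (EtCoh.push f) := (EtCoh.pullPushAdj f).rightAdjoint_preservesLimits
  haveI : PreservesFiniteLimits (EtCoh.push f) := PreservesLimitsOfSize.preservesFiniteLimits _
  haveI : Mono S.f := hS.mono_f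
  haveI : Mono (S.map (EtCoh.push f)).f := inferInstanceAs (Mono ((EtCoh.push f).map S.f))
  haveI : Epi (S.map (EtCoh.push f)).g := by
    haveI : Sheaf.IsLocallySurjective ((EtCoh.push f).map S.g) := ⟨fun {V} t => by
      obtain ⟨z, hz⟩ := surjective_app_of_flasque hS h ((EtCoh.bc f).obj V) t
      refine (mem_topology_iff _).2 fun x => ⟨V, 𝟙 _, x, ⟨z, ?_⟩, rfl⟩
      rw [op_id, CategoryTheory.Functor.map_id]
      exact hz⟩
    exact Sheaf.epi_of_isLocallySurjective ((EtCoh.push f).map S.g)
  exact ShortComplex.ShortExact.mk' ((ShortComplex.exact_iff_of_iso (Iso.refl _)).1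
    (ShortComplex.exact_of_f_is_kernel _ (KernelFork.mapIsLimit _ hS.fIsKernel (EtCoh.push f)))) ‹_› ‹_›

/-- Direct images of flasque sheaves are flasque. -/
theorem isFlasqueH_push (f : X ⟶ Y) {F : EtCoh.Ab X} (hF : IsFlasqueH F) :
    IsFlasqueH ((EtCoh.push f).obj F) := by
  suffices ∀ (p : ℕ) (F : EtCoh.Ab X), IsFlasqueH F → ∀ W : Y.Etale,
      Subsingleton (Ext.{u + 1} (Z W.left) ((EtCoh.pull W.hom).obj ((EtCoh.push f).obj F)) (p + 1)) by
    intro W q hq
    obtain ⟨p, rfl⟩ : ∃ p, q = p + 1 := ⟨q - 1, by omega⟩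
    exact this p F hF W
  intro p
  induction p with
  | zero =>
    intro F hF W
    have hS := GrothLib.PullH25.injSES_shortExact F
    haveI := GrothLib.EtDer.pullFL W.hom
    have hW := (shortExact_push f hS hF).map_of_exact (EtCoh.pull W.hom)
    haveI := GrothLib.EtDer.injective_push f (Injective.under F)
    haveI := subsingleton_pull_injective W ((EtCoh.push f).obj (Injective.under F)) 0
    suffices ∀ x : Ext.{u + 1} (Z W.left) ((EtCoh.pull W.hom).obj ((EtCoh.push f).obj F)) 1, x = 0 from
      ⟨fun x y => (this x).trans (this y).symm⟩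
    intro x
    obtain ⟨y, rfl⟩ := Ext.covariant_sequence_exact₁ (Z W.left) hW x
      (@Subsingleton.elim _ (subsingleton_pull_injective W ((EtCoh.push f).obj (Injective.under F)) 0) _ _)
      (zero_add 1)
    obtain ⟨a, rfl⟩ := (Ext.mk₀_bijective _ _).2 y
    obtain ⟨s, hs⟩ := surjective_app_of_flasque hS hF ((EtCoh.bc f).obj W)
      (sectHom W ((EtCoh.push f).obj (cokernel (Injective.ι F))) a)
    obtain ⟨b, hb⟩ := (bijective_sectHom W ((EtCoh.push f).obj (Injective.under F))).2 s
    have e : a = b ≫ (EtCoh.pull W.hom).map ((EtCoh.push f).map (cokernel.π (Injective.ι F))) :=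
      (bijective_sectHom W _).1 (hs.symm.trans
        ((congrArg (((EtCoh.push f).map (cokernel.π (Injective.ι F))).hom.app (op W)) hb.symm).trans
          (sectHom_comp W _ b).symm))
    rw [e, ← Ext.mk₀_comp_mk₀, Ext.comp_assoc_of_second_deg_zero]
    refine (congrArg (fun z => Ext.comp (Ext.mk₀ b) z (zero_add 1)) hW.comp_extClass).trans ?_
    exact Ext.comp_zero ..
  | succ p ih =>
    intro F hF W
    have hS := GrothLib.PullH25.injSES_shortExact F
    haveI := GrothLib.EtDer.pullFL W.hom
    have hW := (shortExact_push f hS hF).map_of_exact (EtCoh.pull W.hom)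
    haveI := GrothLib.EtDer.injective_push f (Injective.under F)
    have hQ : IsFlasqueH (cokernel (Injective.ι F)) :=
      @isFlasqueH_quotient _ _ hS (inferInstanceAs (Injective (Injective.under F))) hF
    suffices ∀ x : Ext.{u + 1} (Z W.left) ((EtCoh.pull W.hom).obj ((EtCoh.push f).obj F)) (p + 1 + 1), x = 0 from
      ⟨fun x y => (this x).trans (this y).symm⟩
    intro x
    obtain ⟨y, rfl⟩ := Ext.covariant_sequence_exact₁ (Z W.left) hW x
      (@Subsingleton.elim _ (subsingleton_pull_injective W ((EtCoh.push f).obj (Injective.under F)) (p + 1)) _ _)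
      rfl
    rw [@Subsingleton.elim _ (ih _ hQ W) y 0]
    exact Ext.zero_comp ..

end GrothLib.EtLimit
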