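import Groth.Agent.Lib.EtLimit.Descent

/-!
# Cohomology commutes with limits of schemes: the induction
-/

set_option autoImplicit false
set_option backward.isDefEq.respectTransparency false
universe u

open CategoryTheory CategoryTheory.Limits CategoryTheory.Abelian AlgebraicGeometry Opposite
open GrothLib.EtSite

noncomputable section

namespace GrothLib.EtLimit

open GrothLib.ConnFibres (proj)

variable {I : Type u} [SmallCategory I] [IsCofiltered I] {D : I ⥤ Scheme.{u}} {c : Cone D} (hc : IsLimit c)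
  [∀ (i j : I) (f : i ⟶ j), IsAffineHom (D.map f)]

omit [IsCofiltered I] [∀ (i j : I) (f : i ⟶ j), IsAffineHom (D.map f)] in
theorem pre_cj_eq_zero {C : Type*} [Category C] [Abelian C] [HasExt.{u + 1} C] {A A' B B' T U : C} (α : A ≅ A')
    (β : B ≅ B') (m : T ⟶ A') (u : T ⟶ U) (m₀ : U ⟶ A) (h : m ≫ α.inv = u ≫ m₀) {n : ℕ}
    (x : Ext.{u + 1} A B n) (h₀ : (Ext.mk₀ m₀).comp x (zero_add n) = 0) :
    (Ext.mk₀ m).comp (cj α β x) (zero_add n) = 0 := by
  rw [cj_apply, ← Ext.comp_assoc_of_third_deg_zero, Ext.mk₀_comp_mk₀_assoc, h, ← Ext.mk₀_comp_mk₀_assoc, h₀,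
    Ext.comp_zero, Ext.zero_comp]

omit [IsCofiltered I] [∀ (i j : I) (f : i ⟶ j), IsAffineHom (D.map f)] in
theorem map_pre {X Y : Scheme.{u}} (f : X ⟶ Y) {A B F : EtCoh.Ab Y} {n : ℕ} (g : A ⟶ B) (y : Ext.{u + 1} B F n) :
    ((Ext.mk₀ g).comp y (zero_add n)).mapExactFunctor (EtCoh.pull f) =
      (Ext.mk₀ ((EtCoh.pull f).map g)).comp (y.mapExactFunctor (EtCoh.pull f)) (zero_add n) := by
  rw [Ext.mapExactFunctor_comp, Ext.mapExactFunctor_mk₀]

omit [∀ (i j : I) (f : i ⟶ j), IsAffineHom (D.map f)] in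
theorem reach_zero {j : I} {N F : EtCoh.Ab (D.obj j)} {n : ℕ} :
    Reach D c (0 : Ext.{u + 1} ((EtCoh.pull (c.π.app j)).obj N) ((EtCoh.pull (c.π.app j)).obj F) n) := by
  have h := reach_map (D := D) (c := c) (0 : Ext.{u + 1} N F n)
  rwa [Ext.mapExactFunctor_zero] at h

omit [∀ (i j : I) (f : i ⟶ j), IsAffineHom (D.map f)] in
theorem reach_add {j : I} {N F : EtCoh.Ab (D.obj j)} {n : ℕ}
    {ξ ξ' : Ext.{u + 1} ((EtCoh.pull (c.π.app j)).obj N) ((EtCoh.pull (c.π.app j)).obj F) n}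
    (h : Reach D c ξ) (h' : Reach D c ξ') : Reach D c (ξ + ξ') := by
  have := h.sub (reach_zero.sub h')
  rwa [zero_sub, sub_neg_eq_add] at this

section steps

variable {j : I} {S : ShortComplex (EtCoh.Ab (D.obj j))} (hS : S.ShortExact) {F : EtCoh.Ab (D.obj j)} {n : ℕ}

omit [∀ (i j : I) (f : i ⟶ j), IsAffineHom (D.map f)] in
include hS in
/-- A class killed by the epimorphism of a sequence comes from a stage if the classes of the kernel do. -/
theorem gen_step (hK : Gen D c n S.X₁ F)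
    (ξ : Ext.{u + 1} ((EtCoh.pull (c.π.app j)).obj S.X₃) ((EtCoh.pull (c.π.app j)).obj F) (n + 1))
    (hξ : (Ext.mk₀ ((EtCoh.pull (c.π.app j)).map S.g)).comp ξ (zero_add (n + 1)) = 0) : Reach D c ξ := by
  obtain ⟨ε, hε⟩ := Ext.contravariant_sequence_exact₃ (hS.map_of_exact (EtCoh.pull (c.π.app j))) _ ξ hξ
    (show 1 + n = n + 1 by omega)
  obtain ⟨k, a, y, hy⟩ := hK ε
  refine ⟨k, a, (hS.map_of_exact (EtCoh.pull (D.map a))).extClass.comp y (show 1 + n = n + 1 by omega), ?_⟩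
  refine (res_comp (c.π.app k) (D.map a) (c.π.app j) (w_π D c a) (A := S.X₃) (B := S.X₁) (C := F)
    (show 1 + n = n + 1 by omega) (hS.map_of_exact (EtCoh.pull (D.map a))).extClass y).trans ?_
  refine Eq.trans ?_ hε
  exact congrArg₂ (fun u v => Ext.comp u v (show 1 + n = n + 1 by omega))
    (res_extClass (c.π.app k) (D.map a) (c.π.app j) (w_π D c a) hS) hy

include hS in
/-- A class killed by the epimorphism of a sequence and dying at the limit dies at a stage. -/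
theorem kill_step
    (hP : Gen D c n S.X₂ F)
    (hK : ∀ (k : I) (a : k ⟶ j), Kill D c n ((EtCoh.pull (D.map a)).obj S.X₁) ((EtCoh.pull (D.map a)).obj F))
    (y : Ext.{u + 1} S.X₃ F (n + 1)) (hg : (Ext.mk₀ S.g).comp y (zero_add (n + 1)) = 0)
    (hy : y.mapExactFunctor (EtCoh.pull (c.π.app j)) = 0) :
    ∃ (k : I) (a : k ⟶ j), y.mapExactFunctor (EtCoh.pull (D.map a)) = 0 := by
  have hn : 1 + n = n + 1 := by omega
  obtain ⟨η, rfl⟩ := Ext.contravariant_sequence_exact₃ hS _ y hg hn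
  rw [Ext.mapExactFunctor_comp, Ext.mapExactFunctor_extClass] at hy
  obtain ⟨θ, hθ⟩ := Ext.contravariant_sequence_exact₁ (hS.map_of_exact (EtCoh.pull (c.π.app j))) _
    (η.mapExactFunctor (EtCoh.pull (c.π.app j))) hn hy
  obtain ⟨k, a, z, hz⟩ := hP θ
  let η' := η.mapExactFunctor (EtCoh.pull (D.map a)) -
    (Ext.mk₀ ((EtCoh.pull (D.map a)).map S.f)).comp z (zero_add n)
  have hη' : η'.mapExactFunctor (EtCoh.pull (c.π.app k)) = 0 := by
    rw [← res_eq_zero_iff (c.π.app k) (D.map a) (c.π.app j) (w_π D c a), map_sub,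
      res_comp _ _ _ _ (zero_add n), res_mk₀, hz, res_eq_cj]
    refine sub_eq_zero.2 (Eq.trans ?_ hθ.symm)
    exact (map_map (c.π.app k) (D.map a) (c.π.app j) (w_π D c a) η).symm
  obtain ⟨l, b, hl⟩ := hK k a η' hη'
  refine ⟨l, b ≫ a, (map_map_eq_zero_iff a b _).1 ?_⟩
  have hS' := hS.map_of_exact (EtCoh.pull (D.map a))
  have e : η.mapExactFunctor (EtCoh.pull (D.map a)) =
      η' + (Ext.mk₀ ((EtCoh.pull (D.map a)).map S.f)).comp z (zero_add n) := (sub_add_cancel _ _).symm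
  rw [Ext.mapExactFunctor_comp, Ext.mapExactFunctor_extClass, e, Ext.comp_add, Ext.mapExactFunctor_add,
    Ext.mapExactFunctor_comp, hl, Ext.comp_zero, zero_add,
    ← Ext.comp_assoc _ (Ext.mk₀ ((EtCoh.pull (D.map a)).map S.f)) z (add_zero 1) (zero_add n)
      (show 1 + 0 + n = n + 1 by omega)]
  rw [show hS'.extClass.comp (Ext.mk₀ ((EtCoh.pull (D.map a)).map S.f)) (add_zero 1) = 0 from hS'.extClass_comp,
    Ext.zero_comp, Ext.mapExactFunctor_zero]

end steps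

omit [IsCofiltered I] [∀ (i j : I) (f : i ⟶ j), IsAffineHom (D.map f)] in
theorem kill_of_iso {j : I} {N N' F : EtCoh.Ab (D.obj j)} (e : N ≅ N') {n : ℕ} (h : Kill D c n N F) :
    Kill D c n N' F := fun y hy => by
  have e' : y = cj e (Iso.refl F) (cj e.symm (Iso.refl F) y) :=
    (cj_symm e (Iso.refl F) y).symm
  obtain ⟨k, a, hk⟩ := h (cj e.symm (Iso.refl F) y) (by rw [map_cj, hy, map_zero])
  exact ⟨k, a, by rw [e', map_cj, hk, map_zero]⟩

omit [IsCofiltered I] [∀ (i j : I) (f : i ⟶ j), IsAffineHom (D.map f)] in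
theorem gen_of_iso {j : I} {N N' F : EtCoh.Ab (D.obj j)} (e : N ≅ N') {n : ℕ} (h : Gen D c n N' F) :
    Gen D c n N F := fun ξ => Reach.of_iso e ξ (h _)

section induction

/-- Killing for free sheaves. -/
abbrev KF (D : I ⥤ Scheme.{u}) (c : Cone D) (n : ℕ) : Prop :=
  ∀ (j : I) (N : EtCoh.Ab (D.obj j)), IsFree N → ∀ F, Kill D c n N F

/-- Generation for free sheaves. -/
abbrev GF (D : I ⥤ Scheme.{u}) (c : Cone D) (n : ℕ) : Prop :=
  ∀ (j : I) (N : EtCoh.Ab (D.obj j)), IsFree N → ∀ F, Gen D c n N F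

/-- Killing for resolvable sheaves. -/
abbrev KR (D : I ⥤ Scheme.{u}) (c : Cone D) (n : ℕ) : Prop :=
  ∀ (j : I) (N : EtCoh.Ab (D.obj j)), Res N → ∀ F, Kill D c n N F

/-- Generation for resolvable sheaves. -/
abbrev GR (D : I ⥤ Scheme.{u}) (c : Cone D) (n : ℕ) : Prop :=
  ∀ (j : I) (N : EtCoh.Ab (D.obj j)), Res N → ∀ F, Gen D c n N F

include hc in
theorem kf_zero : KF D c 0 := fun _ _ ⟨_, hV, ⟨e⟩⟩ F => kill_of_iso e (kill_zero_ZV hc hV F)

include hc in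
theorem gf_zero : GF D c 0 := fun _ _ ⟨_, hV, ⟨e⟩⟩ F => gen_of_iso e.symm (gen_zero_ZV hc (G := F) hV)

theorem kr_zero (hK : KF D c 0) : KR D c 0 := by
  intro j N hN F y hy
  obtain ⟨K, P, f, g, w, hS, hP, -⟩ := hN.step
  obtain ⟨k, a, hk⟩ := hK j P hP F ((Ext.mk₀ g).comp y (zero_add 0)) (by rw [map_pre, hy, Ext.comp_zero])
  refine ⟨k, a, ?_⟩
  rw [map_pre] at hk
  obtain ⟨φ, hφ⟩ := (Ext.mk₀_bijective _ _).2 (y.mapExactFunctor (EtCoh.pull (D.map a)))
  rw [← hφ, Ext.mk₀_comp_mk₀, Ext.mk₀_eq_zero_iff] at hk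
  haveI : Epi g := hS.epi_g
  haveI : Epi ((EtCoh.pull (D.map a)).map g) := (EtCoh.pull (D.map a)).map_epi g
  rw [← hφ, Ext.mk₀_eq_zero_iff, ← cancel_epi ((EtCoh.pull (D.map a)).map g), hk, comp_zero]

/-- The common part of generation for resolvable sheaves. -/
theorem gr_aux {n : ℕ} (hG : GF D c n) (hK : KR D c n) {j : I} {K P N F : EtCoh.Ab (D.obj j)} {f : K ⟶ P}
    {g : P ⟶ N} {w : f ≫ g = 0} (hS : (ShortComplex.mk f g w).ShortExact) (hP : IsFree P) (hKres : Res K)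
    (ξ : Ext.{u + 1} ((EtCoh.pull (c.π.app j)).obj N) ((EtCoh.pull (c.π.app j)).obj F) n) :
    ∃ ρ, Reach D c ρ ∧ (Ext.mk₀ ((EtCoh.pull (c.π.app j)).map g)).comp (ξ - ρ) (zero_add n) = 0 := by
  obtain ⟨k, a, θ, hθ⟩ := hG j P hP F ((Ext.mk₀ ((EtCoh.pull (c.π.app j)).map g)).comp ξ (zero_add n))
  let ζ := (Ext.mk₀ ((EtCoh.pull (D.map a)).map f)).comp θ (zero_add n)
  have hζ : ζ.mapExactFunctor (EtCoh.pull (c.π.app k)) = 0 := by
    rw [← res_eq_zero_iff (c.π.app k) (D.map a) (c.π.app j) (w_π D c a), res_comp _ _ _ _ (zero_add n),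
      res_mk₀, hθ, Ext.mk₀_comp_mk₀_assoc]
    refine (congrArg (fun m => (Ext.mk₀ m).comp ξ (zero_add n))
      (((EtCoh.pull (c.π.app j)).map_comp f g).symm.trans
        ((congrArg (EtCoh.pull (c.π.app j)).map w).trans ((EtCoh.pull (c.π.app j)).map_zero _ _)))).trans ?_
    simp
  obtain ⟨l, b, hl⟩ := hK k _ (hKres.pull (D.map a)) _ ζ hζ
  let θl := res (D.map b) (D.map a) (D.map (b ≫ a)) (w_map D a b) P F n θ
  have hfl : (Ext.mk₀ ((EtCoh.pull (D.map (b ≫ a))).map f)).comp θl (zero_add n) = 0 := by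
    rw [← res_mk₀ (D.map b) (D.map a) (D.map (b ≫ a)) (w_map D a b) f, ← res_comp]
    exact (res_eq_zero_iff _ _ _ _ _).2 hl
  obtain ⟨η, hη⟩ : ∃ η : Ext.{u + 1} ((EtCoh.pull (D.map (b ≫ a))).obj N) ((EtCoh.pull (D.map (b ≫ a))).obj F) n,
      (Ext.mk₀ ((EtCoh.pull (D.map (b ≫ a))).map g)).comp η (zero_add n) = θl :=
    Ext.contravariant_sequence_exact₂ (hS.map_of_exact (EtCoh.pull (D.map (b ≫ a)))) _ θl hfl
  refine ⟨res (c.π.app l) (D.map (b ≫ a)) (c.π.app j) (w_π D c (b ≫ a)) N F n η, ⟨l, b ≫ a, η, rfl⟩, ?_⟩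
  rw [sub_eq_add_neg, Ext.comp_add, Ext.comp_neg, ← sub_eq_add_neg, sub_eq_zero]
  refine Eq.trans ?_ (((congrArg (fun z => Ext.comp z _ (zero_add n))
    (res_mk₀ (c.π.app l) (D.map (b ≫ a)) (c.π.app j) (w_π D c (b ≫ a)) g).symm)).trans
      ((res_comp _ _ _ _ (zero_add n) _ η).symm.trans (congrArg _ hη))).symm
  exact hθ.symm.trans (res_later a b θ).symm

theorem gr_zero (hG : GF D c 0) (hK : KR D c 0) : GR D c 0 := by
  intro j N hN F ξ
  obtain ⟨K, P, f, g, w, hS, hP, hKres⟩ := hN.step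
  obtain ⟨ρ, hρ, h⟩ := gr_aux hG hK hS hP hKres ξ
  obtain ⟨φ, hφ⟩ := (Ext.mk₀_bijective _ _).2 (ξ - ρ)
  rw [← hφ, Ext.mk₀_comp_mk₀, Ext.mk₀_eq_zero_iff] at h
  haveI : Epi g := hS.epi_g
  haveI hepi : Epi ((EtCoh.pull (c.π.app j)).map g) := (EtCoh.pull (c.π.app j)).map_epi g
  have : φ = 0 := hepi.left_cancellation φ 0 (by rw [h, comp_zero])
  rw [this, Ext.mk₀_zero, eq_comm, sub_eq_zero] at hφ
  rwa [hφ]

include hc in
theorem kf_succ {n : ℕ} (hG : GF D c n) (hK : KR D c n) : KF D c (n + 1) := by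
  intro j N ⟨V, hV, ⟨e⟩⟩ F
  refine kill_of_iso e fun y hy => ?_
  obtain ⟨T, p, hT, hp, hzero⟩ := kill_class hV n F y
  obtain ⟨K, P, f, g, w, a, hS, hP, hKres, hg⟩ := exists_cover_seq hV hT p hp
  refine kill_step (D := D) hS (hG j P hP F) (fun k b => hK k _ (hKres.pull (D.map b)) _) y ?_ hy
  change (Ext.mk₀ g).comp y _ = 0
  rw [hg, ← Ext.mk₀_comp_mk₀_assoc, hzero, Ext.comp_zero]

theorem kr_succ {n : ℕ} (hKF : KF D c (n + 1)) (hG : GF D c n) (hK : KR D c n) : KR D c (n + 1) := by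
  intro j N hN F y hy
  obtain ⟨K, P, f, g, w, hS, hP, hKres⟩ := hN.step
  obtain ⟨k, a, hk⟩ := hKF j P hP F ((Ext.mk₀ g).comp y (zero_add (n + 1))) (by rw [map_pre, hy, Ext.comp_zero])
  rw [map_pre] at hk
  obtain ⟨l, b, hl⟩ := kill_step (D := D) (hS.map_of_exact (EtCoh.pull (D.map a)))
    (hG k _ (hP.pull (D.map a)) _) (fun l b => hK l _ ((hKres.pull (D.map a)).pull (D.map b)) _)
    (y.mapExactFunctor (EtCoh.pull (D.map a))) hk ((map_π_eq_zero_iff a y).2 hy)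
  exact ⟨l, b ≫ a, (map_map_eq_zero_iff a b y).1 hl⟩

include hc in
theorem gf_succ {n : ℕ} (hG : GR D c n) : GF D c (n + 1) := by
  intro j N ⟨V, hV, ⟨e⟩⟩ F
  refine gen_of_iso e.symm fun ξ => ?_
  haveI := isAffineHom_π_app D c hc j
  let pi := (pullZV (c.π.app j) V).inv
  obtain ⟨T, p, hT, hp, hzero⟩ := kill_class (qcqs_bc (c.π.app j) hV) n _ ((Ext.mk₀ pi).comp ξ (zero_add (n + 1)))
  rw [Ext.mk₀_comp_mk₀_assoc] at hzero
  obtain ⟨k, a, W, q, ν, hW, hrange, hν⟩ := exists_cover_stage hc hV hT p hp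
  obtain ⟨l, b, hl⟩ := exists_range_subset hc (qcqs_bc (D.map a) hV)
    ⟨Set.range q.left.base, GrothLib.EtBasicB.isOpen_range_left q⟩ hrange
  let t := D.map a
  let P := pV (c.π.app k) t (c.π.app j) (w_π D c a)
  have hfac : (EtCoh.pull (c.π.app k)).map (mapZ q ≫ (pullZV t V).inv) ≫ P.hom.app (ZV V) =
      (pullZV (c.π.app k) W).hom ≫ mapZ ν ≫ mapZ p ≫ pi := by
    refine pull_hom_ext _ ?_
    refine (congrArg ((P.hom.app (ZV V)).hom.app _) (map_genPull _ _)).trans ?_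
    rw [mapZ_apply_gen, pullZV_inv_gen]
    refine (pV_unit_res (c.π.app k) t (c.π.app j) (w_π D c a) (ZV V) q (gen V)).trans ?_
    refine Eq.trans ?_ (congrArg ((mapZ ν ≫ mapZ p ≫ pi).hom.app _) (pullZV_hom_genPull (c.π.app k) W)).symm
    rw [← Category.assoc, ← mapZ_comp, mapZ_apply_gen, pullZV_inv_gen, hν]
    rfl
  refine reach_of_stage a ξ ?_
  let ξk := cj (P.app (ZV V)).symm (P.app F).symm ξ
  have hξk : (Ext.mk₀ ((EtCoh.pull (c.π.app k)).map (mapZ q ≫ (pullZV t V).inv))).comp ξk (zero_add (n + 1)) = 0 := by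
    refine pre_cj_eq_zero _ _ _ ((pullZV (c.π.app k) W).hom ≫ mapZ ν) (mapZ p ≫ pi) ?_ ξ hzero
    exact hfac.trans (Category.assoc _ _ _).symm
  refine reach_of_stage b ξk ?_
  let t' := D.map b
  let V' := (EtCoh.bc t').obj ((EtCoh.bc t).obj V)
  let q' := (EtCoh.bc t').map q
  have hq' : Surjective q'.left := surjective_bc_map t' q hl
  obtain ⟨K, P₁, f, g, w, α, hS, hP₁, hKres, hg⟩ :=
    exists_cover_seq (qcqs_bc t' (qcqs_bc t hV)) (qcqs_bc t' hW) q' hq'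
  let e' : ZV V' ≅ (EtCoh.pull t').obj ((EtCoh.pull t).obj (ZV V)) :=
    (pullZV t' _).symm ≪≫ (EtCoh.pull t').mapIso (pullZV t V).symm
  have w' : f ≫ g ≫ e'.hom = 0 := by rw [← Category.assoc, w, zero_comp]
  have hS' : (ShortComplex.mk f (g ≫ e'.hom) w').ShortExact :=
    ShortComplex.shortExact_of_iso (ShortComplex.isoMk (Iso.refl _) (Iso.refl _) e' (by simp) (by simp) :
      ShortComplex.mk f g w ≅ ShortComplex.mk f (g ≫ e'.hom) w') hS
  refine gen_step hS' (hG l K hKres _) _ ?_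
  change (Ext.mk₀ ((EtCoh.pull (c.π.app l)).map (g ≫ e'.hom))).comp _ _ = 0
  have hge : g ≫ e'.hom = (α ≫ (pullZV t' W).inv) ≫ (EtCoh.pull t').map (mapZ q ≫ (pullZV t V).inv) := by
    simp only [e', hg, Iso.trans_hom, Iso.symm_hom, Functor.mapIso_hom, Category.assoc, Functor.map_comp]
    rw [← Category.assoc (mapZ q'), pullZV_inv_naturality, Category.assoc]
  let Q := pV (c.π.app l) t' (c.π.app k) (w_π D c b)
  have n1 := Q.hom.naturality (mapZ q ≫ (pullZV t V).inv)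
  simp only [Functor.comp_map] at n1
  refine pre_cj_eq_zero _ _ _ ((EtCoh.pull (c.π.app l)).map (α ≫ (pullZV t' W).inv) ≫ Q.hom.app (ZV W))
    ((EtCoh.pull (c.π.app k)).map (mapZ q ≫ (pullZV t V).inv)) ?_ ξk hξk
  rw [hge, Functor.map_comp, Category.assoc, Category.assoc]
  exact congrArg (_ ≫ ·) n1

theorem gr_succ {n : ℕ} (hGF : GF D c (n + 1)) (hK : KR D c (n + 1)) (hG : GR D c n) : GR D c (n + 1) := by
  intro j N hN F ξ
  obtain ⟨K, P, f, g, w, hS, hP, hKres⟩ := hN.step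
  obtain ⟨ρ, hρ, h⟩ := gr_aux hGF hK hS hP hKres ξ
  have := reach_add (gen_step hS (hG j K hKres F) (ξ - ρ) h) hρ
  rwa [sub_add_cancel] at this

include hc in
/-- Ext of resolvable sheaves commutes with limits. -/
theorem all (n : ℕ) : KF D c n ∧ GF D c n ∧ KR D c n ∧ GR D c n := by
  induction n with
  | zero =>
    have h1 := kf_zero hc
    have h2 := gf_zero hc
    exact ⟨h1, h2, kr_zero h1, gr_zero h2 (kr_zero h1)⟩
  | succ n ih =>
    obtain ⟨-, hGF, hKR, hGR⟩ := ih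
    have h1 := kf_succ hc hGF hKR
    have h2 := gf_succ hc hGR
    have h3 := kr_succ h1 hGF hKR
    exact ⟨h1, h2, h3, gr_succ h2 h3 hGR⟩

end induction

end GrothLib.EtLimit
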