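import Groth.Agent.Lib.EtLimit.TorsionCoh
import Groth.Prelude.Def_EtBase
import Mathlib.CategoryTheory.Abelian.RightDerived
import Mathlib.CategoryTheory.Abelian.Injective.Ext

/-!
# Higher direct images of torsion sheaves are torsion
-/

set_option autoImplicit false
set_option backward.isDefEq.respectTransparency false
universe u

open CategoryTheory CategoryTheory.Limits CategoryTheory.Abelian AlgebraicGeometry Opposite
open GrothLib.EtSite
open scoped GrothLib.EtFast

noncomputable section

namespace GrothLib.EtLimit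

variable {X Y : Scheme.{u}}

theorem qcqs_bc_of_qcqs (f : X ⟶ Y) [QuasiCompact f] [QuasiSeparated f] {U : Y.Etale} (h : Qcqs U) :
    Qcqs ((EtCoh.bc f).obj U) := by
  haveI : CompactSpace ↥((𝟭 Scheme.{u}).obj U.left) := h.1
  haveI : QuasiSeparatedSpace ↥((𝟭 Scheme.{u}).obj U.left) := h.2
  haveI : QuasiCompact (pullback.fst U.hom f) := MorphismProperty.pullback_fst _ _ ‹_›
  haveI : QuasiSeparated (pullback.fst U.hom f) := MorphismProperty.pullback_fst _ _ ‹_›
  exact ⟨QuasiCompact.compactSpace_of_compactSpace (pullback.fst U.hom f),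
    quasiSeparatedSpace_of_quasiSeparated (pullback.fst U.hom f)⟩

theorem nsmul_ofSect {V : X.Etale} {F : EtCoh.Ab X} (m : ℕ) (s : EtCoh.sect F V) :
    m • ofSect s = ofSect (m • s) := by
  refine ZV_ext ?_
  rw [ofSect_gen]
  exact congrArg (fun z => m • z) (ofSect_gen s)

/-- Higher direct images of torsion sheaves along quasi-compact quasi-separated morphisms are torsion. -/
theorem isTorsion_Rpush (f : X ⟶ Y) [QuasiCompact f] [QuasiSeparated f] [EtCoh.BCCont f] {F : EtCoh.Ab X}
    (hF : EtCoh.IsTorsion F) (n : ℕ) : EtCoh.IsTorsion ((EtCoh.Rpush f n).obj F) := by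
  obtain ⟨I⟩ : Nonempty (InjectiveResolution F) := ⟨InjectiveResolution.of F⟩
  let K : CochainComplex (EtCoh.Ab Y) ℕ := ((EtCoh.push f).mapHomologicalComplex _).obj I.cocomplex
  let e : (EtCoh.Rpush f n).obj F ≅ K.homology n := I.isoRightDerivedObj (EtCoh.push f) n
  intro U s x
  let t : EtCoh.sect (K.homology n) U := e.hom.hom.app (op U) s
  haveI : Sheaf.IsLocallySurjective (K.homologyπ n) :=
    (Sheaf.isLocallySurjective_iff_epi' _ (K.homologyπ n)).2 inferInstance
  obtain ⟨W, g, w, ⟨z, hz⟩, hw⟩ := (mem_topology_iff _).1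
    (Presheaf.imageSieve_mem Y.smallEtaleTopology (K.homologyπ n).hom t) x
  obtain ⟨_, ⟨A, hA, rfl⟩, hwA, -⟩ := W.left.isBasis_affineOpens.exists_subset_of_mem_open
    (Set.mem_univ w) isOpen_univ
  let A₀ : W.left.Opens := A
  let V := opensObj W A₀
  let ι : V ⟶ W := opensHom W A₀
  have hV : Qcqs V :=
    haveI : IsAffine A₀.toScheme := hA
    ⟨(isCompact_iff_compactSpace.1 hA.isCompact :), (inferInstance : QuasiSeparatedSpace ↥A₀.toScheme)⟩
  refine ⟨V, ι ≫ g, ⟨(⟨w, hwA⟩ : A₀), hw⟩, ?_⟩
  let zV : EtCoh.sect (K.cycles n) V := (K.cycles n).obj.map ι.op z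
  let i := K.iCycles n
  let z₀ : EtCoh.sect (I.cocomplex.X n) ((EtCoh.bc f).obj V) := i.hom.app (op V) zV
  have hd : ofSect z₀ ≫ I.cocomplex.d n (n + 1) = 0 := by
    refine ZV_ext ?_
    refine (congrArg ((I.cocomplex.d n (n + 1)).hom.app (op ((EtCoh.bc f).obj V))) (ofSect_gen z₀)).trans ?_
    exact congrArg (fun φ : K.cycles n ⟶ K.X (n + 1) => φ.hom.app (op V) zV) (K.iCycles_d n (n + 1))
  have hinj : Function.Injective (i.hom.app (op V)) := by
    haveI : Mono i.hom := (sheafToPresheaf _ _).map_mono i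
    exact (AddCommGrpCat.mono_iff_injective _).1 inferInstance
  obtain ⟨m, hm, hzero⟩ : ∃ m, 0 < m ∧ (K.homologyπ n).hom.app (op V) (m • zV) = 0 := by
    cases n with
    | zero =>
      let l := I.isLimitKernelFork.lift (KernelFork.ofι (ofSect z₀) hd)
      have hl : l ≫ I.ι.f 0 = ofSect z₀ := Fork.IsLimit.lift_ι I.isLimitKernelFork
      haveI := (qcqs_bc_of_qcqs f hV).1
      obtain ⟨m, hm, h⟩ := isOfFinAddOrder_iff_nsmul_eq_zero.1
        (isOfFinAddOrder_of_compact hF ((EtCoh.bc f).obj V)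
          (l.hom.app (op ((EtCoh.bc f).obj V)) (gen _)))
      refine ⟨m, hm, ?_⟩
      have h0 : m • zV = 0 := by
        refine hinj ?_
        rw [map_nsmul, map_zero]
        change m • z₀ = 0
        rw [← ofSect_gen z₀, ← hl]
        refine (map_nsmul ((I.ι.f 0).hom.app (op ((EtCoh.bc f).obj V))).hom m _).symm.trans ?_
        exact (congrArg ((I.ι.f 0).hom.app (op ((EtCoh.bc f).obj V))) h).trans (map_zero _)
      rw [h0, map_zero]
    | succ p =>
      obtain ⟨m, hm, h⟩ := isOfFinAddOrder_iff_nsmul_eq_zero.1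
        ((torsion_ext hF (p + 1)).1 _ ⟨_, qcqs_bc_of_qcqs f hV, ⟨Iso.refl _⟩⟩
          (I.extMk (ofSect z₀) (p + 2) rfl hd))
      refine ⟨m, hm, ?_⟩
      have hd' : ∀ k : ℕ, (k • ofSect z₀) ≫ I.cocomplex.d (p + 1) (p + 2) = 0 := fun k => by
        rw [Preadditive.nsmul_comp, hd, smul_zero]
      have hlin : ∀ k : ℕ, I.extMk (k • ofSect z₀) (p + 2) rfl (hd' k) =
          k • I.extMk (ofSect z₀) (p + 2) rfl hd := by
        intro k
        induction k with
        | zero => simp only [zero_smul]; exact I.extMk_zero _ _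
        | succ k ih =>
          simp only [succ_nsmul]
          rw [← ih, I.add_extMk]
      rw [← hlin] at h
      obtain ⟨g', hg'⟩ := (I.extMk_eq_zero_iff _ _ rfl (hd' m) p rfl).1 h
      let y : EtCoh.sect (K.X p) V := g'.hom.app (op ((EtCoh.bc f).obj V)) (gen _)
      have h1 : (K.toCycles p (p + 1)).hom.app (op V) y = m • zV := by
        refine hinj ?_
        refine (congrArg (fun φ : K.X p ⟶ K.X (p + 1) => φ.hom.app (op V) y) (K.toCycles_i p (p + 1))).trans ?_
        rw [map_nsmul]
        refine Eq.trans ?_ (ofSect_gen (m • z₀))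
        rw [← nsmul_ofSect, ← hg']
        rfl
      rw [← h1]
      exact congrArg (fun φ : K.X p ⟶ K.homology (p + 1) => φ.hom.app (op V) y) (K.toCycles_comp_homologyπ p (p + 1))
  refine isOfFinAddOrder_iff_nsmul_eq_zero.2 ⟨m, hm, ?_⟩
  let R := (EtCoh.Rpush f n).obj F
  have he : Function.Injective (e.hom.hom.app (op V)) := by
    haveI : IsIso ((sheafToPresheaf _ _).map e.hom) := inferInstance
    haveI : IsIso (e.hom.hom.app (op V)) := inferInstanceAs (IsIso (((sheafToPresheaf _ _).map e.hom).app (op V)))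
    exact (ConcreteCategory.bijective_of_isIso _).injective
  refine he ?_
  rw [map_nsmul, map_zero, ← hzero, map_nsmul]
  refine congrArg (fun a => m • a) ?_
  refine (NatTrans.naturality_apply e.hom.hom (ι ≫ g).op s).trans ?_
  refine (ConcreteCategory.congr_hom ((K.homology n).obj.map_comp g.op ι.op) t).trans ?_
  refine (congrArg ((K.homology n).obj.map ι.op) hz.symm).trans ?_
  exact (NatTrans.naturality_apply (K.homologyπ n).hom ι.op z).symm

end GrothLib.EtLimit
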