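import Groth.Agent.Lib.EtLimit.Main
import Groth.Agent.Lib.EtLimit.Torsion
import Groth.Agent.Lib.EtLimit.TorsionRpush
import Groth.Agent.Lib.EtFastInst

/-!
# Sheaves locally killed by a multiplicative set of integers, and their cohomology
-/

set_option autoImplicit false
set_option backward.isDefEq.respectTransparency false
universe u

open CategoryTheory CategoryTheory.Limits CategoryTheory.Abelian AlgebraicGeometry Opposite
open GrothLib.EtSite
open scoped GrothLib.EtFast

noncomputable section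

namespace GrothLib.EtLimit

variable {X Y : Scheme.{u}}

/-- Some integer in the set kills the element. -/
def Killed (P : ℕ → Prop) {M : Type*} [AddMonoid M] (y : M) : Prop := ∃ m, P m ∧ m • y = 0

/-- Sections are locally killed by integers in the set. -/
def LocKilled (P : ℕ → Prop) (F : EtCoh.Ab X) : Prop :=
  ∀ (U : X.Etale) (s : EtCoh.sect F U) (x : U.left), ∃ (V : X.Etale) (g : V ⟶ U),
    (∃ v : V.left, g.left.base v = x) ∧ Killed P (F.obj.map g.op s)

variable {P : ℕ → Prop} (h1 : P 1) (hmul : ∀ a b, P a → P b → P (a * b))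

include h1 hmul in
/-- Sections of a torsion sheaf over a quasi-compact object have finite order. -/
theorem killed_of_compact {F : EtCoh.Ab X} (hF : LocKilled P F) (T : X.Etale)
    [CompactSpace T.left] (s : EtCoh.sect F T) : Killed P s := by
  have h := hF T s
  choose V g hv hs using h
  choose v hv using hv
  obtain ⟨t, ht⟩ := isCompact_univ.elim_finite_subcover (fun x => Set.range (g x).left.base)
    (fun x => GrothLib.EtBasicB.isOpen_range_left (g x)) (fun x _ => Set.mem_iUnion.2 ⟨x, v x, hv x⟩)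
  choose m hm hms using hs
  refine ⟨∏ x ∈ t, m x, Finset.prod_induction _ P hmul h1 fun x _ => hm x, ?_⟩
  refine section_eq_zero_of_germs F T _ fun Ω _ _ ξ p => ?_
  obtain ⟨x, hx, w, hw⟩ := Set.mem_iUnion₂.1 (ht (Set.mem_univ (p.left.base (default : Spec (CommRingCat.of Ω)))))
  obtain ⟨p', hp', -⟩ := GrothLib.EtBasicB.exists_fib_lift ξ (g x) p w hw
  rw [← hp', ← germ_map]
  obtain ⟨k, hk⟩ := Finset.dvd_prod_of_mem m hx
  rw [hk, map_nsmul, mul_comm, mul_nsmul', hms, nsmul_zero, map_zero]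

theorem killed_of_iso {N N' F : EtCoh.Ab X} (e : N ≅ N') {n : ℕ}
    (h : ∀ y : Ext.{u + 1} N F n, Killed P y) (y : Ext.{u + 1} N' F n) : Killed P y := by
  obtain ⟨m, hm, hy⟩ := (h (cj e.symm (Iso.refl F) y))
  refine ⟨m, hm, ?_⟩
  rwa [← map_nsmul, cj_eq_zero_iff] at hy

include h1 hmul in
theorem killed_ext_zero_ZV {F : EtCoh.Ab X} (hF : LocKilled P F) {V : X.Etale} (hV : Qcqs V)
    (y : Ext.{u + 1} (ZV V) F 0) : Killed P y := by
  obtain ⟨φ, rfl⟩ := (Ext.mk₀_bijective _ _).2 y
  haveI := hV.1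
  obtain ⟨m, hm, h⟩ := 
    (killed_of_compact h1 hmul hF V (φ.hom.app (op V) (gen V)))
  refine ⟨m, hm, ?_⟩
  have h' : m • φ = 0 := ZV_ext (by
    refine Eq.trans ?_ (h.trans rfl)
    rfl)
  exact (map_nsmul Ext.addEquiv₀.symm m φ).symm.trans ((congrArg Ext.addEquiv₀.symm h').trans (map_zero _))

include h1 hmul in
/-- `Ext` from free and from resolvable sheaves into locally killed sheaves is killed. -/
theorem killed_ext {F : EtCoh.Ab X} (hF : LocKilled P F) (n : ℕ) :
    (∀ N, IsFree N → ∀ y : Ext.{u + 1} N F n, Killed P y) ∧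
      (∀ N, Res N → ∀ y : Ext.{u + 1} N F n, Killed P y) := by
  induction n with
  | zero =>
    refine ⟨fun N ⟨V, hV, ⟨e⟩⟩ => killed_of_iso e (killed_ext_zero_ZV h1 hmul hF hV), fun N hN y => ?_⟩
    obtain ⟨K, Pf, f, g, w, hS, ⟨V, hV, ⟨e⟩⟩, -⟩ := hN.step
    obtain ⟨m, hm, h⟩ := 
      (killed_of_iso e (killed_ext_zero_ZV h1 hmul hF hV) ((Ext.mk₀ g).comp y (zero_add 0)))
    obtain ⟨φ, rfl⟩ := (Ext.mk₀_bijective _ _).2 y
    haveI : Epi g := hS.epi_g
    refine ⟨m, hm, ?_⟩
    have h2 : Ext.mk₀ (m • (g ≫ φ)) = 0 := by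
      refine Eq.trans (map_nsmul Ext.addEquiv₀.symm m (g ≫ φ)) ?_
      rw [Ext.mk₀_comp_mk₀] at h
      exact h
    rw [Ext.mk₀_eq_zero_iff, ← Preadditive.comp_nsmul] at h2
    have h' : m • φ = 0 := (cancel_epi g).1 (h2.trans comp_zero.symm)
    exact (map_nsmul Ext.addEquiv₀.symm m φ).symm.trans ((congrArg Ext.addEquiv₀.symm h').trans (map_zero _))
  | succ n ih =>
    have hn : 1 + n = n + 1 := by omega
    have key : ∀ {K Pf N : EtCoh.Ab X} {f : K ⟶ Pf} {g : Pf ⟶ N} {w : f ≫ g = 0},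
        (ShortComplex.mk f g w).ShortExact → Res K → ∀ y : Ext.{u + 1} N F (n + 1),
        (Ext.mk₀ g).comp y (zero_add (n + 1)) = 0 → Killed P y := by
      intro K Pf N f g w hS hK y hy
      obtain ⟨η, hη⟩ := Ext.contravariant_sequence_exact₃ hS _ y hy hn
      obtain ⟨m, hm, h⟩ := (ih.2 K hK η)
      refine ⟨m, hm, ?_⟩
      rw [← hη]
      refine (map_nsmul (AddMonoidHom.mk' (fun z : Ext.{u + 1} K F n => hS.extClass.comp z hn)
        fun a b => Ext.comp_add _ _ _ _) m η).symm.trans ?_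
      rw [h, map_zero]
    have free : ∀ N, IsFree N → ∀ y : Ext.{u + 1} N F (n + 1), Killed P y := by
      rintro N ⟨V, hV, ⟨e⟩⟩
      refine killed_of_iso e fun y => ?_
      obtain ⟨T, p, hT, hp, hzero⟩ := kill_class hV n F y
      obtain ⟨K, Pf, f, g, w, a, hS, -, hKres, hg⟩ := exists_cover_seq hV hT p hp
      refine key hS hKres y ?_
      rw [hg, ← Ext.mk₀_comp_mk₀_assoc, hzero, Ext.comp_zero]
    refine ⟨free, fun N hN y => ?_⟩
    obtain ⟨K, Pf, f, g, w, hS, hP, hKres⟩ := hN.step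
    obtain ⟨m, hm, h⟩ := (free Pf hP ((Ext.mk₀ g).comp y (zero_add (n + 1))))
    suffices Killed P (m • y) by
      obtain ⟨k, hk, hky⟩ := this
      exact ⟨k * m, hmul _ _ hk hm, by rw [mul_comm, mul_nsmul]; exact hky⟩
    refine key hS hKres (m • y) ?_
    refine Eq.trans ?_ h
    exact map_nsmul (AddMonoidHom.mk' (fun z : Ext.{u + 1} N F (n + 1) => (Ext.mk₀ g).comp z (zero_add (n + 1)))
      fun a b => Ext.comp_add _ _ _ _) m y

include h1 hmul in
theorem killed_H [CompactSpace X] [QuasiSeparatedSpace X] {F : EtCoh.Ab X} (hF : LocKilled P F)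
    (n : ℕ) (y : Ext.{u + 1} (GrothLib.EtColim.Z X) F n) : Killed P y :=
  (killed_ext h1 hmul hF n).1 _ isFree_Z y

include h1 hmul in
/-- Higher direct images of locally killed sheaves along quasi-compact quasi-separated morphisms. -/
theorem locKilled_Rpush (f : X ⟶ Y) [QuasiCompact f] [QuasiSeparated f] [EtCoh.BCCont f] {F : EtCoh.Ab X}
    (hF : LocKilled P F) (n : ℕ) : LocKilled P ((EtCoh.Rpush f n).obj F) := by
  obtain ⟨I⟩ : Nonempty (InjectiveResolution F) := ⟨InjectiveResolution.of F⟩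
  let K : CochainComplex (EtCoh.Ab Y) ℕ := ((EtCoh.push f).mapHomologicalComplex _).obj I.cocomplex
  let e : (EtCoh.Rpush f n).obj F ≅ K.homology n := I.isoRightDerivedObj (EtCoh.push f) n
  intro U s x
  let t : EtCoh.sect (K.homology n) U := e.hom.hom.app (op U) s
  haveI : Sheaf.IsLocallySurjective (K.homologyπ n) :=
    (Sheaf.isLocallySurjective_iff_epi' _ (K.homologyπ n)).2 inferInstance
  obtain ⟨W, g, w, ⟨z, hz⟩, hw⟩ := (mem_topology_iff _).1
    (Presheaf.imageSieve_mem Y.smallEtaleTopology (K.homologyπ n).hom t) x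
  obtain ⟨_, ⟨A, hA, rfl⟩, hwA, -⟩ := W.left.isBasis_affineOpens.exists_subset_of_mem_open
    (Set.mem_univ w) isOpen_univ
  let A₀ : W.left.Opens := A
  let V := opensObj W A₀
  let ι : V ⟶ W := opensHom W A₀
  have hV : Qcqs V :=
    haveI : IsAffine A₀.toScheme := hA
    ⟨(isCompact_iff_compactSpace.1 hA.isCompact :), (inferInstance : QuasiSeparatedSpace ↥A₀.toScheme)⟩
  refine ⟨V, ι ≫ g, ⟨(⟨w, hwA⟩ : A₀), hw⟩, ?_⟩
  let zV : EtCoh.sect (K.cycles n) V := (K.cycles n).obj.map ι.op z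
  let i := K.iCycles n
  let z₀ : EtCoh.sect (I.cocomplex.X n) ((EtCoh.bc f).obj V) := i.hom.app (op V) zV
  have hd : ofSect z₀ ≫ I.cocomplex.d n (n + 1) = 0 := by
    refine ZV_ext ?_
    refine (congrArg ((I.cocomplex.d n (n + 1)).hom.app (op ((EtCoh.bc f).obj V))) (ofSect_gen z₀)).trans ?_
    exact congrArg (fun φ : K.cycles n ⟶ K.X (n + 1) => φ.hom.app (op V) zV) (K.iCycles_d n (n + 1))
  have hinj : Function.Injective (i.hom.app (op V)) := by
    haveI : Mono i.hom := (sheafToPresheaf _ _).map_mono i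
    exact (AddCommGrpCat.mono_iff_injective _).1 inferInstance
  obtain ⟨m, hm, hzero⟩ : ∃ m, P m ∧ (K.homologyπ n).hom.app (op V) (m • zV) = 0 := by
    cases n with
    | zero =>
      let l := I.isLimitKernelFork.lift (KernelFork.ofι (ofSect z₀) hd)
      have hl : l ≫ I.ι.f 0 = ofSect z₀ := Fork.IsLimit.lift_ι I.isLimitKernelFork
      haveI := (qcqs_bc_of_qcqs f hV).1
      obtain ⟨m, hm, h⟩ := 
        (killed_of_compact h1 hmul hF ((EtCoh.bc f).obj V)
          (l.hom.app (op ((EtCoh.bc f).obj V)) (gen _)))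
      refine ⟨m, hm, ?_⟩
      have h0 : m • zV = 0 := by
        refine hinj ?_
        rw [map_nsmul, map_zero]
        change m • z₀ = 0
        rw [← ofSect_gen z₀, ← hl]
        refine (map_nsmul ((I.ι.f 0).hom.app (op ((EtCoh.bc f).obj V))).hom m _).symm.trans ?_
        exact (congrArg ((I.ι.f 0).hom.app (op ((EtCoh.bc f).obj V))) h).trans (map_zero _)
      rw [h0, map_zero]
    | succ p =>
      obtain ⟨m, hm, h⟩ := 
        ((killed_ext h1 hmul hF (p + 1)).1 _ ⟨_, qcqs_bc_of_qcqs f hV, ⟨Iso.refl _⟩⟩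
          (I.extMk (ofSect z₀) (p + 2) rfl hd))
      refine ⟨m, hm, ?_⟩
      have hd' : ∀ k : ℕ, (k • ofSect z₀) ≫ I.cocomplex.d (p + 1) (p + 2) = 0 := fun k => by
        rw [Preadditive.nsmul_comp, hd, smul_zero]
      have hlin : ∀ k : ℕ, I.extMk (k • ofSect z₀) (p + 2) rfl (hd' k) =
          k • I.extMk (ofSect z₀) (p + 2) rfl hd := by
        intro k
        induction k with
        | zero => simp only [zero_smul]; exact I.extMk_zero _ _
        | succ k ih =>
          simp only [succ_nsmul]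
          rw [← ih, I.add_extMk]
      rw [← hlin] at h
      obtain ⟨g', hg'⟩ := (I.extMk_eq_zero_iff _ _ rfl (hd' m) p rfl).1 h
      let y : EtCoh.sect (K.X p) V := g'.hom.app (op ((EtCoh.bc f).obj V)) (gen _)
      have h1 : (K.toCycles p (p + 1)).hom.app (op V) y = m • zV := by
        refine hinj ?_
        refine (congrArg (fun φ : K.X p ⟶ K.X (p + 1) => φ.hom.app (op V) y) (K.toCycles_i p (p + 1))).trans ?_
        rw [map_nsmul]
        refine Eq.trans ?_ (ofSect_gen (m • z₀))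
        rw [← nsmul_ofSect, ← hg']
        rfl
      rw [← h1]
      exact congrArg (fun φ : K.X p ⟶ K.homology (p + 1) => φ.hom.app (op V) y) (K.toCycles_comp_homologyπ p (p + 1))
  refine ⟨m, hm, ?_⟩
  let R := (EtCoh.Rpush f n).obj F
  have he : Function.Injective (e.hom.hom.app (op V)) := by
    haveI : IsIso ((sheafToPresheaf _ _).map e.hom) := inferInstance
    haveI : IsIso (e.hom.hom.app (op V)) := inferInstanceAs (IsIso (((sheafToPresheaf _ _).map e.hom).app (op V)))
    exact (ConcreteCategory.bijective_of_isIso _).injective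
  refine he ?_
  rw [map_nsmul, map_zero, ← hzero, map_nsmul]
  refine congrArg (fun a => m • a) ?_
  refine (NatTrans.naturality_apply e.hom.hom (ι ≫ g).op s).trans ?_
  refine (ConcreteCategory.congr_hom ((K.homology n).obj.map_comp g.op ι.op) t).trans ?_
  refine (congrArg ((K.homology n).obj.map ι.op) hz.symm).trans ?_
  exact (NatTrans.naturality_apply (K.homologyπ n).hom ι.op z).symm

end GrothLib.EtLimit
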