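import Groth.Agent.Lib.EtLimit.Descent
import Groth.Agent.Lib.LimDescend.Property
import Groth.Agent.Lib.LimSmooth.Affine

/-!
# Objects of the small étale site of a limit come from a stage
-/

set_option autoImplicit false
set_option backward.isDefEq.respectTransparency false
universe u

open CategoryTheory CategoryTheory.Limits CategoryTheory.Abelian AlgebraicGeometry Opposite
open GrothLib.EtSite GrothLib.LimDesc GrothLib.LimDescend

noncomputable section

namespace GrothLib.EtLimit

open GrothLib.ConnFibres (proj)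

variable {X Y Z : Scheme.{u}}

variable {I : Type u} [SmallCategory I] [IsCofiltered I] {D : I ⥤ Scheme.{u}} {c : Cone D} (hc : IsLimit c)
  [∀ (i j : I) (f : i ⟶ j), IsAffineHom (D.map f)]

include hc in
/-- An étale object over the limit comes from one at a stage. -/
theorem exists_obj_stage {j : I} {V : (D.obj j).Etale} (hV : Qcqs V)
    {T : c.pt.Etale} (hT : Qcqs T) (p : T ⟶ (EtCoh.bc (c.π.app j)).obj V) :
    ∃ (k : I) (a : k ⟶ j) (W : (D.obj k).Etale) (q : W ⟶ (EtCoh.bc (D.map a)).obj V)
      (ν : (EtCoh.bc (c.π.app k)).obj W ⟶ T), Qcqs W ∧ IsIso ν ∧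
      ν ≫ p = mu (c.π.app k) (D.map a) (c.π.app j) (c.w a) V q := by
  let hP := IsPullback.of_hasPullback V.hom (c.π.app j)
  let F := diag D j V.hom
  haveI : ∀ (x y : Over j) (f : x ⟶ y), IsAffineHom (F.map f) := fun x y f => inferInstance
  haveI : ∀ x, CompactSpace ↥(F.obj x) := fun x => (qcqs_bc (D.map x.hom) hV).1
  haveI : ∀ x, QuasiSeparatedSpace ↥(F.obj x) := fun x => (qcqs_bc (D.map x.hom) hV).2
  let f : T.left ⟶ (cone D j V.hom hP).pt := p.left
  haveI hf : Etale f := GrothLib.ConnFibres.etale_left p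
  haveI := isAffineHom_π_app D c hc j
  have hVi : Qcqs ((EtCoh.bc (c.π.app j)).obj V) := qcqs_bc (c.π.app j) hV
  haveI : CompactSpace ↥(cone D j V.hom hP).pt := hVi.1
  haveI : QuasiSeparatedSpace ↥(cone D j V.hom hP).pt := hVi.2
  haveI : CompactSpace ↥T.left := hT.1
  haveI : QuasiSeparatedSpace ↥T.left := hT.2
  haveI : QuasiCompact f := quasiCompact_of_compactSpace f
  haveI : QuasiSeparated f := by
    haveI : QuasiSeparated (f ≫ terminal.from _) := by
      rw [terminalIsTerminal.hom_ext (f ≫ terminal.from _) (terminal.from _),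
        ← quasiSeparatedSpace_iff_quasiSeparated]
      exact hT.2
    exact QuasiSeparated.of_comp f (terminal.from _)
  obtain ⟨l, M, hM⟩ := exists_model_property F _ (isLimitCone D j V.hom hP hc) @Etale
    (fun a b _ => GrothLib.LimSmooth.etale_comp_openImmersion a b) GrothLib.LimSmooth.affineCase_etale f hf
  let k := l.left
  let a : k ⟶ j := l.hom
  let Va := (EtCoh.bc (D.map a)).obj V
  let h : M.obj ⟶ Va.left := M.hom
  haveI : Etale h := hM
  let W : (D.obj k).Etale := GrothLib.EtBasicB.objOver (U := Va) h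
  let q : W ⟶ Va := MorphismProperty.Over.homMk h rfl trivial
  have hM' : IsPullback M.proj f M.hom ((cone D j V.hom hP).π.app l) := M.isPullback
  have hst : toStage (c.π.app k) (D.map a) (c.π.app j) (c.w a) V = (cone D j V.hom hP).π.app l :=
    toStage_eq_cone a V
  let m := mu (c.π.app k) (D.map a) (c.π.app j) (c.w a) V q
  let n₀ : ((EtCoh.bc (c.π.app k)).obj W).left ⟶ T.left :=
    hM'.lift (proj (c.π.app k) W) m.left
      ((toStage_mu_hom (c.π.app k) (D.map a) (c.π.app j) (c.w a) V q).symm.trans (congrArg (m.left ≫ ·) hst))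
  have hn : n₀ ≫ p.left = m.left := hM'.lift_snd _ _ _
  let ν : (EtCoh.bc (c.π.app k)).obj W ⟶ T := MorphismProperty.Over.homMk n₀ (by
    rw [← MorphismProperty.Over.w p, ← Category.assoc, hn]
    exact MorphismProperty.Over.w m) trivial
  refine ⟨k, a, W, q, ν, ⟨?_, ?_⟩, ?_, MorphismProperty.Over.Hom.ext hn⟩
  · exact QuasiCompact.compactSpace_of_compactSpace M.hom
  · exact quasiSeparatedSpace_of_quasiSeparated M.hom
  · let α : ((EtCoh.bc (c.π.app j)).obj V).left ≅ ((EtCoh.bc (c.π.app k)).obj Va).left :=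
      (Scheme.Etale.forget c.pt ⋙ Over.forget c.pt).mapIso
        ((eBC (c.π.app k) (D.map a) (c.π.app j) (c.w a)).app V)
    have hα : toStage (c.π.app k) (D.map a) (c.π.app j) (c.w a) V = α.hom ≫ proj (c.π.app k) Va := rfl
    have hmα : m.left ≫ α.hom = ((EtCoh.bc (c.π.app k)).map q).left :=
      congrArg (fun m => m.left) (show m ≫ (eBC (c.π.app k) (D.map a) (c.π.app j) (c.w a)).hom.app V =
          (EtCoh.bc (c.π.app k)).map q by
        simp only [m, mu, Category.assoc, Iso.inv_hom_id_app]
        exact Category.comp_id _)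
    have hm : IsPullback (proj (c.π.app k) W) m.left q.left
        (toStage (c.π.app k) (D.map a) (c.π.app j) (c.w a) V) := by
      refine (IsPullback.of_iso (EtCoh.isPullback_bc_map (c.π.app k) q) (Iso.refl _) α.symm (Iso.refl _)
        (Iso.refl _) ?_ ?_ ?_ ?_).flip
      · rw [Iso.refl_hom, Category.id_comp, Iso.symm_hom, ← hmα, Category.assoc, Iso.hom_inv_id, Category.comp_id]
      · rw [Iso.refl_hom, Iso.refl_hom, Category.comp_id]
        exact (Category.id_comp _).symm
      · rw [hα, Iso.refl_hom, Category.comp_id, Iso.symm_hom, Iso.inv_hom_id_assoc]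
      · rw [Iso.refl_hom, Iso.refl_hom, Category.comp_id]
        exact (Category.id_comp _).symm
    have hm2 : IsPullback (proj (c.π.app k) W) m.left M.hom ((cone D j V.hom hP).π.app l) := by
      rw [← hst]; exact hm
    haveI : IsIso n₀ := by
      have : n₀ = (IsPullback.isoIsPullback _ _ hm2 hM').hom := by
        refine hM'.hom_ext ?_ ?_
        · exact (hM'.lift_fst _ _ _).trans (IsPullback.isoIsPullback_hom_fst _ _ hm2 hM').symm
        · exact hn.trans (IsPullback.isoIsPullback_hom_snd _ _ hm2 hM').symm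
      rw [this]; infer_instance
    haveI : IsIso ((Scheme.Etale.forget c.pt ⋙ Over.forget c.pt).map ν) := ‹IsIso n₀›
    exact isIso_of_reflects_iso ν (Scheme.Etale.forget c.pt ⋙ Over.forget c.pt)

end GrothLib.EtLimit
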