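import Groth.Agent.Lib.EtLimit.PushSys
import Groth.Agent.Lib.EtLimit.ObjStage
import Groth.Agent.Lib.EtSite.GermUnit

/-!
# A sheaf on a limit is the colimit of the pullbacks of its direct images
-/

set_option autoImplicit false
set_option backward.isDefEq.respectTransparency false
universe u

open CategoryTheory CategoryTheory.Limits AlgebraicGeometry Opposite
open GrothLib.EtSite

noncomputable section

namespace GrothLib.EtLimit

variable {X Y Z : Scheme.{u}}

theorem qV_inv_app (f : X ⟶ Y) (t : Y ⟶ Z) (t' : X ⟶ Z) (w : f ≫ t = t') (H : EtCoh.Ab X) (V : Z.Etale) :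
    ((qV f t t' w).inv.app H).hom.app (op V) = H.obj.map ((eBC f t t' w).inv.app V).op := by
  have h : ((qV f t t' w).inv.app H).hom.app (op V) ≫ ((qV f t t' w).hom.app H).hom.app (op V) = 𝟙 _ :=
    congrArg (fun φ : (EtCoh.push t').obj H ⟶ (EtCoh.push t').obj H => φ.hom.app (op V))
      ((qV f t t' w).inv_hom_id_app H)
  rw [qV_app] at h
  let e := H.obj.mapIso (((eBC f t t' w).app V).op)
  exact (Iso.eq_comp_inv e).2 h |>.trans (Category.id_comp _)

theorem counit_unit_sect (f : X ⟶ Y) (F : EtCoh.Ab X) (W : Y.Etale) (s : EtCoh.sect F ((EtCoh.bc f).obj W)) :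
    ((EtCoh.pullPushAdj f).counit.app F).hom.app (op ((EtCoh.bc f).obj W))
      (unitSect f (G := (EtCoh.push f).obj F) (U := W) s) = s :=
  congrArg (fun φ : (EtCoh.push f).obj F ⟶ (EtCoh.push f).obj F => φ.hom.app (op W) s)
    ((EtCoh.pullPushAdj f).right_triangle_components F)

/-- The transition maps on sections coming from the base. -/
theorem sysTr_unitSect (f : X ⟶ Y) (t : Y ⟶ Z) (t' : X ⟶ Z) (w : f ≫ t = t') (F : EtCoh.Ab X) {V : Z.Etale}
    {W : Y.Etale} (q : W ⟶ (EtCoh.bc t).obj V) (s : EtCoh.sect F ((EtCoh.bc t').obj V)) :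
    ((EtCoh.pull f).obj ((EtCoh.push f).obj F)).obj.map (mu f t t' w V q).op
        ((sysTr f t t' w F).hom.app (op ((EtCoh.bc t').obj V))
          (unitSect t' (G := (EtCoh.push t').obj F) (U := V) s)) =
      unitSect f (G := (EtCoh.push f).obj F) (U := W) (F.obj.map (mu f t t' w V q).op s) := by
  let G := (EtCoh.pull f).obj ((EtCoh.push f).obj F)
  let s' : EtCoh.sect F ((EtCoh.bc f).obj ((EtCoh.bc t).obj V)) := F.obj.map ((eBC f t t' w).inv.app V).op s
  let x : EtCoh.sect G ((EtCoh.bc f).obj ((EtCoh.bc t).obj V)) :=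
    unitSect f (G := (EtCoh.push f).obj F) (U := (EtCoh.bc t).obj V) s'
  have h : (sysTr f t t' w F).hom.app (op ((EtCoh.bc t').obj V))
      (unitSect t' (G := (EtCoh.push t').obj F) (U := V) s) =
      G.obj.map ((eBC f t t' w).hom.app V).op x := by
    refine (congrArg (fun φ : (EtCoh.push t').obj F ⟶ (EtCoh.push t').obj G => φ.hom.app (op V) s)
      (unit_sysTr f t t' w F)).trans ?_
    refine (congrArg (fun φ => φ (((EtCoh.push t).map ((EtCoh.pullPushAdj f).unit.app ((EtCoh.push f).obj F))).hom.app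
      (op V) (((qV f t t' w).inv.app F).hom.app (op V) s))) (qV_app f t t' w G V)).trans ?_
    refine congrArg (fun y => G.obj.map ((eBC f t t' w).hom.app V).op
      (((EtCoh.push t).map ((EtCoh.pullPushAdj f).unit.app ((EtCoh.push f).obj F))).hom.app (op V) y)) ?_
    exact congrArg (fun φ => φ s) (qV_inv_app f t t' w F V)
  have hm : mu f t t' w V q ≫ (eBC f t t' w).hom.app V = (EtCoh.bc f).map q := by
    rw [mu, Category.assoc, Iso.inv_hom_id_app]
    exact Category.comp_id _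
  have hm2 : (EtCoh.bc f).map q ≫ (eBC f t t' w).inv.app V = mu f t t' w V q := rfl
  rw [h]
  rw [← ConcreteCategory.comp_apply, ← Functor.map_comp, ← op_comp, hm]
  refine (NatTrans.naturality_apply ((EtCoh.pullPushAdj f).unit.app ((EtCoh.push f).obj F)).hom q.op s').symm.trans ?_
  refine congrArg (fun y => unitSect f (G := (EtCoh.push f).obj F) (U := W) y) ?_
  change F.obj.map ((EtCoh.bc f).map q).op s' = _
  rw [← hm2, op_comp, Functor.map_comp, ConcreteCategory.comp_apply]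
  rfl

variable {ι : Type u} [Preorder ι] (Xs : ιᵒᵖ ⥤ Scheme.{u}) (c : Cone Xs) (F : EtCoh.Ab c.pt)

/-- The system of pulled back direct images. -/
def pushG : ι ⥤ EtCoh.Ab c.pt where
  obj i := (EtCoh.pull (c.π.app (op i))).obj ((EtCoh.push (c.π.app (op i))).obj F)
  map {i j} h := sysTr (X := c.pt) (c.π.app (op j)) (Xs.map h.op) (c.π.app (op i)) (c.w h.op) F
  map_id i := sysTr_id (X := c.pt) (c.π.app (op i)) (Xs.map (𝟙 i).op) (by simp) (c.w (𝟙 i).op) F
  map_comp {i j k} h h' := (sysTr_comp (W := c.pt) (c.π.app (op k)) (Xs.map h'.op) (Xs.map h.op)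
    (c.π.app (op j)) (Xs.map (h ≫ h').op) (c.π.app (op i)) (c.w h'.op)
    (by rw [← Functor.map_comp, ← op_comp]) (c.w (h ≫ h').op) (c.w h.op) F).symm

theorem pushG_map {i j : ι} (h : i ⟶ j) :
    (pushG Xs c F).map h = sysTr (X := c.pt) (c.π.app (op j)) (Xs.map h.op) (c.π.app (op i)) (c.w h.op) F := rfl

/-- The counits. -/
def pushCocone : Cocone (pushG Xs c F) where
  pt := F
  ι := { app := fun i => (EtCoh.pullPushAdj (c.π.app (op i))).counit.app F
         naturality := fun i j h => (sysTr_counit (X := c.pt) (c.π.app (op j)) (Xs.map h.op) (c.π.app (op i))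
           (c.w h.op) F).trans (Category.comp_id _).symm }

theorem exists_stage_rep' {J : Type u} [SmallCategory J] [IsFiltered J] {A : Type*} [Category A] (G : J ⥤ A)
    (Φ : A ⥤ AddCommGrpCat.{u + 1}) [PreservesColimit G Φ] [HasColimit G] (x : Φ.obj (colimit G)) :
    ∃ (j : J) (η : Φ.obj (G.obj j)), Φ.map (colimit.ι G j) η = x :=
  Concrete.isColimit_exists_rep (G ⋙ Φ) (isColimitOfPreserves Φ (colimit.isColimit G)) x

theorem exists_fib_affine {X : Scheme.{u}} {Ω : Type u} [Field Ω] [IsSepClosed Ω] (η : Spec (CommRingCat.of Ω) ⟶ X)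
    {P : X.Etale} (p₀ : (Scheme.pointSmallEtale η).fiber.obj P) :
    ∃ (A : P.left.Opens) (p : (Scheme.pointSmallEtale η).fiber.obj (opensObj P A)),
      IsAffineOpen A ∧ (Scheme.pointSmallEtale η).fiber.map (opensHom P A) p = p₀ := by
  obtain ⟨_, ⟨A, hA, rfl⟩, hpA, -⟩ := P.left.isBasis_affineOpens.exists_subset_of_mem_open
    (Set.mem_univ (p₀.left.base (default : Spec (CommRingCat.of Ω)))) isOpen_univ
  let A₀ : P.left.Opens := A
  obtain ⟨p, hp, -⟩ := GrothLib.EtBasicB.exists_fib_lift η (opensHom P A₀) p₀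
    (⟨p₀.left.base (default : Spec (CommRingCat.of Ω)), hpA⟩ : A₀) rfl
  exact ⟨A₀, p, hA, hp⟩

theorem qcqs_opensObj {X : Scheme.{u}} {P : X.Etale} {A : P.left.Opens} (hA : IsAffineOpen A) :
    Qcqs (opensObj P A) :=
  haveI : IsAffine A.toScheme := hA
  ⟨(isCompact_iff_compactSpace.1 hA.isCompact :), (inferInstance : QuasiSeparatedSpace ↥A.toScheme)⟩

variable [Nonempty ι] [IsDirected ι (· ≤ ·)]

theorem surjective_stalk_desc (haff : ∀ ⦃a b : ιᵒᵖ⦄ (h : a ⟶ b), IsAffineHom (Xs.map h))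
    (hqc : ∀ a, CompactSpace ↥(Xs.obj a)) (hqs : ∀ a, QuasiSeparatedSpace ↥(Xs.obj a)) (hc : IsLimit c)
    {Ω : Type u} [Field Ω] [IsSepClosed Ω] (ξ : Spec (CommRingCat.of Ω) ⟶ c.pt) :
    Function.Surjective ((EtCoh.stalk ξ).map (colimit.desc (pushG Xs c F) (pushCocone Xs c F))) := by
  haveI : ∀ (a b : ιᵒᵖ) (f : a ⟶ b), IsAffineHom (Xs.map f) := fun a b f => haff f
  intro y
  obtain ⟨T₀, t₀, s₀, rfl⟩ := exists_germ ξ F y
  obtain ⟨A, t, hA, ht⟩ := exists_fib_affine ξ t₀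
  let T := opensObj T₀ A
  let j₀ : ι := Classical.arbitrary ι
  let V : (Xs.obj (op j₀)).Etale := Scheme.Etale.mk (𝟙 _)
  have hV : Qcqs V := ⟨hqc _, hqs _⟩
  let p : T ⟶ (EtCoh.bc (c.π.app (op j₀))).obj V :=
    MorphismProperty.Over.homMk (pullback.lift (T.hom ≫ c.π.app (op j₀)) T.hom (Category.comp_id _))
      (pullback.lift_snd _ _ _) trivial
  obtain ⟨⟨k⟩, a, W, q, ν, -, hν, -⟩ := exists_obj_stage hc hV (qcqs_opensObj hA) p
  let s : EtCoh.sect F T := F.obj.map (opensHom T₀ A).op s₀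
  let s' : EtCoh.sect F ((EtCoh.bc (c.π.app (op k))).obj W) := F.obj.map ν.op s
  let t' := (Scheme.pointSmallEtale ξ).fiber.map (inv ν) t
  have ht' : (Scheme.pointSmallEtale ξ).fiber.map ν t' = t := by
    rw [← ConcreteCategory.comp_apply, ← Functor.map_comp, IsIso.inv_hom_id, CategoryTheory.Functor.map_id]
    rfl
  refine ⟨(EtCoh.stalk ξ).map (colimit.ι (pushG Xs c F) k) (germ ξ ((pushG Xs c F).obj k) t'
    (unitSect (c.π.app (op k)) (G := (EtCoh.push (c.π.app (op k))).obj F) (U := W) s')), ?_⟩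
  rw [← ConcreteCategory.comp_apply, ← Functor.map_comp, colimit.ι_desc]
  refine (stalk_map_germ ξ _ t' _).trans ((congrArg (germ ξ F t') (counit_unit_sect _ F W s')).trans ?_)
  refine (germ_map ξ F ν t' s).trans ?_
  rw [ht']
  refine (germ_map ξ F (opensHom T₀ A) t s₀).trans ?_
  rw [ht]

theorem injective_stalk_desc (haff : ∀ ⦃a b : ιᵒᵖ⦄ (h : a ⟶ b), IsAffineHom (Xs.map h)) (hc : IsLimit c)
    {Ω : Type u} [Field Ω] [IsSepClosed Ω] (ξ : Spec (CommRingCat.of Ω) ⟶ c.pt) :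
    Function.Injective ((EtCoh.stalk ξ).map (colimit.desc (pushG Xs c F) (pushCocone Xs c F))) := by
  haveI : ∀ (a b : ιᵒᵖ) (f : a ⟶ b), IsAffineHom (Xs.map f) := fun a b f => haff f
  haveI : PreservesColimitsOfSize.{u, u} (EtCoh.stalk ξ) :=
    (Scheme.pointSmallEtale ξ).skyscraperSheafAdjunction.leftAdjoint_preservesColimits
  rw [injective_iff_map_eq_zero]
  intro x hx
  obtain ⟨i, y, rfl⟩ := exists_stage_rep' (pushG Xs c F) (EtCoh.stalk ξ) x
  rw [← ConcreteCategory.comp_apply, ← Functor.map_comp, colimit.ι_desc] at hx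
  let π : c.pt ⟶ Xs.obj (op i) := c.π.app (op i)
  let P : EtCoh.Ab (Xs.obj (op i)) := (EtCoh.push π).obj F
  obtain ⟨z, rfl⟩ := (ConcreteCategory.bijective_of_isIso ((pullStalkIso ξ π).inv.app P)).surjective y
  obtain ⟨U, u₀, s₀, rfl⟩ := exists_germ (ξ ≫ π) P z
  obtain ⟨A, u, hA, hu⟩ := exists_fib_affine (ξ ≫ π) u₀
  rw [← hu, ← germ_map] at hx ⊢
  rw [← germ_unit] at hx ⊢
  let V := opensObj U A
  let v := (fiberBcIso ξ π).inv.app V u
  let s : EtCoh.sect F ((EtCoh.bc π).obj V) := P.obj.map (opensHom U A).op s₀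
  have hs : germ ξ F v s = 0 := by
    refine Eq.trans ?_ hx
    refine Eq.trans ?_ (stalk_map_germ ξ ((pushCocone Xs c F).ι.app i) v (unitSect π (G := P) (U := V) s)).symm
    exact congrArg (germ ξ F v) (counit_unit_sect π F V s).symm
  rw [← map_zero (germ ξ F v).hom] at hs
  obtain ⟨T₀, g₀, w₀, hw₀, hg₀⟩ := (germ_eq_iff ξ F v s 0).1 hs
  obtain ⟨B, t, hB, ht⟩ := exists_fib_affine ξ w₀
  let p : opensObj T₀ B ⟶ (EtCoh.bc π).obj V := opensHom T₀ B ≫ g₀
  obtain ⟨⟨k⟩, a, W, q, ν, -, hν, hνp⟩ := exists_obj_stage hc (qcqs_opensObj hA) (qcqs_opensObj hB) p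
  let t' := (Scheme.pointSmallEtale ξ).fiber.map (inv ν) t
  have hmu : (Scheme.pointSmallEtale ξ).fiber.map (mu (c.π.app (op k)) (Xs.map a) π (c.w a) V q) t' = v := by
    rw [← hνp, ← ConcreteCategory.comp_apply, ← Functor.map_comp, IsIso.inv_hom_id_assoc, Functor.map_comp,
      ConcreteCategory.comp_apply, ht, hw₀]
  have hs0 : F.obj.map (mu (c.π.app (op k)) (Xs.map a) π (c.w a) V q).op s = 0 := by
    rw [← hνp, op_comp, op_comp, Functor.map_comp, Functor.map_comp, ConcreteCategory.comp_apply,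
      ConcreteCategory.comp_apply, hg₀]
    simp
  have hmap : (pushG Xs c F).map a.unop = sysTr (c.π.app (op k)) (Xs.map a) π (c.w a) F := rfl
  rw [← colimit.w (pushG Xs c F) a.unop, Functor.map_comp, ConcreteCategory.comp_apply]
  refine (congrArg _ ?_).trans (map_zero ((EtCoh.stalk ξ).map (colimit.ι (pushG Xs c F) k)).hom)
  refine (stalk_map_germ ξ ((pushG Xs c F).map a.unop) v (unitSect π (G := P) (U := V) s)).trans ?_
  rw [← hmu]
  refine (germ_map ξ _ (mu (c.π.app (op k)) (Xs.map a) π (c.w a) V q) t' _).symm.trans ?_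
  rw [hmap]
  refine (congrArg (germ ξ _ t') (sysTr_unitSect (c.π.app (op k)) (Xs.map a) π (c.w a) F q s)).trans ?_
  rw [hs0, unitSect]
  exact (congrArg _ (map_zero (((EtCoh.pullPushAdj (c.π.app (op k))).unit.app _).hom.app (op W)).hom)).trans (map_zero _)

/-- A sheaf on a limit is the colimit of the pullbacks of its direct images. -/
theorem isIso_desc (haff : ∀ ⦃a b : ιᵒᵖ⦄ (h : a ⟶ b), IsAffineHom (Xs.map h))
    (hqc : ∀ a, CompactSpace ↥(Xs.obj a)) (hqs : ∀ a, QuasiSeparatedSpace ↥(Xs.obj a)) (hc : IsLimit c) :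
    IsIso (colimit.desc (pushG Xs c F) (pushCocone Xs c F)) :=
  isIso_of_stalks _ fun Ω _ _ ξ => ⟨injective_stalk_desc Xs c F haff hc ξ,
    surjective_stalk_desc Xs c F haff hqc hqs hc ξ⟩

end GrothLib.EtLimit
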