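import Groth.Agent.Lib.EtLimit.KilledCoh
import Groth.Agent.Lib.EtLimit.PushColim

/-!
# Localization of coefficients and cohomology
-/

set_option autoImplicit false
set_option backward.isDefEq.respectTransparency false
universe u

open CategoryTheory CategoryTheory.Limits CategoryTheory.Abelian AlgebraicGeometry Opposite
open GrothLib.EtSite
open scoped GrothLib.EtFast

noncomputable section

namespace GrothLib.EtLimit

variable {X : Scheme.{u}} (S : Submonoid ℤ)

/-- Divisors of elements of a submonoid of the integers. -/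
def DivS (m : ℕ) : Prop := ∃ s ∈ S, (m : ℤ) ∣ s

theorem divS_one : DivS S 1 := ⟨1, S.one_mem, by simp⟩

theorem divS_mul {a b : ℕ} (ha : DivS S a) (hb : DivS S b) : DivS S (a * b) := by
  obtain ⟨s, hs, hsa⟩ := ha
  obtain ⟨t, ht, htb⟩ := hb
  exact ⟨s * t, S.mul_mem hs ht, by push_cast; exact mul_dvd_mul hsa htb⟩

theorem killed_of_zsmul {M : Type*} [AddCommGroup M] {c : ℤ} (hc : c ∈ S) {x : M} (h : c • x = 0) :
    Killed (DivS S) x := by
  refine ⟨c.natAbs, ⟨c, hc, Int.natAbs_dvd.2 (dvd_refl c)⟩, ?_⟩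
  rcases Int.natAbs_eq c with e | e
  · rw [e] at h
    exact (natCast_zsmul x _).symm.trans h
  · rw [e, neg_smul, neg_eq_zero] at h
    exact (natCast_zsmul x _).symm.trans h

theorem exists_zsmul_of_killed {M : Type*} [AddCommGroup M] {x : M} (h : Killed (DivS S) x) :
    ∃ c ∈ S, c • x = 0 := by
  obtain ⟨m, ⟨c, hc, k, rfl⟩, hm⟩ := h
  exact ⟨_, hc, by rw [mul_comm, mul_smul, natCast_zsmul, hm, smul_zero]⟩

/-- An affine neighbourhood in an etale scheme. -/
theorem exists_affine_nbhd (U : X.Etale) (x : U.left) :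
    ∃ (V : X.Etale) (g : V ⟶ U), IsAffine V.left ∧ ∃ v : V.left, g.left.base v = x := by
  obtain ⟨_, ⟨A, hA, rfl⟩, hxA, -⟩ := U.left.isBasis_affineOpens.exists_subset_of_mem_open
    (Set.mem_univ x) isOpen_univ
  let A₀ : U.left.Opens := A
  exact ⟨opensObj U A₀, opensHom U A₀, hA, (⟨x, hxA⟩ : A₀), rfl⟩

variable {F G : EtCoh.Ab X} (φ : F ⟶ G)
  (hφ : ∀ U : X.Etale, IsAffine U.left → IsLocalizedModule S (φ.hom.app (op U)).hom.toIntLinearMap)

include hφ in
theorem locKilled_kernel : LocKilled (DivS S) (kernel φ) := by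
  intro U k x
  obtain ⟨V, g, hV, v, hv⟩ := exists_affine_nbhd U x
  refine ⟨V, g, ⟨v, hv⟩, ?_⟩
  let i := (kernel.ι φ).hom.app (op V)
  let k' := (kernel φ).obj.map g.op k
  have h0 : φ.hom.app (op V) (i k') = φ.hom.app (op V) 0 := by
    rw [map_zero]
    exact congrArg (fun ψ : kernel φ ⟶ G => ψ.hom.app (op V) k') (kernel.condition φ)
  obtain ⟨c, hc⟩ := (hφ V hV).exists_of_eq h0
  haveI : Mono (kernel.ι φ).hom := (sheafToPresheaf _ _).map_mono (kernel.ι φ)
  refine killed_of_zsmul S c.2 ((AddCommGrpCat.mono_iff_injective i).1 inferInstance ?_)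
  rw [map_zsmul, map_zero]
  exact hc.trans (smul_zero _)

include hφ in
theorem locKilled_cokernel : LocKilled (DivS S) (cokernel φ) := by
  intro U t x
  haveI : Sheaf.IsLocallySurjective (cokernel.π φ) :=
    (Sheaf.isLocallySurjective_iff_epi' _ (cokernel.π φ)).2 inferInstance
  obtain ⟨W, g, w, ⟨y, hy⟩, hw⟩ := (mem_topology_iff _).1
    (Presheaf.imageSieve_mem X.smallEtaleTopology (cokernel.π φ).hom t) x
  obtain ⟨V, h, hV, v, hv⟩ := exists_affine_nbhd W w
  refine ⟨V, h ≫ g, ⟨v, ?_⟩, ?_⟩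
  · exact (congrArg g.left.base hv).trans hw
  obtain ⟨⟨z, c⟩, hzc⟩ := (hφ V hV).surj (G.obj.map h.op y)
  refine killed_of_zsmul S c.2 ?_
  rw [op_comp, Functor.map_comp, ConcreteCategory.comp_apply, ← hy]
  erw [← NatTrans.naturality_apply (cokernel.π φ).hom h.op y, ← map_zsmul]
  refine (congrArg ((cokernel.π φ).hom.app (op V)) hzc).trans ?_
  exact congrArg (fun ψ : F ⟶ cokernel φ => ψ.hom.app (op V) z) (cokernel.condition φ)

include hφ in
theorem isIso_zsmul (c : S) : IsIso ((c : ℤ) • 𝟙 G) := by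
  refine isIso_of_stalks _ fun Ω _ _ ξ => ?_
  have hb : ∀ V : X.Etale, IsAffine V.left → Function.Bijective (fun y : EtCoh.sect G V => (c : ℤ) • y) :=
    fun V hV => (Module.End.isUnit_iff _).1 ((hφ V hV).map_units c)
  have happ : ∀ (V : X.Etale) (y : EtCoh.sect G V), ((c : ℤ) • 𝟙 G).hom.app (op V) y = (c : ℤ) • y :=
    fun V y => rfl
  refine ⟨(injective_iff_map_eq_zero _).2 fun p hp => ?_, fun p => ?_⟩
  · obtain ⟨U, t₀, s, rfl⟩ := exists_germ ξ G p
    rw [stalk_map_germ, happ, ← map_zero (germ ξ G t₀).hom] at hp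
    obtain ⟨W, g, w, hw, hgw⟩ := (germ_eq_iff ξ G t₀ _ _).1 hp
    obtain ⟨A, t, hA, ht⟩ := exists_fib_affine ξ w
    have h0 : G.obj.map (opensHom W A).op (G.obj.map g.op s) = 0 := by
      refine (hb (opensObj W A) hA).1 ?_
      dsimp only
      rw [smul_zero, ← map_zsmul, ← map_zsmul, hgw, map_zero, map_zero]
    rw [← hw, ← germ_map, ← ht, ← germ_map, h0, map_zero]
  · obtain ⟨U, t₀, s, rfl⟩ := exists_germ ξ G p
    obtain ⟨A, t, hA, ht⟩ := exists_fib_affine ξ t₀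
    obtain ⟨z, hz⟩ := (hb (opensObj U A) hA).2 (G.obj.map (opensHom U A).op s)
    refine ⟨germ ξ G t z, ?_⟩
    rw [stalk_map_germ, happ, show (c : ℤ) • z = _ from hz, germ_map, ht]

include hφ in
/-- Localization of the coefficients localizes cohomology. -/
theorem isLocalizedModule_H [CompactSpace X] [QuasiSeparatedSpace X] (i : ℕ) :
    IsLocalizedModule S
      (((Ext.mk₀ φ).postcomp (GrothLib.EtColim.Z X) (add_zero i)).toIntLinearMap :
        Ext.{u + 1} (GrothLib.EtColim.Z X) F i →ₗ[ℤ] Ext.{u + 1} (GrothLib.EtColim.Z X) G i) := by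
  let A := GrothLib.EtColim.Z X
  let C := cokernel φ
  let Im := Abelian.image φ
  let e : F ⟶ Im := Abelian.factorThruImage φ
  let m : Im ⟶ G := Abelian.image.ι φ
  have hem : e ≫ m = φ := Abelian.image.fac φ
  have w1 : kernel.ι φ ≫ e = 0 := by
    rw [← cancel_mono m, Category.assoc, hem, kernel.condition, zero_comp]
  have hT1 : (ShortComplex.mk (kernel.ι φ) e w1).ShortExact :=
    ShortComplex.ShortExact.mk' (ShortComplex.exact_of_f_is_kernel _
      (KernelFork.IsLimit.ofι' _ w1 fun k hk => ⟨kernel.lift φ k (by rw [← hem, reassoc_of% hk, zero_comp]),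
        kernel.lift_ι _ _ _⟩)) inferInstance inferInstance
  have hT2 : (ShortComplex.mk m (cokernel.π φ) (kernel.condition _)).ShortExact :=
    ShortComplex.ShortExact.mk' (ShortComplex.exact_of_f_is_kernel _ (kernelIsKernel _)) inferInstance inferInstance
  have hK := fun n (y : Ext.{u + 1} A (kernel φ) n) =>
    exists_zsmul_of_killed S (killed_H (divS_one S) (fun _ _ => divS_mul S) (locKilled_kernel S φ hφ) n y)
  have hC := fun n (y : Ext.{u + 1} A C n) =>
    exists_zsmul_of_killed S (killed_H (divS_one S) (fun _ _ => divS_mul S) (locKilled_cokernel S φ hφ) n y)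
  have hmap : ∀ {M N : EtCoh.Ab X} (ψ : M ⟶ N) (c : ℤ) (y : Ext.{u + 1} A M i),
      (c • y).comp (Ext.mk₀ ψ) (add_zero i) = c • y.comp (Ext.mk₀ ψ) (add_zero i) :=
    fun ψ c y => map_zsmul ((Ext.mk₀ ψ).postcomp A (add_zero i)) c y
  refine ⟨fun c => ?_, fun y => ?_, fun {x₁ x₂} h => ?_⟩
  · rw [Module.End.isUnit_iff]
    haveI := isIso_zsmul S φ hφ c
    have hc : ∀ y : Ext.{u + 1} A G i, (c : ℤ) • y = y.comp (Ext.mk₀ ((c : ℤ) • 𝟙 G)) (add_zero i) := fun y => by
      rw [show Ext.mk₀ ((c : ℤ) • 𝟙 G) = (c : ℤ) • Ext.mk₀ (𝟙 G) from map_zsmul Ext.addEquiv₀.symm _ _]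
      refine Eq.trans ?_ (map_zsmul (AddMonoidHom.mk' (fun z : Ext.{u + 1} G G 0 => y.comp z (add_zero i))
        fun a b => Ext.comp_add _ _ _ _) _ _).symm
      exact congrArg (fun z => (c : ℤ) • z) (Ext.comp_mk₀_id y).symm
    change Function.Bijective (fun y : Ext.{u + 1} A G i => (c : ℤ) • y)
    simp only [hc]
    refine Function.bijective_iff_has_inverse.2 ⟨fun y => y.comp (Ext.mk₀ (inv ((c : ℤ) • 𝟙 G))) (add_zero i),
      fun y => ?_, fun y => ?_⟩ <;>
      simp only [Ext.comp_assoc_of_third_deg_zero, Ext.mk₀_comp_mk₀, IsIso.hom_inv_id, IsIso.inv_hom_id,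
        Ext.comp_mk₀_id]
  · obtain ⟨c₁, hc₁, h1⟩ := hC i (Ext.comp y (Ext.mk₀ (cokernel.π φ)) (add_zero i))
    obtain ⟨w, hw⟩ : ∃ w : Ext.{u + 1} A Im i, w.comp (Ext.mk₀ m) (add_zero i) = c₁ • y :=
      Ext.covariant_sequence_exact₂ A hT2 _ ((hmap _ _ _).trans h1)
    obtain ⟨c₂, hc₂, h2⟩ := hK (i + 1) (w.comp hT1.extClass rfl)
    obtain ⟨x, hx⟩ : ∃ x : Ext.{u + 1} A F i, x.comp (Ext.mk₀ e) (add_zero i) = c₂ • w :=
      Ext.covariant_sequence_exact₃ A hT1 _ rfl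
        ((map_zsmul (hT1.extClass.postcomp A (show i + 1 = i + 1 from rfl)) c₂ w).trans h2)
    refine ⟨⟨x, ⟨c₂ * c₁, S.mul_mem hc₂ hc₁⟩⟩, ?_⟩
    change (c₂ * c₁) • y = x.comp (Ext.mk₀ φ) (add_zero i)
    rw [← hem, ← Ext.mk₀_comp_mk₀, ← Ext.comp_assoc_of_third_deg_zero, hx, hmap, hw, mul_smul]
  · have h0 : ((x₁ - x₂).comp (Ext.mk₀ e) (add_zero i)).comp (Ext.mk₀ m) (add_zero i) = 0 := by
      rw [Ext.comp_assoc_of_third_deg_zero, Ext.mk₀_comp_mk₀, hem]
      exact (map_sub ((Ext.mk₀ φ).postcomp A (add_zero i)) x₁ x₂).trans (sub_eq_zero.2 h)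
    obtain ⟨c₁, hc₁, h1⟩ : ∃ c ∈ S, (c • (x₁ - x₂)).comp (Ext.mk₀ e) (add_zero i) = 0 := by
      cases i with
      | zero =>
        refine ⟨1, S.one_mem, ?_⟩
        rw [one_smul]
        exact Ext.postcomp_mk₀_injective_of_mono A m (h0.trans (map_zero _).symm)
      | succ p =>
        obtain ⟨v, hv⟩ := Ext.covariant_sequence_exact₁ A hT2 _ h0 rfl
        obtain ⟨c, hc, hcv⟩ := hC p v
        refine ⟨c, hc, ?_⟩
        rw [hmap, ← hv]
        refine (map_zsmul (hT2.extClass.postcomp A (show p + 1 = p + 1 from rfl)) c v).symm.trans ?_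
        rw [hcv, map_zero]
    obtain ⟨k, hk⟩ := Ext.covariant_sequence_exact₂ A hT1 _ h1
    obtain ⟨c₂, hc₂, h2⟩ := hK i k
    refine ⟨⟨c₂ * c₁, S.mul_mem hc₂ hc₁⟩, sub_eq_zero.1 ?_⟩
    change (c₂ * c₁) • x₁ - (c₂ * c₁) • x₂ = 0
    rw [← smul_sub, mul_smul, ← hk, ← hmap, h2, Ext.zero_comp]

end GrothLib.EtLimit
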