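import Groth.Agent.Lib.EtLimit.Induction
import Groth.Agent.Lib.EtDer.HpullComp

/-!
# Cohomology of a limit of schemes
-/

set_option autoImplicit false
set_option backward.isDefEq.respectTransparency false
universe u

open CategoryTheory CategoryTheory.Limits CategoryTheory.Abelian AlgebraicGeometry Opposite
open GrothLib.EtColim

noncomputable section

namespace GrothLib.EtLimit

variable {X Y : Scheme.{u}}

/-- The constant sheaf `ℤ` on a quasi-compact quasi-separated scheme is free. -/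
theorem isFree_Z [CompactSpace X] [QuasiSeparatedSpace X] : IsFree (Z X) :=
  ⟨EtCoh.top X, top_mem_B,
    ⟨(E X).inverse.mapIso (asIso (freeToZ X)) ≪≫ ((E X).unitIso.app (Z X)).symm⟩⟩

theorem HpullVia_pre (f : X ⟶ Y) {S : Scheme.{u}} (t : Y ⟶ S) (f₀ : X ⟶ S) (w : f ≫ t = f₀)
    [PreservesFiniteLimits (EtCoh.pull f)] (F : EtCoh.Ab S) (p : ℕ)
    (y : Ext.{u + 1} ((EtCoh.pull t).obj (Z S)) ((EtCoh.pull t).obj F) p) :
    EtCore.HpullVia f t f₀ w F p ((Ext.mk₀ (EtCore.pullConst t ℤ).inv).comp y (zero_add p)) =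
      (Ext.mk₀ (EtCore.pullConst f₀ ℤ).inv).comp (res f t f₀ w (Z S) F p y) (zero_add p) := by
  rw [GrothLib.EtDer.MV.HpullVia_apply, GrothLib.EtDer.MV.Hpull_apply, map_pre, res_apply,
    Ext.mk₀_comp_mk₀_assoc, ← GrothLib.EtDer.pullConst_comp f t f₀ w ℤ]
  simp only [Ext.comp_assoc_of_third_deg_zero, Ext.mk₀_comp_mk₀_assoc, Category.assoc]
  congr 3
  simp [pV]

variable {I : Type u} [SmallCategory I] [IsCofiltered I] {D : I ⥤ Scheme.{u}} {c : Cone D} (hc : IsLimit c)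
  [∀ (i j : I) (f : i ⟶ j), IsAffineHom (D.map f)]
  [∀ i, CompactSpace ↥(D.obj i)] [∀ i, QuasiSeparatedSpace ↥(D.obj i)]

include hc in
/-- **Cohomology of a limit: every class comes from a stage.** -/
theorem exists_HpullVia_eq (i₀ : I) (F₀ : EtCoh.Ab (D.obj i₀)) (p : ℕ)
    (ξ : EtCoh.H c.pt ((EtCoh.pull (c.π.app i₀)).obj F₀) p) :
    ∃ (j : I) (a : j ⟶ i₀) (ξj : EtCoh.H (D.obj j) ((EtCoh.pull (D.map a)).obj F₀) p),
      EtCore.HpullVia (c.π.app j) (D.map a) (c.π.app i₀) (c.w a) F₀ p ξj = ξ := by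
  let e := EtCore.pullConst (c.π.app i₀) ℤ
  obtain ⟨j, a, y, hy⟩ := ((all hc p).2.1 i₀ (Z (D.obj i₀)) isFree_Z F₀) ((Ext.mk₀ e.hom).comp ξ (zero_add p))
  refine ⟨j, a, (Ext.mk₀ (EtCore.pullConst (D.map a) ℤ).inv).comp y (zero_add p), ?_⟩
  refine (HpullVia_pre (c.π.app j) (D.map a) (c.π.app i₀) (c.w a) F₀ p y).trans ?_
  refine (congrArg (fun z => (Ext.mk₀ e.inv).comp z (zero_add p)) hy).trans ?_
  rw [Ext.mk₀_comp_mk₀_assoc, Iso.inv_hom_id, Ext.mk₀_id_comp]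

include hc in
/-- **Cohomology of a limit: a class dying at the limit dies at a stage.** -/
theorem exists_Hpull_eq_zero {i₀ j : I} (a : j ⟶ i₀) (F₀ : EtCoh.Ab (D.obj i₀)) (p : ℕ)
    (ξj : EtCoh.H (D.obj j) ((EtCoh.pull (D.map a)).obj F₀) p)
    (h : EtCore.HpullVia (c.π.app j) (D.map a) (c.π.app i₀) (c.w a) F₀ p ξj = 0) :
    ∃ (k : I) (b : k ⟶ j), EtCore.Hpull (D.map b) _ p ξj = 0 := by
  have h' : ξj.mapExactFunctor (EtCoh.pull (c.π.app j)) = 0 := by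
    rw [← cj_eq_zero_iff (EtCore.pullConst (c.π.app j) ℤ) ((pV (c.π.app j) (D.map a) (c.π.app i₀) (c.w a)).app F₀)]
    exact h
  obtain ⟨k, b, hk⟩ := (all hc p).1 j (Z (D.obj j)) isFree_Z _ ξj h'
  refine ⟨k, b, ?_⟩
  rw [GrothLib.EtDer.MV.Hpull_apply, hk, Ext.comp_zero]

end GrothLib.EtLimit
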