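import Groth.Agent.Lib.EtLimit.Free
import Groth.Agent.Lib.CechFree.Acyclic
import Mathlib.CategoryTheory.Limits.Constructions.FiniteProductsOfBinaryProducts

/-!
# Resolutions by free sheaves on quasi-compact quasi-separated étale schemes
-/

set_option autoImplicit false
set_option backward.isDefEq.respectTransparency false
universe u

open CategoryTheory CategoryTheory.Limits CategoryTheory.Abelian AlgebraicGeometry Opposite AlgebraicTopology
open GrothLib.SheafCoh GrothLib.EtSite GrothLib.EtColim GrothLib.CechFree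

noncomputable section

namespace GrothLib.EtLimit

variable {X Y : Scheme.{u}}

section tau

variable {C : Type (u + 1)} [SmallCategory C] (J : GrothendieckTopology C)

/-- The sheaf of sets of an object. -/
abbrev sheafY : C ⥤ Sheaf J (Type (u + 1)) := yoneda ⋙ presheafToSheaf J (Type (u + 1))

/-- Sheafification of the free abelian presheaf. -/
abbrev freeSh : (Cᵒᵖ ⥤ Type (u + 1)) ⥤ Sheaf J AddCommGrpCat.{u + 1} :=
  (Functor.whiskeringRight Cᵒᵖ (Type (u + 1)) AddCommGrpCat.{u + 1}).obj AddCommGrpCat.free.{u + 1} ⋙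
    presheafToSheaf J AddCommGrpCat.{u + 1}

theorem isIso_freeSh_toSheafify (P : Cᵒᵖ ⥤ Type (u + 1)) : IsIso ((freeSh J).map (toSheafify J P)) := by
  have := Sheaf.preservesSheafification_of_adjunction (J := J) AddCommGrpCat.adj.{u + 1}
  have h := GrothendieckTopology.W_of_preservesSheafification (J := J) AddCommGrpCat.free.{u + 1}
    (toSheafify J P) (J.W_toSheafify P)
  rw [J.W_iff] at h
  exact h

/-- The free sheaf on an object through its sheaf of sets. -/
def tau (U : C) : freeY J U ≅ (free J).obj ((sheafY J).obj U) :=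
  haveI := isIso_freeSh_toSheafify J (yoneda.obj U)
  asIso ((freeSh J).map (toSheafify J (yoneda.obj U)))

theorem tau_naturality {U V : C} (g : U ⟶ V) :
    freeYMap J g ≫ (tau J V).hom = (tau J U).hom ≫ (free J).map ((sheafY J).map g) := by
  change (freeSh J).map (yoneda.map g) ≫ (freeSh J).map (toSheafify J (yoneda.obj V)) =
    (freeSh J).map (toSheafify J (yoneda.obj U)) ≫
      (freeSh J).map ((sheafToPresheaf J _).map ((sheafY J).map g))
  rw [← Functor.map_comp, ← Functor.map_comp, toSheafify_naturality]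
  rfl

theorem epi_sheafY {W V : C} (p : W ⟶ V) [HasPullbacks C] (hp : Sieve.generate (Presieve.singleton p) ∈ J V) :
    Epi ((sheafY J).map p) := by
  have : Presheaf.IsLocallySurjective J (yoneda.map p) := ⟨fun {U} h => by
    refine GrothendieckTopology.superset_covering _ ?_ (J.pullback_stable h hp)
    rintro T k ⟨_, a, _, ⟨⟩, ha⟩
    exact ⟨a, ha⟩⟩
  have h := (Presheaf.isLocallySurjective_presheafToSheaf_map_iff J (yoneda.map p)).2 this
  exact (Sheaf.isLocallySurjective_iff_epi' (A := Type (u + 1)) _).1 h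

variable [HasFiniteLimits C] {W V : C} (p : W ⟶ V) [Epi ((sheafY J).map p)]

instance (n : ℕ) : HasWidePullback V (fun _ : Fin (n + 1) => W) fun _ => p :=
  haveI := hasFiniteWidePullbacks_of_hasFiniteLimits C
  inferInstance

/-- The Čech complex of free sheaves. -/
abbrev cechK : ChainComplex (Sheaf J AddCommGrpCat.{u + 1}) ℕ := freeCx ((sheafY J).map p)

/-- Its terms are free. -/
def cechXIso (n : ℕ) : freeY J (widePullback V (fun _ : Fin (n + 1) => W) fun _ => p) ≅ (cechK J p).X n :=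
  tau J _ ≪≫ (free J).mapIso (nerveComp (sheafY J) (Arrow.mk p) n)

theorem cech_ε_zero :
    ((AlternatingFaceMapComplex.ε).app (freeNerve ((sheafY J).map p))).f 0 =
      ((free J).map (WidePullback.π (fun _ : Fin 1 => (sheafY J).map p) 0) ≫ (tau J W).inv) ≫
        freeYMap J p ≫ (tau J V).hom := by
  have key : (tau J W).inv ≫ freeYMap J p ≫ (tau J V).hom = (free J).map ((sheafY J).map p) := by
    rw [tau_naturality, Iso.inv_hom_id_assoc]
  refine Eq.trans ?_ ((congrArg ((free J).map (WidePullback.π (fun _ : Fin 1 => (sheafY J).map p) 0) ≫ ·)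
    key).symm.trans (Category.assoc _ _ _).symm)
  refine Eq.trans ?_ ((free J).map_comp _ _)
  refine (AlternatingFaceMapComplex.ε_app_f_zero _).trans ?_
  refine (Category.comp_id _).trans ?_
  exact congrArg (free J).map (WidePullback.π_arrow (fun _ : Fin 1 => (sheafY J).map p) 0).symm

theorem exists_cech_resolution :
    ∃ (T : ℕ → ShortComplex (Sheaf J AddCommGrpCat.{u + 1})), (∀ n, (T n).ShortExact) ∧
      (∀ n, Nonempty (freeY J (widePullback V (fun _ : Fin (n + 1) => W) fun _ => p) ≅ (T n).X₂)) ∧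
      (∀ n, Nonempty ((T (n + 1)).X₃ ≅ (T n).X₁)) ∧
      ∃ (e : (T 0).X₃ ≅ freeY J V) (a : (T 0).X₂ ⟶ freeY J W), (T 0).g ≫ e.hom = a ≫ freeYMap J p := by
  let ε := (AlternatingFaceMapComplex.ε).app (freeNerve ((sheafY J).map p))
  haveI : QuasiIso ε := qi_free_cechNerve J ((sheafY J).map p)
  refine ⟨fun n => opcyclesSeq (cechK J p) n,
    fun n => opcyclesSeq_shortExact _ n (exactAt_of_resolution _ ε n),
    fun n => ⟨cechXIso J p n⟩, fun n => ⟨Iso.refl _⟩,
    opcyclesZeroIso _ ε ≪≫ (tau J V).symm,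
    (free J).map (WidePullback.π (fun _ : Fin 1 => (sheafY J).map p) 0) ≫ (tau J W).inv, ?_⟩
  rw [← cancel_mono (tau J V).hom, Category.assoc, Category.assoc, Iso.trans_hom, Iso.symm_hom,
    Category.assoc, Iso.inv_hom_id, Category.comp_id]
  refine (pOpcycles_opcyclesZeroIso _ ε).trans ?_
  rw [show ε.f 0 = _ from cech_ε_zero J p]
  exact (Category.comp_id _).trans (Category.assoc _ _ _)

end tau

/-- A sheaf is free if it is the free sheaf on a quasi-compact quasi-separated object. -/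
def IsFree (N : EtCoh.Ab X) : Prop := ∃ V : X.Etale, Qcqs V ∧ Nonempty (ZV V ≅ N)

/-- A sheaf is resolvable if it has a resolution by free sheaves. -/
def Res (N : EtCoh.Ab X) : Prop :=
  ∃ T : ℕ → ShortComplex (EtCoh.Ab X), (∀ n, (T n).ShortExact) ∧ (∀ n, IsFree (T n).X₂) ∧
    (∀ n, Nonempty ((T (n + 1)).X₃ ≅ (T n).X₁)) ∧ Nonempty ((T 0).X₃ ≅ N)

theorem Res.step {N : EtCoh.Ab X} (h : Res N) :
    ∃ (K P : EtCoh.Ab X) (f : K ⟶ P) (g : P ⟶ N) (w : f ≫ g = 0),
      (ShortComplex.mk f g w).ShortExact ∧ IsFree P ∧ Res K := by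
  obtain ⟨T, hT, hF, hI, ⟨e⟩⟩ := h
  have w : (T 0).f ≫ (T 0).g ≫ e.hom = 0 := by rw [← Category.assoc, (T 0).zero, zero_comp]
  refine ⟨(T 0).X₁, (T 0).X₂, (T 0).f, (T 0).g ≫ e.hom, w, ?_, hF 0,
    fun n => T (n + 1), fun n => hT _, fun n => hF _, fun n => hI _, hI 0⟩
  exact ShortComplex.shortExact_of_iso (ShortComplex.isoMk (Iso.refl _) (Iso.refl _) e
    (by simp) (by simp) : T 0 ≅ ShortComplex.mk (T 0).f ((T 0).g ≫ e.hom) w) (hT 0)

theorem IsFree.pull (f : X ⟶ Y) [IsAffineHom f] {N : EtCoh.Ab Y} (h : IsFree N) :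
    IsFree ((EtCoh.pull f).obj N) := by
  obtain ⟨V, hV, ⟨e⟩⟩ := h
  exact ⟨_, qcqs_bc f hV, ⟨(pullZV f V).symm ≪≫ (EtCoh.pull f).mapIso e⟩⟩

theorem Res.pull (f : X ⟶ Y) [IsAffineHom f] {N : EtCoh.Ab Y} (h : Res N) :
    Res ((EtCoh.pull f).obj N) := by
  haveI := GrothLib.EtDer.pullFL f
  obtain ⟨T, hT, hF, hI, ⟨e⟩⟩ := h
  exact ⟨fun n => (T n).map (EtCoh.pull f), fun n => (hT n).map_of_exact (EtCoh.pull f),
    fun n => (hF n).pull f, fun n => (hI n).map (EtCoh.pull f).mapIso, ⟨(EtCoh.pull f).mapIso e⟩⟩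

section cover

instance hasFiniteLimits_S : HasFiniteLimits (S X) :=
  haveI : HasTerminal (S X) :=
    IsTerminal.hasTerminal (IsTerminal.isTerminalObj (eS X).functor _ (EtCore.topIsTerminal X))
  hasFiniteLimits_of_hasTerminal_and_pullbacks

theorem widePullback_mem_B {U W : S X} (hU : U ∈ B X) (hW : W ∈ B X) (p : W ⟶ U) (n : ℕ) :
    widePullback U (fun _ : Fin (n + 1) => W) (fun _ => p) ∈ B X := by
  let Y : Fin (n + 1) → Over U := fun _ => Over.mk p
  refine mem_B_of_iso ?_ (prod_mem_B hU n Y fun _ => hW)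
  let P := widePullback U (fun _ : Fin (n + 1) => W) (fun _ => p)
  let c : Over U := Over.mk (WidePullback.base (fun _ : Fin (n + 1) => p))
  refine
    { hom := WidePullback.lift ((∏ᶜ Y).hom) (fun k => (Pi.π Y k).left) fun k => Over.w (Pi.π Y k)
      inv := (Pi.lift fun k => Over.homMk (U := c) (V := Y k) (WidePullback.π _ k)
        (WidePullback.π_arrow _ k)).left
      hom_inv_id := ?_
      inv_hom_id := ?_ }
  · let m : (∏ᶜ Y) ⟶ c := Over.homMk (WidePullback.lift ((∏ᶜ Y).hom) (fun k => (Pi.π Y k).left)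
      fun k => Over.w (Pi.π Y k)) (WidePullback.lift_base _ _ _ _)
    have : m ≫ (Pi.lift fun k => Over.homMk (U := c) (V := Y k) (WidePullback.π _ k)
        (WidePullback.π_arrow _ k)) = 𝟙 _ := Pi.hom_ext _ _ fun k => by
      rw [Category.assoc, Pi.lift_π, Category.id_comp]
      exact Over.OverMorphism.ext (WidePullback.lift_π _ _ _ _ k)
    exact congrArg (fun t => t.left) this
  · refine WidePullback.hom_ext _ _ _ (fun k => ?_) ?_
    · rw [Category.assoc, WidePullback.lift_π, Category.id_comp, ← Over.comp_left, Pi.lift_π]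
      rfl
    · rw [Category.assoc, WidePullback.lift_base, Category.id_comp]
      exact Over.w _

theorem singleton_mem {V W : X.Etale} (p : W ⟶ V) (hp : Surjective p.left) :
    Sieve.generate (Presieve.singleton (upMap p)) ∈ JS X (up V) := by
  rw [mem_JS_iff, mem_topology_iff]
  intro x
  obtain ⟨w, hw⟩ := hp.surj x
  exact ⟨W, p, w, ⟨up W, upMap p, 𝟙 _, Sieve.le_generate _ _ _ ⟨⟩, (Category.id_comp _).symm⟩, hw⟩

/-- The kernel of a cover of free sheaves is resolvable. -/
theorem exists_cover_seq {V W : X.Etale} (hV : Qcqs V) (hW : Qcqs W) (p : W ⟶ V) (hp : Surjective p.left) :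
    ∃ (K P : EtCoh.Ab X) (f : K ⟶ P) (g : P ⟶ ZV V) (w : f ≫ g = 0) (a : P ⟶ ZV W),
      (ShortComplex.mk f g w).ShortExact ∧ IsFree P ∧ Res K ∧ g = a ≫ mapZ p := by
  haveI := epi_sheafY (JS X) (upMap p) (singleton_mem p hp)
  obtain ⟨T, hT, hF, hI, e, a, ha⟩ := exists_cech_resolution (JS X) (upMap p)
  haveI : PreservesFiniteLimits (E X).inverse := inferInstance
  haveI : PreservesFiniteColimits (E X).inverse := inferInstance
  haveI : (E X).inverse.Additive := Functor.additive_of_preserves_binary_products _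
  let T' : ℕ → ShortComplex (EtCoh.Ab X) := fun n => (T n).map (E X).inverse
  have hfree : ∀ n, IsFree (T' n).X₂ := fun n => by
    let P := widePullback (up V) (fun _ : Fin (n + 1) => up W) (fun _ => upMap p)
    have hP : P ∈ B X := widePullback_mem_B hV hW _ n
    exact ⟨(eS X).inverse.obj P, hP, ⟨(E X).inverse.mapIso (hF n).some⟩⟩
  have hT' : ∀ n, (T' n).ShortExact := fun n => (hT n).map_of_exact (E X).inverse
  let e' := (E X).inverse.mapIso e
  have w : (T' 0).f ≫ (T' 0).g ≫ e'.hom = 0 := by rw [← Category.assoc, (T' 0).zero, zero_comp]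
  refine ⟨(T' 0).X₁, (T' 0).X₂, (T' 0).f, (T' 0).g ≫ e'.hom, w, (E X).inverse.map a, ?_, hfree 0,
    ⟨fun n => T' (n + 1), fun n => hT' _, fun n => hfree _, fun n => (hI _).map (E X).inverse.mapIso,
      (hI 0).map (E X).inverse.mapIso⟩, ?_⟩
  · exact ShortComplex.shortExact_of_iso (ShortComplex.isoMk (Iso.refl _) (Iso.refl _) e'
      (by simp) (by simp) : T' 0 ≅ ShortComplex.mk (T' 0).f ((T' 0).g ≫ e'.hom) w) (hT' 0)
  · exact ((E X).inverse.map_comp _ _).symm.trans ((congrArg (E X).inverse.map ha).trans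
      ((E X).inverse.map_comp _ _))

end cover

end GrothLib.EtLimit
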