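import Groth.Agent.Lib.EtLimit.Coherence
import Groth.Agent.Lib.EtLimit.Resolution
import Groth.Agent.Lib.EtSite.SiteNbhd
import Groth.Agent.Lib.EtSite.BaseChange
import Groth.Agent.Lib.LimDesc.Inj

/-!
# Points and opens of étale schemes over the stages of a limit
-/

set_option autoImplicit false
set_option backward.isDefEq.respectTransparency false
universe u

open CategoryTheory CategoryTheory.Limits AlgebraicGeometry Opposite
open GrothLib.EtSite GrothLib.LimDesc

noncomputable section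

namespace GrothLib.EtLimit

variable {X Y Z : Scheme.{u}}

/-- Base change along a commutative triangle. -/
def eBC (f : X ⟶ Y) (t : Y ⟶ Z) (t' : X ⟶ Z) (w : f ≫ t = t') : EtCoh.bc t' ≅ EtCoh.bc t ⋙ EtCoh.bc f :=
  (MorphismProperty.Over.pullbackCongr (P := EtCoh.etaleMP) (Q := ⊤) w).symm ≪≫
    MorphismProperty.Over.pullbackComp (P := EtCoh.etaleMP) (Q := ⊤) f t

theorem qV_app (f : X ⟶ Y) (t : Y ⟶ Z) (t' : X ⟶ Z) (w : f ≫ t = t') (H : EtCoh.Ab X) (V : Z.Etale) :
    ((qV f t t' w).hom.app H).hom.app (op V) = H.obj.map ((eBC f t t' w).hom.app V).op := by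
  simp [qV, eBC, EtCoh.pushComp, EtCoh.pushCongr, Functor.sheafPushforwardContinuousComp',
    Functor.sheafPushforwardContinuousIso, Functor.sheafPushforwardContinuousNatTrans,
    Functor.sheafPushforwardContinuousComp, ← Functor.map_comp]

theorem eBC_fst_fst (f : X ⟶ Y) (t : Y ⟶ Z) (t' : X ⟶ Z) (w : f ≫ t = t') (V : Z.Etale) :
    ((eBC f t t' w).hom.app V).left ≫ GrothLib.ConnFibres.proj f ((EtCoh.bc t).obj V) ≫
      GrothLib.ConnFibres.proj t V = GrothLib.ConnFibres.proj t' V := by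
  subst w
  simp [eBC, EtCoh.bc, GrothLib.ConnFibres.proj, MorphismProperty.Over.pullbackCongr]
  erw [over_comp_left]
  simp [EtCoh.bc, pullback_hom]
  erw [Category.id_comp]

theorem eBC_snd (f : X ⟶ Y) (t : Y ⟶ Z) (t' : X ⟶ Z) (w : f ≫ t = t') (V : Z.Etale) :
    ((eBC f t t' w).hom.app V).left ≫ pullback.snd ((EtCoh.bc t).obj V).hom f = pullback.snd V.hom t' :=
  MorphismProperty.Over.w ((eBC f t t' w).hom.app V)

/-- The projection from the base change along a composite to the base change along the second map. -/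
def toStage (f : X ⟶ Y) (t : Y ⟶ Z) (t' : X ⟶ Z) (w : f ≫ t = t') (V : Z.Etale) :
    ((EtCoh.bc t').obj V).left ⟶ ((EtCoh.bc t).obj V).left :=
  ((eBC f t t' w).hom.app V).left ≫ GrothLib.ConnFibres.proj f ((EtCoh.bc t).obj V)

theorem toStage_fst (f : X ⟶ Y) (t : Y ⟶ Z) (t' : X ⟶ Z) (w : f ≫ t = t') (V : Z.Etale) :
    toStage f t t' w V ≫ pullback.fst V.hom t = pullback.fst V.hom t' :=
  (Category.assoc _ _ _).trans (eBC_fst_fst f t t' w V)

theorem toStage_snd (f : X ⟶ Y) (t : Y ⟶ Z) (t' : X ⟶ Z) (w : f ≫ t = t') (V : Z.Etale) :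
    toStage f t t' w V ≫ pullback.snd V.hom t = pullback.snd V.hom t' ≫ f := by
  refine (Category.assoc _ _ _).trans ?_
  rw [← eBC_snd f t t' w V, Category.assoc]
  exact congrArg (((eBC f t t' w).hom.app V).left ≫ ·) (pullback.condition (f := ((EtCoh.bc t).obj V).hom) (g := f))

theorem toStage_naturality (f : X ⟶ Y) (t : Y ⟶ Z) (t' : X ⟶ Z) (w : f ≫ t = t') {U V : Z.Etale} (g : U ⟶ V) :
    ((EtCoh.bc t').map g).left ≫ toStage f t t' w V = toStage f t t' w U ≫ ((EtCoh.bc t).map g).left := by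
  have h1 : ∀ {A B : Scheme.{u}} (r : A ⟶ B) {U V : B.Etale} (g : U ⟶ V),
      ((EtCoh.bc r).map g).left ≫ pullback.fst V.hom r = pullback.fst U.hom r ≫ g.left :=
    fun r _ _ g => (EtCoh.isPullback_bc_map r g).w
  have h2 : ∀ {A B : Scheme.{u}} (r : A ⟶ B) {U V : B.Etale} (g : U ⟶ V),
      ((EtCoh.bc r).map g).left ≫ pullback.snd V.hom r = pullback.snd U.hom r :=
    fun r _ _ g => MorphismProperty.Over.w ((EtCoh.bc r).map g)
  refine pullback.hom_ext (f := V.hom) (g := t) ?_ ?_
  · refine ((Category.assoc _ _ _).trans ?_).trans (Category.assoc _ _ _).symm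
    refine (congrArg (_ ≫ ·) (toStage_fst f t t' w V)).trans ((h1 t' g).trans ?_)
    refine Eq.trans ?_ (congrArg (_ ≫ ·) (h1 t g)).symm
    exact (congrArg (· ≫ g.left) (toStage_fst f t t' w U)).symm.trans (Category.assoc _ _ _)
  · refine ((Category.assoc _ _ _).trans ?_).trans (Category.assoc _ _ _).symm
    refine (congrArg (_ ≫ ·) (toStage_snd f t t' w V)).trans ((Category.assoc _ _ _).symm.trans ?_)
    refine (congrArg (· ≫ f) (h2 t' g)).trans ((toStage_snd f t t' w U).symm.trans ?_)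
    exact (congrArg (_ ≫ ·) (h2 t g)).symm

/-- Points of the base change along the first map of a triangle come from the composite. -/
theorem exists_toStage_eq (f : X ⟶ Y) (t : Y ⟶ Z) (t' : X ⟶ Z) (w : f ≫ t = t') (V : Z.Etale)
    (z : ((EtCoh.bc f).obj ((EtCoh.bc t).obj V)).left) :
    ∃ v, toStage f t t' w V v = GrothLib.ConnFibres.proj f ((EtCoh.bc t).obj V) z := by
  refine ⟨((eBC f t t' w).inv.app V).left z, ?_⟩
  have h : ((eBC f t t' w).inv.app V).left ≫ ((eBC f t t' w).hom.app V).left = 𝟙 _ :=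
    congrArg (fun m => m.left) ((eBC f t t' w).inv_hom_id_app V)
  exact congrArg (fun y => GrothLib.ConnFibres.proj f ((EtCoh.bc t).obj V) y) congr($(h).base z)

/-- The morphism to the base change of an open piece. -/
def mu (f : X ⟶ Y) (t : Y ⟶ Z) (t' : X ⟶ Z) (w : f ≫ t = t') (V : Z.Etale) {W : Y.Etale}
    (ι : W ⟶ (EtCoh.bc t).obj V) : (EtCoh.bc f).obj W ⟶ (EtCoh.bc t').obj V :=
  (EtCoh.bc f).map ι ≫ (eBC f t t' w).inv.app V

theorem toStage_mu (f : X ⟶ Y) (t : Y ⟶ Z) (t' : X ⟶ Z) (w : f ≫ t = t') (V : Z.Etale) {W : Y.Etale}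
    (ι : W ⟶ (EtCoh.bc t).obj V) (z : ((EtCoh.bc f).obj W).left) :
    toStage f t t' w V ((mu f t t' w V ι).left z) = ι.left (GrothLib.ConnFibres.proj f W z) := by
  have h : (mu f t t' w V ι).left ≫ ((eBC f t t' w).hom.app V).left = ((EtCoh.bc f).map ι).left :=
    congrArg (fun m => m.left) (show mu f t t' w V ι ≫ (eBC f t t' w).hom.app V = (EtCoh.bc f).map ι by
      rw [mu, Category.assoc, Iso.inv_hom_id_app]
      exact Category.comp_id _)
  refine (congrArg (fun y => GrothLib.ConnFibres.proj f ((EtCoh.bc t).obj V) y) congr($(h).base z)).trans ?_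
  exact congr($((EtCoh.isPullback_bc_map f ι).w).base z)

/-- The pullback of a restricted pullback section. -/
theorem pV_unit_res (f : X ⟶ Y) (t : Y ⟶ Z) (t' : X ⟶ Z) (w : f ≫ t = t') (G : EtCoh.Ab Z) {V : Z.Etale}
    {W : Y.Etale} (ι : W ⟶ (EtCoh.bc t).obj V) (s : EtCoh.sect G V) :
    ((pV f t t' w).hom.app G).hom.app (op ((EtCoh.bc f).obj W))
        (((EtCoh.pullPushAdj f).unit.app ((EtCoh.pull t).obj G)).hom.app (op W)
          (((EtCoh.pull t).obj G).obj.map ι.op (((EtCoh.pullPushAdj t).unit.app G).hom.app (op V) s))) =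
      ((EtCoh.pull t').obj G).obj.map (mu f t t' w V ι).op
        (((EtCoh.pullPushAdj t').unit.app G).hom.app (op V) s) := by
  let x := ((EtCoh.pullPushAdj f).unit.app ((EtCoh.pull t).obj G)).hom.app (op ((EtCoh.bc t).obj V))
    (((EtCoh.pullPushAdj t).unit.app G).hom.app (op V) s)
  let P := (pV f t t' w).hom.app G
  have hu : ((EtCoh.pullPushAdj t').unit.app G).hom.app (op V) s =
      P.hom.app (op ((EtCoh.bc t').obj V))
        (((EtCoh.pull f).obj ((EtCoh.pull t).obj G)).obj.map ((eBC f t t' w).hom.app V).op x) := by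
    refine (congrArg (fun φ => φ.hom.app (op V) s) (unit_pV f t t' w G)).trans ?_
    exact congrArg (fun y => P.hom.app (op ((EtCoh.bc t').obj V)) y)
      (congrArg (fun φ => φ x) (qV_app f t t' w ((EtCoh.pull f).obj ((EtCoh.pull t).obj G)) V))
  rw [hu]
  refine Eq.trans ?_ (NatTrans.naturality_apply P.hom (mu f t t' w V ι).op _)
  refine congrArg (fun y => P.hom.app (op ((EtCoh.bc f).obj W)) y) ?_
  refine (NatTrans.naturality_apply ((EtCoh.pullPushAdj f).unit.app ((EtCoh.pull t).obj G)).hom ι.op _).trans ?_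
  let H := ((EtCoh.pull f).obj ((EtCoh.pull t).obj G)).obj
  have key : ((EtCoh.bc f).map ι).op = ((eBC f t t' w).hom.app V).op ≫ (mu f t t' w V ι).op := by
    rw [← op_comp, mu, Category.assoc, Iso.inv_hom_id_app]
    exact (congrArg Quiver.Hom.op (Category.comp_id _)).symm
  refine (congrArg (fun φ => H.map φ x) key).trans ?_
  exact (ConcreteCategory.congr_hom (H.map_comp _ _) x).trans (ConcreteCategory.comp_apply _ _ x)

section stages

variable {I : Type u} [SmallCategory I] [IsCofiltered I] {D : I ⥤ Scheme.{u}} {c : Cone D} (hc : IsLimit c)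
  [∀ (i j : I) (f : i ⟶ j), IsAffineHom (D.map f)]

theorem toStage_eq_cone {j k : I} (a : k ⟶ j) (U : (D.obj j).Etale) :
    toStage (c.π.app k) (D.map a) (c.π.app j) (c.w a) U =
      (cone D j U.hom (IsPullback.of_hasPullback U.hom (c.π.app j))).π.app (Over.mk a) := by
  refine pullback.hom_ext (f := U.hom) (g := D.map a) ?_ ?_
  · exact (toStage_fst _ _ _ _ U).trans (π_fst D j U.hom _ (Over.mk a)).symm
  · exact (toStage_snd _ _ _ _ U).trans (π_snd D j U.hom _ (Over.mk a)).symm

include hc in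
/-- A neighbourhood of the image of the limit contains the image of a stage. -/
theorem exists_range_subset {j : I} {U : (D.obj j).Etale} (hU : Qcqs U) (O : U.left.Opens)
    (h : Set.range (GrothLib.ConnFibres.proj (c.π.app j) U).base ⊆ O) :
    ∃ (k : I) (a : k ⟶ j), Set.range (GrothLib.ConnFibres.proj (D.map a) U).base ⊆ O := by
  let hP := IsPullback.of_hasPullback U.hom (c.π.app j)
  let F := diag D j U.hom
  let top : Over j := Over.mk (𝟙 j)
  haveI : CompactSpace ↥(F.obj top) := (qcqs_bc (D.map (𝟙 j)) hU).1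
  haveI : QuasiSeparatedSpace ↥(F.obj top) := (qcqs_bc (D.map (𝟙 j)) hU).2
  let O' : (F.obj top).Opens := pullback.fst U.hom (D.map (𝟙 j)) ⁻¹ᵁ O
  have hi := isAffineHom_π_app D c hc j
  haveI : CompactSpace ↥(cone D j U.hom hP).pt := (qcqs_bc (c.π.app j) hU).1
  let π₀ : (cone D j U.hom hP).pt ⟶ F.obj top := (cone D j U.hom hP).π.app top
  obtain ⟨A, hA, hsub, hAO⟩ : ∃ A : (F.obj top).Opens, IsCompact (A : Set (F.obj top)) ∧
      Set.range π₀.base ⊆ (A : Set (F.obj top)) ∧ (A : Set (F.obj top)) ⊆ O' := by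
    have hr : Set.range π₀.base ⊆ (O' : Set (F.obj top)) := by
      rintro _ ⟨z, rfl⟩
      exact h ⟨z, congr($(π_fst D j U.hom hP top).base z).symm⟩
    have hex : ∀ y : (O' : Set (F.obj top)), ∃ A : (F.obj top).Opens, IsAffineOpen A ∧ y.1 ∈ A ∧ A ≤ O' :=
      fun y => exists_isAffineOpen_mem_and_subset y.2
    choose A hA hyA hAO using hex
    obtain ⟨t, ht⟩ := (isCompact_range π₀.continuous).elim_finite_subcover (fun y => (A y : Set (F.obj top)))
      (fun y => (A y).2) (fun y hy => Set.mem_iUnion.2 ⟨⟨y, hr hy⟩, hyA _⟩)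
    refine ⟨⨆ y ∈ t, A y, ?_, ?_, ?_⟩
    · simp only [TopologicalSpace.Opens.coe_iSup]
      exact t.finite_toSet.isCompact_biUnion fun y _ => (hA y).isCompact
    · simpa [TopologicalSpace.Opens.coe_iSup] using ht
    · simp only [TopologicalSpace.Opens.coe_iSup]
      exact Set.iUnion₂_subset fun y _ => hAO y
  have hT : Topology.IsConstructible ((A : Set (F.obj top))ᶜ) := by
    have : QuasiCompact A.ι := ⟨fun V hVo hV => by
      rw [A.ι.isOpenEmbedding.isInducing.isCompact_iff, Set.image_preimage_eq_inter_range, Scheme.Opens.range_ι]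
      exact QuasiSeparatedSpace.inter_isCompact V (A : Set (F.obj top)) hVo hV A.isOpen hA⟩
    haveI : CompactSpace A.toScheme := isCompact_iff_compactSpace.1 hA
    have := A.ι.isConstructible_image (Topology.IsConstructible.univ)
    rw [Set.image_univ, Scheme.Opens.range_ι] at this
    exact this.compl
  obtain ⟨l, φ, hl⟩ := GrothLib.LimDesc.exists_preimage_eq_empty F _ (isLimitCone D j U.hom hP hc) top _ hT
    (Set.eq_empty_iff_forall_notMem.2 fun z hz => hz (hsub ⟨z, rfl⟩))
  refine ⟨l.left, l.hom, ?_⟩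
  rintro _ ⟨z, rfl⟩
  have hz : F.map φ z ∈ (A : Set (F.obj top)) := by
    by_contra hn
    exact Set.eq_empty_iff_forall_notMem.1 hl z hn
  have := hAO hz
  exact (congr($(map_fst D j U.hom φ).base z)) ▸ this

include hc in
/-- Compact opens of the limit come from a stage. -/
theorem exists_open_stage {j : I} (U : (D.obj j).Etale) (O : (((EtCoh.bc (c.π.app j)).obj U).left).Opens)
    (hO : IsCompact (O : Set ((EtCoh.bc (c.π.app j)).obj U).left)) :
    ∃ (k : I) (a : k ⟶ j) (A : ((EtCoh.bc (D.map a)).obj U).left.Opens),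
      IsCompact (A : Set ((EtCoh.bc (D.map a)).obj U).left) ∧
      ∀ z, toStage (c.π.app k) (D.map a) (c.π.app j) (c.w a) U z ∈ A ↔ z ∈ O := by
  let hP := IsPullback.of_hasPullback U.hom (c.π.app j)
  haveI : ∀ {a b : Over j} (f : a ⟶ b), IsAffineHom ((diag D j U.hom).map f) := fun f => inferInstance
  obtain ⟨l, A, hA, e⟩ := AlgebraicGeometry.exists_preimage_eq (diag D j U.hom) _ (isLimitCone D j U.hom hP hc) O hO
  refine ⟨l.left, l.hom, A, hA, fun z => ?_⟩
  rw [toStage_eq_cone]
  exact SetLike.ext_iff.1 e z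

end stages

end GrothLib.EtLimit
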