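import Groth.Agent.Lib.EtLimit.Classes
import Groth.Agent.Lib.EtColim.Cohomology
import Groth.Agent.Lib.EtFastInst

/-!
# Pullback of classes with coefficients, in `Ext` form
-/

set_option autoImplicit false
set_option backward.isDefEq.respectTransparency false
universe u

open CategoryTheory CategoryTheory.Limits CategoryTheory.Abelian AlgebraicGeometry Opposite
open GrothLib.EtColim (Z)
open scoped GrothLib.EtFast

noncomputable section

namespace GrothLib.EtLimit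

variable {X Y S : Scheme.{u}}

/-- Pull back a class along `f`, then compose with `α`. -/
def hp (f : X ⟶ Y) {F : EtCoh.Ab Y} {M : EtCoh.Ab X} (α : (EtCoh.pull f).obj F ⟶ M) {n : ℕ}
    (x : Ext.{u + 1} (Z Y) F n) : Ext.{u + 1} (Z X) M n :=
  ((Ext.mk₀ (EtCore.pullConst f ℤ).inv).comp (x.mapExactFunctor (EtCoh.pull f)) (zero_add n)).comp
    (Ext.mk₀ α) (add_zero n)

theorem hp_comp (f : X ⟶ Y) {F : EtCoh.Ab Y} {M M' : EtCoh.Ab X} (α : (EtCoh.pull f).obj F ⟶ M) (β : M ⟶ M')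
    {n : ℕ} (x : Ext.{u + 1} (Z Y) F n) :
    (hp f α x).comp (Ext.mk₀ β) (add_zero n) = hp f (α ≫ β) x := by
  simp [hp, Ext.comp_assoc_of_third_deg_zero]

theorem hp_mk₀ (f : X ⟶ Y) {F G : EtCoh.Ab Y} {M : EtCoh.Ab X} (φ : F ⟶ G) (α : (EtCoh.pull f).obj G ⟶ M)
    {n : ℕ} (x : Ext.{u + 1} (Z Y) F n) :
    hp f α (x.comp (Ext.mk₀ φ) (add_zero n)) = hp f ((EtCoh.pull f).map φ ≫ α) x := by
  simp only [hp, Ext.comp_assoc_of_third_deg_zero, Ext.mapExactFunctor_comp, Ext.mapExactFunctor_mk₀, Ext.mk₀_comp_mk₀]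

theorem hp_eq_zero_of_map (f : X ⟶ Y) {F : EtCoh.Ab Y} {M : EtCoh.Ab X} (α : (EtCoh.pull f).obj F ⟶ M) {n : ℕ}
    (x : Ext.{u + 1} (Z Y) F n) (hx : x.mapExactFunctor (EtCoh.pull f) = 0) : hp f α x = 0 := by
  simp [hp, hx]

theorem map_eq_zero_of_hp (f : X ⟶ Y) {F : EtCoh.Ab Y} {M : EtCoh.Ab X} (ψ : (EtCoh.pull f).obj F ≅ M) {n : ℕ}
    (x : Ext.{u + 1} (Z Y) F n) (hx : hp f ψ.hom x = 0) : x.mapExactFunctor (EtCoh.pull f) = 0 :=
  (cj_eq_zero_iff (EtCore.pullConst f ℤ) ψ _).1 hx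

theorem pullConst_pV (f : X ⟶ Y) (t : Y ⟶ S) (t' : X ⟶ S) (w : f ≫ t = t') :
    (EtCore.pullConst t' ℤ).inv = (EtCore.pullConst f ℤ).inv ≫ (EtCoh.pull f).map (EtCore.pullConst t ℤ).inv ≫
      (pV f t t' w).hom.app (Z S) := by
  rw [pV, ← Iso.app_hom]
  exact (GrothLib.EtDer.pullConst_comp f t t' w ℤ).symm

theorem pullConst_pV' (f : X ⟶ Y) (t : Y ⟶ S) (t' : X ⟶ S) (w : f ≫ t = t') :
    (EtCore.pullConst t' ℤ).inv ≫ (pV f t t' w).inv.app (Z S) = (EtCore.pullConst f ℤ).inv ≫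
      (EtCoh.pull f).map (EtCore.pullConst t ℤ).inv := by
  rw [← Iso.app_inv, Iso.comp_inv_eq, Category.assoc, Iso.app_hom]
  exact pullConst_pV f t t' w

/-- Pulling back along a composite. -/
theorem hp_hp (f : X ⟶ Y) (t : Y ⟶ S) (t' : X ⟶ S) (w : f ≫ t = t') {F : EtCoh.Ab S} {M : EtCoh.Ab Y}
    {M' : EtCoh.Ab X} (α : (EtCoh.pull t).obj F ⟶ M) (β : (EtCoh.pull f).obj M ⟶ M') {n : ℕ}
    (x : Ext.{u + 1} (Z S) F n) :
    hp f β (hp t α x) = hp t' ((pV f t t' w).inv.app F ≫ (EtCoh.pull f).map α ≫ β) x := by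
  have e := pullConst_pV f t t' w
  unfold hp
  rw [map_map f t t' w x, cj_apply, e]
  simp only [Ext.comp_assoc_of_third_deg_zero, Ext.mapExactFunctor_comp, Ext.mapExactFunctor_mk₀,
    Ext.mk₀_comp_mk₀, Ext.mk₀_comp_mk₀_assoc, Category.assoc, Iso.app_hom, Iso.app_inv, Iso.hom_inv_id_app,
    Iso.hom_inv_id_app_assoc, Functor.comp_obj, Category.comp_id]

/-- Classes at a stage, pulled back. -/
theorem hp_pV_pre (f : X ⟶ Y) (t : Y ⟶ S) (t' : X ⟶ S) (w : f ≫ t = t') (F : EtCoh.Ab S) {n : ℕ}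
    (y : Ext.{u + 1} ((EtCoh.pull t).obj (Z S)) ((EtCoh.pull t).obj F) n) :
    hp f ((pV f t t' w).hom.app F) ((Ext.mk₀ (EtCore.pullConst t ℤ).inv).comp y (zero_add n)) =
      (Ext.mk₀ (EtCore.pullConst t' ℤ).inv).comp (res f t t' w (Z S) F n y) (zero_add n) := by
  have e := pullConst_pV' f t t' w
  unfold hp
  rw [res_apply]
  simp only [Ext.comp_assoc_of_third_deg_zero, Ext.mapExactFunctor_comp, Ext.mapExactFunctor_mk₀,
    Ext.mk₀_comp_mk₀_assoc, e]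

end GrothLib.EtLimit
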