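import Groth.Agent.Lib.EtLimit.Coherence
import Groth.Agent.Lib.EtDer.HpullComp

/-!
# The compatible system of direct images on a limit
-/

set_option autoImplicit false
set_option backward.isDefEq.respectTransparency false
universe u

open CategoryTheory CategoryTheory.Limits AlgebraicGeometry Opposite

noncomputable section

namespace GrothLib.EtLimit

variable {X Y Z S : Scheme.{u}}

/-- The adjoint of the composition isomorphism of direct images. -/
def pushTr (f : X ⟶ Y) (t : Y ⟶ Z) (t' : X ⟶ Z) (w : f ≫ t = t') (F : EtCoh.Ab X) :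
    (EtCoh.pull t).obj ((EtCoh.push t').obj F) ⟶ (EtCoh.push f).obj F :=
  (EtCoh.pull t).map ((qV f t t' w).inv.app F) ≫ (EtCoh.pullPushAdj t).counit.app ((EtCoh.push f).obj F)

/-- The transition map of the system of pulled back direct images. -/
def sysTr (f : X ⟶ Y) (t : Y ⟶ Z) (t' : X ⟶ Z) (w : f ≫ t = t') (F : EtCoh.Ab X) :
    (EtCoh.pull t').obj ((EtCoh.push t').obj F) ⟶ (EtCoh.pull f).obj ((EtCoh.push f).obj F) :=
  (pV f t t' w).inv.app ((EtCoh.push t').obj F) ≫ (EtCoh.pull f).map (pushTr f t t' w F)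

theorem unit_pushTr (f : X ⟶ Y) (t : Y ⟶ Z) (t' : X ⟶ Z) (w : f ≫ t = t') (F : EtCoh.Ab X) :
    (EtCoh.pullPushAdj t).unit.app ((EtCoh.push t').obj F) ≫ (EtCoh.push t).map (pushTr f t t' w F) =
      (qV f t t' w).inv.app F := by
  have h := (EtCoh.pullPushAdj t).unit.naturality ((qV f t t' w).inv.app F)
  simp only [Functor.id_map, Functor.comp_map] at h
  rw [pushTr, Functor.map_comp, ← reassoc_of% h]
  erw [Adjunction.right_triangle_components (EtCoh.pullPushAdj t) ((EtCoh.push f).obj F), Category.comp_id]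

/-- Transposes of maps out of a pullback along a composite. -/
theorem unit_pV_inv (f : X ⟶ Y) (t : Y ⟶ Z) (t' : X ⟶ Z) (w : f ≫ t = t') {G : EtCoh.Ab Z} {M : EtCoh.Ab Y}
    {M' : EtCoh.Ab X} (α : (EtCoh.pull t).obj G ⟶ M) (β : (EtCoh.pull f).obj M ⟶ M') :
    (EtCoh.pullPushAdj t').unit.app G ≫
        (EtCoh.push t').map ((pV f t t' w).inv.app G ≫ (EtCoh.pull f).map α ≫ β) =
      (EtCoh.pullPushAdj t).unit.app G ≫ (EtCoh.push t).map (α ≫ (EtCoh.pullPushAdj f).unit.app M ≫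
        (EtCoh.push f).map β) ≫ (qV f t t' w).hom.app M' := by
  have hn := (qV f t t' w).hom.naturality ((EtCoh.pull f).map α ≫ β)
  have hu := (EtCoh.pullPushAdj f).unit.naturality α
  simp only [Functor.id_map, Functor.comp_map] at hn hu
  rw [unit_pV f t t' w G, Category.assoc, Category.assoc, Category.assoc, ← Functor.map_comp,
    Iso.hom_inv_id_app_assoc, ← hn, reassoc_of% hu, ← Functor.map_comp_assoc, Functor.map_comp (EtCoh.push f)]

theorem unit_sysTr (f : X ⟶ Y) (t : Y ⟶ Z) (t' : X ⟶ Z) (w : f ≫ t = t') (F : EtCoh.Ab X) :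
    (EtCoh.pullPushAdj t').unit.app ((EtCoh.push t').obj F) ≫ (EtCoh.push t').map (sysTr f t t' w F) =
      (qV f t t' w).inv.app F ≫ (EtCoh.push t).map ((EtCoh.pullPushAdj f).unit.app ((EtCoh.push f).obj F)) ≫
        (qV f t t' w).hom.app ((EtCoh.pull f).obj ((EtCoh.push f).obj F)) := by
  have h := unit_pV_inv f t t' w (pushTr f t t' w F) (𝟙 _)
  rw [Category.comp_id] at h
  rw [sysTr, h, CategoryTheory.Functor.map_id]
  erw [Category.comp_id]
  rw [Functor.map_comp, Category.assoc,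
    reassoc_of% (unit_pushTr f t t' w F)]

/-- The transition maps are compatible with the counits. -/
theorem sysTr_counit (f : X ⟶ Y) (t : Y ⟶ Z) (t' : X ⟶ Z) (w : f ≫ t = t') (F : EtCoh.Ab X) :
    sysTr f t t' w F ≫ (EtCoh.pullPushAdj f).counit.app F = (EtCoh.pullPushAdj t').counit.app F := by
  apply ((EtCoh.pullPushAdj t').homEquiv _ _).injective
  rw [Adjunction.homEquiv_unit, Adjunction.homEquiv_unit]
  erw [Adjunction.right_triangle_components (EtCoh.pullPushAdj t') F]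
  rw [Functor.map_comp, reassoc_of% (unit_sysTr f t t' w F)]
  have hn := (qV f t t' w).hom.naturality ((EtCoh.pullPushAdj f).counit.app F)
  simp only [Functor.comp_map, Functor.comp_obj, Functor.id_obj] at hn
  rw [← hn, ← Functor.map_comp_assoc, Adjunction.right_triangle_components]
  erw [CategoryTheory.Functor.map_id, Category.id_comp]
  exact Iso.inv_hom_id_app _ _

variable {W : Scheme.{u}}

/-- The transposed transition maps satisfy the cocycle condition. -/
theorem pushTr_comp (h : W ⟶ X) (g : X ⟶ Y) (t : Y ⟶ S) (k : W ⟶ Y) (t' : X ⟶ S)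
    (t'' : W ⟶ S) (hk : h ≫ g = k) (w₁ : g ≫ t = t') (w₂ : h ≫ t' = t'') (w₃ : k ≫ t = t'')
    (F : EtCoh.Ab W) :
    pushTr h t' t'' w₂ F =
      (pV g t t' w₁).inv.app ((EtCoh.push t'').obj F) ≫ (EtCoh.pull g).map (pushTr k t t'' w₃ F) ≫
        pushTr h g k hk F := by
  apply ((EtCoh.pullPushAdj t').homEquiv _ _).injective
  rw [Adjunction.homEquiv_unit, Adjunction.homEquiv_unit, unit_pushTr,
    unit_pV_inv g t t' w₁ (pushTr k t t'' w₃ F) (pushTr h g k hk F), unit_pushTr, Functor.map_comp,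
    Category.assoc, reassoc_of% (unit_pushTr k t t'' w₃ F)]
  rw [← cancel_mono ((qV h t' t'' w₂).hom.app F)]
  simp only [Category.assoc, Iso.inv_hom_id_app]
  rw [qV_assoc h g t k t' t'' hk w₁ w₂ w₃ F, ← Functor.map_comp_assoc, Iso.inv_hom_id_app]
  erw [CategoryTheory.Functor.map_id, Category.id_comp]
  exact (Iso.inv_hom_id_app _ _).symm

theorem pV_inv_assoc (h : W ⟶ X) (g : X ⟶ Y) (t : Y ⟶ S) (k : W ⟶ Y) (t' : X ⟶ S)
    (t'' : W ⟶ S) (hk : h ≫ g = k) (w₁ : g ≫ t = t') (w₂ : h ≫ t' = t'') (w₃ : k ≫ t = t'')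
    (P : EtCoh.Ab S) :
    (pV k t t'' w₃).inv.app P ≫ (pV h g k hk).inv.app ((EtCoh.pull t).obj P) =
      (pV h t' t'' w₂).inv.app P ≫ (EtCoh.pull h).map ((pV g t t' w₁).inv.app P) := by
  have e : ((EtCoh.pull h).mapIso ((pV g t t' w₁).app P) ≪≫ (pV h t' t'' w₂).app P).inv =
      ((pV h g k hk).app ((EtCoh.pull t).obj P) ≪≫ (pV k t t'' w₃).app P).inv :=
    congrArg Iso.inv (Iso.ext (pV_assoc h g t k t' t'' hk w₁ w₂ w₃ P))
  rw [Iso.trans_inv, Iso.trans_inv, Functor.mapIso_inv, Iso.app_inv, Iso.app_inv, Iso.app_inv, Iso.app_inv] at e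
  exact e.symm

theorem sysTr_comp (h : W ⟶ X) (g : X ⟶ Y) (t : Y ⟶ S) (k : W ⟶ Y) (t' : X ⟶ S)
    (t'' : W ⟶ S) (hk : h ≫ g = k) (w₁ : g ≫ t = t') (w₂ : h ≫ t' = t'') (w₃ : k ≫ t = t'')
    (F : EtCoh.Ab W) :
    sysTr k t t'' w₃ F ≫ sysTr h g k hk F = sysTr h t' t'' w₂ F := by
  have n1 := (pV h g k hk).inv.naturality (pushTr k t t'' w₃ F)
  rw [Functor.comp_map] at n1
  have c := pV_inv_assoc h g t k t' t'' hk w₁ w₂ w₃ ((EtCoh.push t'').obj F)
  rw [sysTr, sysTr, sysTr, Category.assoc, reassoc_of% n1, reassoc_of% c,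
    pushTr_comp h g t k t' t'' hk w₁ w₂ w₃ F, Functor.map_comp, Functor.map_comp]

/-- Transition maps along the identity are trivial. -/
theorem sysTr_id (f : X ⟶ Y) (t : Y ⟶ Y) (ht : t = 𝟙 Y) (w : f ≫ t = f) (F : EtCoh.Ab X) :
    sysTr f t f w F = 𝟙 _ := by
  subst ht
  have hid : sysTr f (𝟙 Y) f w F ≫ sysTr f (𝟙 Y) f w F = sysTr f (𝟙 Y) f w F :=
    sysTr_comp f (𝟙 Y) (𝟙 Y) f (𝟙 Y) f w (Category.comp_id _) w w F
  let η := GrothLib.EtDer.pushIdIso Y
  haveI : (EtCoh.push (𝟙 Y)).Full := Functor.Full.of_iso η.symm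
  haveI : (EtCoh.push (𝟙 Y)).Faithful := Functor.Faithful.of_iso η.symm
  haveI : IsIso (EtCoh.pullPushAdj (𝟙 Y)).counit := Adjunction.counit_isIso_of_R_fully_faithful _
  haveI : IsIso (pushTr f (𝟙 Y) f w F) := by rw [pushTr]; infer_instance
  haveI : IsIso (sysTr f (𝟙 Y) f w F) := by rw [sysTr]; infer_instance
  rwa [← cancel_epi (sysTr f (𝟙 Y) f w F), Category.comp_id]

end GrothLib.EtLimit
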