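import Groth.Agent.Lib.EtLimit.SheafSys
import Groth.Agent.Lib.EtLimit.PushColim

/-!
# A big sheaf commuting with limits of schemes, on the small site of a limit
-/

set_option autoImplicit false
set_option backward.isDefEq.respectTransparency false
universe u

open CategoryTheory CategoryTheory.Limits AlgebraicGeometry Opposite
open GrothLib.EtSite

noncomputable section

namespace GrothLib.EtLimit

open GrothLib.ConnFibres (proj)

/-- A presheaf on schemes turning limits with affine transition maps into colimits. -/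
structure LimCont (Φ : Scheme.{u}ᵒᵖ ⥤ AddCommGrpCat.{u + 1}) : Prop where
  gen : ∀ {I : Type u} [SmallCategory I] [IsCofiltered I] (E : I ⥤ Scheme.{u}) (c : Cone E), IsLimit c →
    (∀ (i j : I) (f : i ⟶ j), IsAffineHom (E.map f)) → (∀ i, CompactSpace ↥(E.obj i)) →
    (∀ i, QuasiSeparatedSpace ↥(E.obj i)) →
    ∀ x : Φ.obj (op c.pt), ∃ (i : I) (y : Φ.obj (op (E.obj i))), Φ.map (c.π.app i).op y = x
  kill : ∀ {I : Type u} [SmallCategory I] [IsCofiltered I] (E : I ⥤ Scheme.{u}) (c : Cone E), IsLimit c →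
    (∀ (i j : I) (f : i ⟶ j), IsAffineHom (E.map f)) → (∀ i, CompactSpace ↥(E.obj i)) →
    (∀ i, QuasiSeparatedSpace ↥(E.obj i)) →
    ∀ (i : I) (y : Φ.obj (op (E.obj i))), Φ.map (c.π.app i).op y = 0 →
      ∃ (j : I) (a : j ⟶ i), Φ.map (E.map a).op y = 0

variable {Φ : Scheme.{u}ᵒᵖ ⥤ AddCommGrpCat.{u + 1}} (hΦ : Presheaf.IsSheaf Scheme.etaleTopology Φ)
  {X Y Z : Scheme.{u}}

theorem smallPull_unit (f : X ⟶ Y) (V : Y.Etale) (y : EtCoh.sect (small hΦ Y) V) :
    (smallPull hΦ f).hom.app (op ((EtCoh.bc f).obj V)) (unitSect f (G := small hΦ Y) (U := V) y) =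
      Φ.map (proj f V).op y :=
  congrArg (fun φ : small hΦ Y ⟶ (EtCoh.push f).obj (small hΦ X) => φ.hom.app (op V) y) (unit_smallPull hΦ f)

/-- The transition maps on sections coming from the base. -/
theorem smallTr_unitSect (f : X ⟶ Y) (t : Y ⟶ Z) (t' : X ⟶ Z) (w : f ≫ t = t') {V : Z.Etale}
    {W : Y.Etale} (q : W ⟶ (EtCoh.bc t).obj V) (y : EtCoh.sect (small hΦ Z) V) :
    ((EtCoh.pull f).obj (small hΦ Y)).obj.map (mu f t t' w V q).op
        ((smallTr hΦ f t t' w).hom.app (op ((EtCoh.bc t').obj V)) (unitSect t' (G := small hΦ Z) (U := V) y)) =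
      unitSect f (G := small hΦ Y) (U := W) (Φ.map (q.left ≫ proj t V).op y) := by
  let G := (EtCoh.pull t).obj (small hΦ Z)
  refine (NatTrans.naturality_apply (smallTr hΦ f t t' w).hom (mu f t t' w V q).op _).symm.trans ?_
  let x : EtCoh.sect G W := G.obj.map q.op (unitSect t (G := small hΦ Z) (U := V) y)
  have h1 : ((pV f t t' w).hom.app (small hΦ Z)).hom.app (op ((EtCoh.bc f).obj W)) (unitSect f (G := G) (U := W) x) =
      ((EtCoh.pull t').obj (small hΦ Z)).obj.map (mu f t t' w V q).op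
        (unitSect t' (G := small hΦ Z) (U := V) y) := pV_unit_res f t t' w (small hΦ Z) q y
  rw [← h1]
  have h2 : (pV f t t' w).hom.app (small hΦ Z) ≫ smallTr hΦ f t t' w = (EtCoh.pull f).map (smallPull hΦ t) :=
    Iso.hom_inv_id_app_assoc _ _ _
  refine (congrArg (fun φ : (EtCoh.pull f).obj G ⟶ (EtCoh.pull f).obj (small hΦ Y) =>
    φ.hom.app (op ((EtCoh.bc f).obj W)) (unitSect f (G := G) (U := W) x)) h2).trans ?_
  refine (congrArg (fun φ : G ⟶ (EtCoh.push f).obj ((EtCoh.pull f).obj (small hΦ Y)) => φ.hom.app (op W) x)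
    ((EtCoh.pullPushAdj f).unit.naturality (smallPull hΦ t))).symm.trans ?_
  refine congrArg (fun y => unitSect f (G := small hΦ Y) (U := W) y) ?_
  refine (NatTrans.naturality_apply (smallPull hΦ t).hom q.op _).trans ?_
  rw [op_comp, Functor.map_comp, ConcreteCategory.comp_apply, smallPull_unit]
  rfl

/-- Classes vanishing at a stage die under the transition map. -/
theorem stalk_smallTr_eq_zero (f : X ⟶ Y) (t : Y ⟶ Z) (t' : X ⟶ Z) (w : f ≫ t = t') {Ω : Type u} [Field Ω]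
    [IsSepClosed Ω] (ξ : Spec (CommRingCat.of Ω) ⟶ X) {W : Z.Etale} (y : EtCoh.sect (small hΦ Z) W)
    (hy : Φ.map (proj t W).op y = 0) (p : (Scheme.pointSmallEtale ξ).fiber.obj ((EtCoh.bc t').obj W)) :
    (EtCoh.stalk ξ).map (smallTr hΦ f t t' w) (germ ξ _ p (unitSect t' (G := small hΦ Z) (U := W) y)) = 0 := by
  let m : (EtCoh.bc t').obj W ⟶ (EtCoh.bc f).obj ((EtCoh.bc t).obj W) := (eBC f t t' w).hom.app W
  let M : (EtCoh.bc f).obj ((EtCoh.bc t).obj W) ⟶ (EtCoh.bc t').obj W :=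
    mu f t t' w W (𝟙 ((EtCoh.bc t).obj W))
  have hM : M = (eBC f t t' w).inv.app W := by
    simp only [M, mu, CategoryTheory.Functor.map_id]
    exact Category.id_comp _
  have hmM : m ≫ M = 𝟙 _ := by
    rw [hM]
    exact Iso.hom_inv_id_app _ _
  have key : ∀ z : (Scheme.pointSmallEtale ξ).fiber.obj ((EtCoh.bc t').obj W),
      (Scheme.pointSmallEtale ξ).fiber.map M ((Scheme.pointSmallEtale ξ).fiber.map m z) = z := fun z => by
    rw [← ConcreteCategory.comp_apply, ← Functor.map_comp, hmM, CategoryTheory.Functor.map_id]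
    rfl
  refine (stalk_map_germ ξ (smallTr hΦ f t t' w) p _).trans ?_
  rw [← key p]
  refine (germ_map ξ _ M _ _).symm.trans ?_
  refine (congrArg (germ ξ _ _) (smallTr_unitSect hΦ f t t' w (𝟙 ((EtCoh.bc t).obj W)) y)).trans ?_
  rw [show (𝟙 ((EtCoh.bc t).obj W) : _ ⟶ _).left ≫ proj t W = proj t W from Category.id_comp _, hy, unitSect]
  exact (congrArg _ (map_zero (((EtCoh.pullPushAdj f).unit.app _).hom.app _).hom)).trans (map_zero _)

variable {ι : Type u} [Preorder ι] (Xs : ιᵒᵖ ⥤ Scheme.{u}) (c : Cone Xs)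

/-- The system of inverse images. -/
def smallG : ι ⥤ EtCoh.Ab c.pt where
  obj i := (EtCoh.pull (c.π.app (op i))).obj (small hΦ (Xs.obj (op i)))
  map {i j} h := smallTr hΦ (X := c.pt) (c.π.app (op j)) (Xs.map h.op) (c.π.app (op i)) (c.w h.op)
  map_id i := smallTr_id hΦ (X := c.pt) (c.π.app (op i)) (Xs.map (𝟙 i).op) (by simp) (c.w (𝟙 i).op)
  map_comp {i j k} h h' := (smallTr_comp hΦ (W := c.pt) (c.π.app (op k)) (Xs.map h'.op) (Xs.map h.op)
    (c.π.app (op j)) (Xs.map (h ≫ h').op) (c.π.app (op i)) (c.w h'.op)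
    (by rw [← Functor.map_comp, ← op_comp]) (c.w (h ≫ h').op) (c.w h.op)).symm

theorem smallG_map {i j : ι} (h : i ⟶ j) :
    (smallG hΦ Xs c).map h = smallTr hΦ (X := c.pt) (c.π.app (op j)) (Xs.map h.op) (c.π.app (op i)) (c.w h.op) :=
  rfl

/-- The comparison maps. -/
def smallCocone : Cocone (smallG hΦ Xs c) where
  pt := small hΦ c.pt
  ι := { app := fun i => smallPull hΦ (c.π.app (op i))
         naturality := fun i j h => (smallTr_smallPull hΦ (X := c.pt) (c.π.app (op j)) (Xs.map h.op)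
           (c.π.app (op i)) (c.w h.op)).trans (Category.comp_id _).symm }

variable [Nonempty ι] [IsDirected ι (· ≤ ·)]

theorem surjective_stalk_small (hC : LimCont Φ) (haff : ∀ ⦃a b : ιᵒᵖ⦄ (h : a ⟶ b), IsAffineHom (Xs.map h))
    (hqc : ∀ a, CompactSpace ↥(Xs.obj a)) (hqs : ∀ a, QuasiSeparatedSpace ↥(Xs.obj a)) (hc : IsLimit c)
    {Ω : Type u} [Field Ω] [IsSepClosed Ω] (ξ : Spec (CommRingCat.of Ω) ⟶ c.pt) :
    Function.Surjective ((EtCoh.stalk ξ).map (colimit.desc (smallG hΦ Xs c) (smallCocone hΦ Xs c))) := by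
  haveI : ∀ (a b : ιᵒᵖ) (f : a ⟶ b), IsAffineHom (Xs.map f) := fun a b f => haff f
  intro y
  obtain ⟨T₀, t₀, s₀, rfl⟩ := exists_germ ξ (smallCocone hΦ Xs c).pt y
  obtain ⟨A, t, hA, ht⟩ := exists_fib_affine ξ t₀
  let T := opensObj T₀ A
  let j₀ : ι := Classical.arbitrary ι
  let V : (Xs.obj (op j₀)).Etale := Scheme.Etale.mk (𝟙 _)
  have hV : Qcqs V := ⟨hqc _, hqs _⟩
  let p : T ⟶ (EtCoh.bc (c.π.app (op j₀))).obj V :=
    MorphismProperty.Over.homMk (pullback.lift (T.hom ≫ c.π.app (op j₀)) T.hom (Category.comp_id _))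
      (pullback.lift_snd _ _ _) trivial
  obtain ⟨⟨k⟩, a, W, q, ν, hW, hν, -⟩ := exists_obj_stage hc hV (qcqs_opensObj hA) p
  let s : EtCoh.sect (small hΦ c.pt) T := (small hΦ c.pt).obj.map (opensHom T₀ A).op s₀
  let s' : EtCoh.sect (small hΦ c.pt) ((EtCoh.bc (c.π.app (op k))).obj W) := (small hΦ c.pt).obj.map ν.op s
  let hP := IsPullback.of_hasPullback W.hom (c.π.app (op k))
  haveI := isAffineHom_π_app Xs c hc (op k)
  obtain ⟨l, z, hz⟩ := hC.gen (GrothLib.LimDesc.diag Xs (op k) W.hom) _ (GrothLib.LimDesc.isLimitCone Xs (op k) W.hom hP hc)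
    (fun x y f => inferInstance) (fun x => (qcqs_bc (Xs.map x.hom) hW).1)
    (fun x => (qcqs_bc (Xs.map x.hom) hW).2) s'
  obtain ⟨⟨l⟩, ⟨⟩, b⟩ := l
  let U := (EtCoh.bc (Xs.map b)).obj W
  let m := (eBC (c.π.app (op l)) (Xs.map b) (c.π.app (op k)) (c.w b)).hom.app W
  let t' := (Scheme.pointSmallEtale ξ).fiber.map (inv ν) t
  have ht' : (Scheme.pointSmallEtale ξ).fiber.map ν t' = t := by
    rw [← ConcreteCategory.comp_apply, ← Functor.map_comp, IsIso.inv_hom_id, CategoryTheory.Functor.map_id]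
    rfl
  refine ⟨(EtCoh.stalk ξ).map (colimit.ι (smallG hΦ Xs c) l) (germ ξ ((smallG hΦ Xs c).obj l)
    ((Scheme.pointSmallEtale ξ).fiber.map m t') (unitSect (c.π.app (op l)) (G := small hΦ _) (U := U) z)), ?_⟩
  rw [← ConcreteCategory.comp_apply, ← Functor.map_comp, colimit.ι_desc]
  refine (stalk_map_germ ξ _ _ _).trans ((congrArg (germ ξ (small hΦ c.pt) _) (smallPull_unit hΦ _ U z)).trans ?_)
  refine (germ_map ξ (small hΦ c.pt) m t' _).symm.trans ?_
  have e : (small hΦ c.pt).obj.map m.op (Φ.map (proj (c.π.app (op l)) U).op z) = s' := by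
    refine Eq.trans ?_ hz
    refine (ConcreteCategory.congr_hom (Φ.map_comp (proj (c.π.app (op l)) U).op m.left.op) z).symm.trans ?_
    exact congrArg (fun r => Φ.map r z) (congrArg Quiver.Hom.op (toStage_eq_cone b W))
  refine (congrArg (germ ξ (small hΦ c.pt) t') e).trans ?_
  refine (germ_map ξ _ ν t' s).trans ?_
  rw [ht']
  refine (germ_map ξ _ (opensHom T₀ A) t s₀).trans ?_
  rw [ht]

theorem injective_stalk_small (hC : LimCont Φ) (haff : ∀ ⦃a b : ιᵒᵖ⦄ (h : a ⟶ b), IsAffineHom (Xs.map h))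
    (hc : IsLimit c)
    {Ω : Type u} [Field Ω] [IsSepClosed Ω] (ξ : Spec (CommRingCat.of Ω) ⟶ c.pt) :
    Function.Injective ((EtCoh.stalk ξ).map (colimit.desc (smallG hΦ Xs c) (smallCocone hΦ Xs c))) := by
  haveI : ∀ (a b : ιᵒᵖ) (f : a ⟶ b), IsAffineHom (Xs.map f) := fun a b f => haff f
  haveI : PreservesColimitsOfSize.{u, u} (EtCoh.stalk ξ) :=
    (Scheme.pointSmallEtale ξ).skyscraperSheafAdjunction.leftAdjoint_preservesColimits
  rw [injective_iff_map_eq_zero]
  intro x hx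
  obtain ⟨i, y, rfl⟩ := exists_stage_rep' (smallG hΦ Xs c) (EtCoh.stalk ξ) x
  rw [← ConcreteCategory.comp_apply, ← Functor.map_comp, colimit.ι_desc] at hx
  let π : c.pt ⟶ Xs.obj (op i) := c.π.app (op i)
  let P : EtCoh.Ab (Xs.obj (op i)) := small hΦ _
  obtain ⟨z, rfl⟩ := (ConcreteCategory.bijective_of_isIso ((pullStalkIso ξ π).inv.app P)).surjective y
  obtain ⟨U, u₀, s₀, rfl⟩ := exists_germ (ξ ≫ π) P z
  obtain ⟨A, u, hA, hu⟩ := exists_fib_affine (ξ ≫ π) u₀
  rw [← hu, ← germ_map] at hx ⊢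
  rw [← germ_unit] at hx ⊢
  let V := opensObj U A
  let v := (fiberBcIso ξ π).inv.app V u
  let y : EtCoh.sect P V := P.obj.map (opensHom U A).op s₀
  let F := small hΦ c.pt
  let s : EtCoh.sect F ((EtCoh.bc π).obj V) := Φ.map (proj π V).op y
  have hs : germ ξ F v s = 0 := by
    refine Eq.trans ?_ hx
    refine Eq.trans ?_ (stalk_map_germ ξ ((smallCocone hΦ Xs c).ι.app i) v (unitSect π (G := P) (U := V) y)).symm
    exact congrArg (germ ξ F v) (smallPull_unit hΦ π V y).symm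
  rw [← map_zero (germ ξ F v).hom] at hs
  obtain ⟨T₀, g₀, w₀, hw₀, hg₀⟩ := (germ_eq_iff ξ F v s 0).1 hs
  obtain ⟨B, t, hB, ht⟩ := exists_fib_affine ξ w₀
  let p : opensObj T₀ B ⟶ (EtCoh.bc π).obj V := opensHom T₀ B ≫ g₀
  obtain ⟨⟨k⟩, a, W, q, ν, hW, hν, hνp⟩ := exists_obj_stage hc (qcqs_opensObj hA) (qcqs_opensObj hB) p
  let μ := mu (c.π.app (op k)) (Xs.map a) π (c.w a) V q
  let t' := (Scheme.pointSmallEtale ξ).fiber.map (inv ν) t
  have hmu : (Scheme.pointSmallEtale ξ).fiber.map μ t' = v := by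
    dsimp only [μ, π, V]
    rw [← hνp, ← ConcreteCategory.comp_apply, ← Functor.map_comp, IsIso.inv_hom_id_assoc, Functor.map_comp,
      ConcreteCategory.comp_apply, ht, hw₀]
  have hs0 : F.obj.map μ.op s = 0 := by
    dsimp only [μ, π, V]
    rw [← hνp, op_comp, op_comp, Functor.map_comp, Functor.map_comp, ConcreteCategory.comp_apply,
      ConcreteCategory.comp_apply, hg₀]
    simp
  let y' : EtCoh.sect (small hΦ (Xs.obj (op k))) W := Φ.map (q.left ≫ proj (Xs.map a) V).op y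
  have hy' : Φ.map (proj (c.π.app (op k)) W).op y' = 0 := by
    refine Eq.trans ?_ hs0
    have e : μ.left ≫ proj π V = proj (c.π.app (op k)) W ≫ q.left ≫ proj (Xs.map a) V :=
      ((congrArg (μ.left ≫ ·) (toStage_fst (c.π.app (op k)) (Xs.map a) π (c.w a) V)).symm.trans
        ((Category.assoc _ _ _).symm.trans (congrArg (· ≫ proj (Xs.map a) V)
          (toStage_mu_hom (c.π.app (op k)) (Xs.map a) π (c.w a) V q)))).trans (Category.assoc _ _ _)
    refine (ConcreteCategory.congr_hom (Φ.map_comp (q.left ≫ proj (Xs.map a) V).op (proj (c.π.app (op k)) W).op) y).symm.trans ?_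
    refine (congrArg (fun r => Φ.map r y) (congrArg Quiver.Hom.op e).symm).trans ?_
    exact ConcreteCategory.congr_hom (Φ.map_comp (proj π V).op μ.left.op) y
  let hP := IsPullback.of_hasPullback W.hom (c.π.app (op k))
  let E := GrothLib.LimDesc.diag Xs (op k) W.hom
  let C := GrothLib.LimDesc.cone Xs (op k) W.hom hP
  haveI := isAffineHom_π_app Xs c hc (op k)
  let top : Over (op k) := Over.mk (𝟙 (op k))
  let W₁ := (EtCoh.bc (Xs.map (𝟙 (op k)))).obj W
  have hy1 : Φ.map (C.π.app top).op (Φ.map (proj (Xs.map (𝟙 (op k))) W).op y') = 0 := by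
    refine Eq.trans ?_ hy'
    refine (ConcreteCategory.congr_hom (Φ.map_comp (proj (Xs.map (𝟙 (op k))) W).op (C.π.app top).op) y').symm.trans ?_
    exact congrArg (fun r => Φ.map r y') (congrArg Quiver.Hom.op (GrothLib.LimDesc.π_fst Xs (op k) W.hom hP top))
  obtain ⟨l, φ, hl⟩ := hC.kill E C (GrothLib.LimDesc.isLimitCone Xs (op k) W.hom hP hc)
    (fun x y f => inferInstance) (fun x => (qcqs_bc (Xs.map x.hom) hW).1)
    (fun x => (qcqs_bc (Xs.map x.hom) hW).2) top _ hy1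
  obtain ⟨⟨l⟩, ⟨⟩, b⟩ := l
  change op l ⟶ op k at b
  have hl' : Φ.map (proj (Xs.map b) W).op y' = 0 := by
    refine Eq.trans ?_ hl
    refine Eq.trans ?_ (ConcreteCategory.congr_hom (Φ.map_comp (proj (Xs.map (𝟙 (op k))) W).op (E.map φ).op) y')
    exact congrArg (fun r => Φ.map r y') (congrArg Quiver.Hom.op (GrothLib.LimDesc.map_fst Xs (op k) W.hom φ)).symm
  have hb : (smallG hΦ Xs c).map b.unop ≫ colimit.ι (smallG hΦ Xs c) l = colimit.ι (smallG hΦ Xs c) k :=
    colimit.w (smallG hΦ Xs c) b.unop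
  rw [← colimit.w (smallG hΦ Xs c) a.unop]
  erw [← hb]
  rw [Functor.map_comp, Functor.map_comp,
    ConcreteCategory.comp_apply, ConcreteCategory.comp_apply]
  refine (congrArg _ ?_).trans (map_zero ((EtCoh.stalk ξ).map (colimit.ι (smallG hΦ Xs c) l)).hom)
  have e1 : (EtCoh.stalk ξ).map ((smallG hΦ Xs c).map a.unop) (germ ξ _ v (unitSect π (G := P) (U := V) y)) =
      germ ξ ((smallG hΦ Xs c).obj k) t' (unitSect (c.π.app (op k)) (G := small hΦ _) (U := W) y') := by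
    refine (stalk_map_germ ξ ((smallG hΦ Xs c).map a.unop) v (unitSect π (G := P) (U := V) y)).trans ?_
    rw [← hmu]
    refine (germ_map ξ _ μ t' _).symm.trans ?_
    exact congrArg (germ ξ _ t') (smallTr_unitSect hΦ (c.π.app (op k)) (Xs.map a) π (c.w a) q y)
  refine (congrArg ((EtCoh.stalk ξ).map ((smallG hΦ Xs c).map b.unop)) e1).trans ?_
  exact stalk_smallTr_eq_zero hΦ (c.π.app (op l)) (Xs.map b) (c.π.app (op k)) (c.w b) ξ y' hl' t'

/-- The restriction to the small site of a limit is the colimit of the inverse images. -/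
theorem isIso_small (hC : LimCont Φ) (haff : ∀ ⦃a b : ιᵒᵖ⦄ (h : a ⟶ b), IsAffineHom (Xs.map h))
    (hqc : ∀ a, CompactSpace ↥(Xs.obj a)) (hqs : ∀ a, QuasiSeparatedSpace ↥(Xs.obj a)) (hc : IsLimit c) :
    IsIso (colimit.desc (smallG hΦ Xs c) (smallCocone hΦ Xs c)) :=
  isIso_of_stalks _ fun Ω _ _ ξ => ⟨injective_stalk_small hΦ Xs c hC haff hc ξ,
    surjective_stalk_small hΦ Xs c hC haff hqc hqs hc ξ⟩

end GrothLib.EtLimit
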