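import Groth.Agent.Lib.EtLimit.PushSys
import Groth.Agent.Lib.EtLimit.Points
import Groth.Prelude.Def_EtLim

/-!
# Restrictions of a big étale sheaf to the small sites of an inverse system
-/

set_option autoImplicit false
set_option backward.isDefEq.respectTransparency false
universe u

open CategoryTheory CategoryTheory.Limits AlgebraicGeometry Opposite
open GrothLib.EtSite

noncomputable section

namespace GrothLib.EtLimit

variable {Φ : Scheme.{u}ᵒᵖ ⥤ AddCommGrpCat.{u + 1}} (hΦ : Presheaf.IsSheaf Scheme.etaleTopology Φ)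
  {X Y Z S W : Scheme.{u}}

/-- The restriction of a big étale sheaf to the small étale site. -/
def small (X : Scheme.{u}) : EtCoh.Ab X :=
  ((Scheme.Etale.forget X ⋙ Over.forget X).sheafPushforwardContinuous _ _ Scheme.etaleTopology).obj ⟨Φ, hΦ⟩

/-- Pullback of sections. -/
def smallPush (f : X ⟶ Y) : small hΦ Y ⟶ (EtCoh.push f).obj (small hΦ X) :=
  ObjectProperty.homMk (Functor.whiskerRight (NatTrans.op (EtLim.bcProj f)) Φ)

/-- The comparison with the inverse image. -/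
def smallPull (f : X ⟶ Y) : (EtCoh.pull f).obj (small hΦ Y) ⟶ small hΦ X :=
  (EtCoh.pull f).map (smallPush hΦ f) ≫ (EtCoh.pullPushAdj f).counit.app (small hΦ X)

/-- The transition map of inverse images. -/
def smallTr (f : X ⟶ Y) (t : Y ⟶ Z) (t' : X ⟶ Z) (w : f ≫ t = t') :
    (EtCoh.pull t').obj (small hΦ Z) ⟶ (EtCoh.pull f).obj (small hΦ Y) :=
  (pV f t t' w).inv.app (small hΦ Z) ≫ (EtCoh.pull f).map (smallPull hΦ t)

theorem smallPush_app (f : X ⟶ Y) (V : Y.Etale) :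
    (smallPush hΦ f).hom.app (op V) = Φ.map (GrothLib.ConnFibres.proj f V).op := rfl

theorem unit_smallPull (f : X ⟶ Y) :
    (EtCoh.pullPushAdj f).unit.app (small hΦ Y) ≫ (EtCoh.push f).map (smallPull hΦ f) = smallPush hΦ f := by
  have h := (EtCoh.pullPushAdj f).unit.naturality (smallPush hΦ f)
  rw [Functor.id_map, Functor.comp_map] at h
  rw [smallPull, Functor.map_comp, ← reassoc_of% h]
  erw [Adjunction.right_triangle_components (EtCoh.pullPushAdj f) (small hΦ X), Category.comp_id]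

theorem smallPush_comp (f : X ⟶ Y) (t : Y ⟶ Z) (t' : X ⟶ Z) (w : f ≫ t = t') :
    smallPush hΦ t ≫ (EtCoh.push t).map (smallPush hΦ f) ≫ (qV f t t' w).hom.app (small hΦ X) =
      smallPush hΦ t' := by
  apply Sheaf.hom_ext
  apply NatTrans.ext
  funext V
  obtain ⟨V⟩ := V
  have h := congrArg (fun φ => Φ.map φ) (congrArg Quiver.Hom.op (eBC_fst_fst f t t' w V))
  rw [op_comp, op_comp, Functor.map_comp, Functor.map_comp, Category.assoc] at h
  refine Eq.trans ?_ h
  change (smallPush hΦ t).hom.app (op V) ≫ (smallPush hΦ f).hom.app (op ((EtCoh.bc t).obj V)) ≫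
    ((qV f t t' w).hom.app (small hΦ X)).hom.app (op V) = _
  rw [qV_app, smallPush_app, smallPush_app]
  rfl

/-- Comparisons compose. -/
theorem smallPull_comp (f : X ⟶ Y) (t : Y ⟶ Z) (t' : X ⟶ Z) (w : f ≫ t = t') :
    smallPull hΦ t' = (pV f t t' w).inv.app (small hΦ Z) ≫ (EtCoh.pull f).map (smallPull hΦ t) ≫
      smallPull hΦ f := by
  apply ((EtCoh.pullPushAdj t').homEquiv _ _).injective
  rw [Adjunction.homEquiv_unit, Adjunction.homEquiv_unit, unit_pV_inv f t t' w (smallPull hΦ t) (smallPull hΦ f),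
    unit_smallPull, unit_smallPull, Functor.map_comp, Category.assoc, reassoc_of% (unit_smallPull hΦ t)]
  exact (smallPush_comp hΦ f t t' w).symm

theorem smallTr_smallPull (f : X ⟶ Y) (t : Y ⟶ Z) (t' : X ⟶ Z) (w : f ≫ t = t') :
    smallTr hΦ f t t' w ≫ smallPull hΦ f = smallPull hΦ t' := by
  rw [smallTr, Category.assoc, ← smallPull_comp]

theorem smallTr_comp (h : W ⟶ X) (g : X ⟶ Y) (t : Y ⟶ S) (k : W ⟶ Y) (t' : X ⟶ S)
    (t'' : W ⟶ S) (hk : h ≫ g = k) (w₁ : g ≫ t = t') (w₂ : h ≫ t' = t'') (w₃ : k ≫ t = t'') :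
    smallTr hΦ k t t'' w₃ ≫ smallTr hΦ h g k hk = smallTr hΦ h t' t'' w₂ := by
  have n1 := (pV h g k hk).inv.naturality (smallPull hΦ t)
  rw [Functor.comp_map] at n1
  have c := pV_inv_assoc h g t k t' t'' hk w₁ w₂ w₃ (small hΦ S)
  rw [smallTr, smallTr, smallTr, Category.assoc, reassoc_of% n1, reassoc_of% c,
    smallPull_comp hΦ g t t' w₁, Functor.map_comp, Functor.map_comp]

theorem smallTr_id (f : X ⟶ Y) (t : Y ⟶ Y) (ht : t = 𝟙 Y) (w : f ≫ t = f) : smallTr hΦ f t f w = 𝟙 _ := by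
  subst ht
  have hid : smallTr hΦ f (𝟙 Y) f w ≫ smallTr hΦ f (𝟙 Y) f w = smallTr hΦ f (𝟙 Y) f w :=
    smallTr_comp hΦ f (𝟙 Y) (𝟙 Y) f (𝟙 Y) f w (Category.comp_id _) w w
  let η := GrothLib.EtDer.pushIdIso Y
  haveI : (EtCoh.push (𝟙 Y)).Full := Functor.Full.of_iso η.symm
  haveI : (EtCoh.push (𝟙 Y)).Faithful := Functor.Faithful.of_iso η.symm
  haveI : IsIso (EtCoh.pullPushAdj (𝟙 Y)).counit := Adjunction.counit_isIso_of_R_fully_faithful _
  haveI : ∀ V : Y.Etale, IsIso (GrothLib.ConnFibres.proj (𝟙 Y) V) := fun V =>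
    inferInstanceAs (IsIso (pullback.fst V.hom (𝟙 Y)))
  haveI : IsIso (smallPush hΦ (𝟙 Y)) := by
    haveI : IsIso (smallPush hΦ (𝟙 Y)).hom := by
      haveI : ∀ V, IsIso ((smallPush hΦ (𝟙 Y)).hom.app V) := fun ⟨V⟩ => by
        rw [smallPush_app]; infer_instance
      exact NatIso.isIso_of_isIso_app _
    haveI : IsIso ((sheafToPresheaf _ _).map (smallPush hΦ (𝟙 Y))) := ‹IsIso (smallPush hΦ (𝟙 Y)).hom›
    exact isIso_of_reflects_iso (smallPush hΦ (𝟙 Y)) (sheafToPresheaf _ _)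
  haveI : IsIso (smallPull hΦ (𝟙 Y)) := by rw [smallPull]; infer_instance
  haveI : IsIso (smallTr hΦ f (𝟙 Y) f w) := by rw [smallTr]; infer_instance
  rwa [← cancel_epi (smallTr hΦ f (𝟙 Y) f w), Category.comp_id]

end GrothLib.EtLimit
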