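import Groth.Agent.Lib.EtSec.Stages
import Groth.Agent.Lib.EtSec.AbSecs
import Groth.Agent.Lib.EtSite.Points
import Groth.Prelude.Def_EtCore

/-!
# Stalks of direct images and sections over base changes of strict localizations
-/

set_option autoImplicit false
universe u

open CategoryTheory CategoryTheory.Limits AlgebraicGeometry Opposite
open GrothLib.EtSite GrothLib.EtSec

set_option backward.isDefEq.respectTransparency.types false

noncomputable section

namespace GrothLib.EtLimit

variable {X S : Scheme.{u}} (f : X ⟶ S) {Ω : Type u} [Field Ω] [IsSepClosed Ω]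
  {η : Spec (CommRingCat.of Ω) ⟶ S} (N : GrothLib.EtSec.ProNbhd η)
  {P : Scheme.{u}} (q : P ⟶ N.c.pt) (pr : P ⟶ X) (hP : IsPullback q pr N.bc f)

theorem exists_locMap (U : S.Etale) (t : (Scheme.pointSmallEtale η).fiber.obj U) :
    ∃ m : N.c.pt ⟶ U.left, m ≫ U.hom = N.bc ∧ N.pt ≫ m = t.left := by
  haveI : Etale U.hom := U.prop
  obtain ⟨i, m, hm, hp⟩ := N.initial U.left U.hom U.prop t.left (Over.w t)
  exact ⟨N.c.π.app i ≫ m, by rw [Category.assoc, hm, N.hbc], hp⟩

/-- The map of the strict localization to a neighbourhood. -/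
def locMap (U : S.Etale) (t : (Scheme.pointSmallEtale η).fiber.obj U) : N.c.pt ⟶ U.left :=
  (exists_locMap N U t).choose

theorem locMap_hom (U : S.Etale) (t : (Scheme.pointSmallEtale η).fiber.obj U) : locMap N U t ≫ U.hom = N.bc :=
  (exists_locMap N U t).choose_spec.1

theorem pt_locMap (U : S.Etale) (t : (Scheme.pointSmallEtale η).fiber.obj U) : N.pt ≫ locMap N U t = t.left :=
  (exists_locMap N U t).choose_spec.2

theorem locMap_natural {U V : S.Etale} (g : U ⟶ V) (t : (Scheme.pointSmallEtale η).fiber.obj U) :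
    locMap N U t ≫ g.left = locMap N V ((Scheme.pointSmallEtale η).fiber.map g t) := by
  haveI : Etale V.hom := V.prop
  refine N.ext V.hom _ _ ?_ ?_
  · rw [Category.assoc, GrothLib.EtSec.hom_left g, locMap_hom, locMap_hom]
  · rw [← Category.assoc, pt_locMap, pt_locMap]
    rfl

variable {f N q pr}

/-- The map of the base change to a neighbourhood. -/
def lift₁ (hw : q ≫ N.bc = pr ≫ f) (U : S.Etale) (t : (Scheme.pointSmallEtale η).fiber.obj U) :
    P ⟶ ((EtCoh.bc f).obj U).left :=
  pullback.lift (q ≫ locMap N U t) pr (by rw [Category.assoc, locMap_hom, hw])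

theorem lift₁_hom (hw : q ≫ N.bc = pr ≫ f) (U : S.Etale) (t : (Scheme.pointSmallEtale η).fiber.obj U) :
    lift₁ hw U t ≫ ((EtCoh.bc f).obj U).hom = pr :=
  pullback.lift_snd _ _ _

/-- The section of the base change. -/
def secMap (hw : q ≫ N.bc = pr ≫ f) (U : S.Etale) (t : (Scheme.pointSmallEtale η).fiber.obj U) :
    EtCoh.top P ⟶ (EtCoh.bc pr).obj ((EtCoh.bc f).obj U) :=
  MorphismProperty.Over.homMk (pullback.lift (lift₁ hw U t) (𝟙 P) ((lift₁_hom hw U t).trans (Category.id_comp pr).symm))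
    (pullback.lift_snd _ _ _)

theorem secMap_natural (hw : q ≫ N.bc = pr ≫ f) {U V : S.Etale} (g : U ⟶ V)
    (t : (Scheme.pointSmallEtale η).fiber.obj U) :
    secMap hw U t ≫ (EtCoh.bc pr).map ((EtCoh.bc f).map g) =
      secMap hw V ((Scheme.pointSmallEtale η).fiber.map g t) := by
  refine MorphismProperty.Over.Hom.ext ?_
  refine pullback.hom_ext ?_ ?_
  · show (pullback.lift (lift₁ hw U t) (𝟙 P) _ ≫ ((EtCoh.bc pr).map ((EtCoh.bc f).map g)).left) ≫ pullback.fst _ _ =
      pullback.lift (lift₁ hw V _) (𝟙 P) _ ≫ pullback.fst _ _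
    rw [Category.assoc, pullback.lift_fst]
    refine (congrArg (pullback.lift (lift₁ hw U t) (𝟙 P) _ ≫ ·) (pullback.lift_fst _ _ _)).trans ?_
    refine ((Category.assoc _ _ _).symm.trans (congrArg (· ≫ ((EtCoh.bc f).map g).left) (pullback.lift_fst _ _ _))).trans ?_
    refine pullback.hom_ext ?_ ?_
    · refine (Category.assoc _ _ _).trans ?_
      refine (congrArg (lift₁ hw U t ≫ ·) (pullback.lift_fst _ _ _)).trans ?_
      refine Eq.trans ?_ (pullback.lift_fst _ _ _).symm
      rw [← locMap_natural N g t]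
      exact (Category.assoc _ _ _).symm.trans ((congrArg (· ≫ g.left) (pullback.lift_fst _ _ _)).trans (Category.assoc _ _ _))
    · refine (Category.assoc _ _ _).trans ?_
      refine (congrArg (lift₁ hw U t ≫ ·) (pullback.lift_snd _ _ _)).trans ?_
      exact (pullback.lift_snd _ _ _).trans (pullback.lift_snd _ _ _).symm
  · show (pullback.lift (lift₁ hw U t) (𝟙 P) _ ≫ ((EtCoh.bc pr).map ((EtCoh.bc f).map g)).left) ≫ pullback.snd _ _ =
      pullback.lift (lift₁ hw V _) (𝟙 P) _ ≫ pullback.snd _ _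
    rw [Category.assoc, pullback.lift_snd]
    refine (congrArg (pullback.lift (lift₁ hw U t) (𝟙 P) _ ≫ ·) (pullback.lift_snd _ _ _)).trans ?_
    exact pullback.lift_snd _ _ _

/-- A section over a neighbourhood gives a section on the base change. -/
def thetaApp (hw : q ≫ N.bc = pr ≫ f) (J : EtCoh.Ab X) (U : S.Etale) (t : (Scheme.pointSmallEtale η).fiber.obj U) :
    ((EtCoh.push f).obj J).obj.obj (op U) ⟶ ((EtCoh.pull pr).obj J).obj.obj (op (EtCoh.top P)) :=
  ((EtCoh.pullPushAdj pr).unit.app J).hom.app (op ((EtCoh.bc f).obj U)) ≫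
    ((EtCoh.pull pr).obj J).obj.map (secMap hw U t).op

/-- The comparison map. -/
def theta (hw : q ≫ N.bc = pr ≫ f) (J : EtCoh.Ab X) :
    (EtCoh.stalk η).obj ((EtCoh.push f).obj J) ⟶ ((EtCoh.pull pr).obj J).obj.obj (op (EtCoh.top P)) :=
  (Scheme.pointSmallEtale η).presheafFiberDesc (thetaApp hw J) (fun U V g t => by
    refine AddCommGrpCat.hom_ext (AddMonoidHom.ext fun s => ?_)
    show ((EtCoh.pull pr).obj J).obj.map (secMap hw U t).op
        (((EtCoh.pullPushAdj pr).unit.app J).hom.app (op ((EtCoh.bc f).obj U)) (J.obj.map ((EtCoh.bc f).map g).op s)) =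
      ((EtCoh.pull pr).obj J).obj.map (secMap hw V _).op (((EtCoh.pullPushAdj pr).unit.app J).hom.app _ s)
    erw [NatTrans.naturality_apply ((EtCoh.pullPushAdj pr).unit.app J).hom]
    rw [← secMap_natural hw g t, op_comp, Functor.map_comp, ConcreteCategory.comp_apply]
    rfl)

theorem theta_germ (hw : q ≫ N.bc = pr ≫ f) (J : EtCoh.Ab X) (U : S.Etale)
    (t : (Scheme.pointSmallEtale η).fiber.obj U) (s : EtCoh.sect ((EtCoh.push f).obj J) U) :
    theta hw J (germ η ((EtCoh.push f).obj J) t s) = thetaApp hw J U t s :=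
  ConcreteCategory.congr_hom ((Scheme.pointSmallEtale η).toPresheafFiber_presheafFiberDesc (thetaApp hw J) _ U t) s

theorem theta_natural (hw : q ≫ N.bc = pr ≫ f) {J J' : EtCoh.Ab X} (φ : J ⟶ J') :
    (EtCoh.stalk η).map ((EtCoh.push f).map φ) ≫ theta hw J' =
      theta hw J ≫ ((EtCoh.pull pr).map φ).hom.app (op (EtCoh.top P)) := by
  refine AddCommGrpCat.hom_ext (AddMonoidHom.ext fun x => ?_)
  obtain ⟨U, t, s, rfl⟩ := exists_germ η ((EtCoh.push f).obj J) x
  show theta hw J' ((EtCoh.stalk η).map ((EtCoh.push f).map φ) (germ η _ t s)) =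
    ((EtCoh.pull pr).map φ).hom.app (op (EtCoh.top P)) (theta hw J (germ η _ t s))
  rw [stalk_map_germ, theta_germ, theta_germ]
  show ((EtCoh.pull pr).obj J').obj.map (secMap hw U t).op
      (((EtCoh.pullPushAdj pr).unit.app J').hom.app _ (φ.hom.app (op ((EtCoh.bc f).obj U)) s)) =
    ((EtCoh.pull pr).map φ).hom.app (op (EtCoh.top P)) (((EtCoh.pull pr).obj J).obj.map (secMap hw U t).op
      (((EtCoh.pullPushAdj pr).unit.app J).hom.app _ s))
  rw [NatTrans.naturality_apply ((EtCoh.pull pr).map φ).hom]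
  refine congrArg _ ?_
  exact congrArg (fun k : J ⟶ (EtCoh.push pr).obj ((EtCoh.pull pr).obj J') => k.hom.app (op ((EtCoh.bc f).obj U)) s)
    ((EtCoh.pullPushAdj pr).unit.naturality φ)

theorem toSecsAb_thetaApp (hw : q ≫ N.bc = pr ≫ f) (J : EtCoh.Ab X) (U : S.Etale)
    (t : (Scheme.pointSmallEtale η).fiber.obj U) (s : EtCoh.sect ((EtCoh.push f).obj J) U) :
    toSecsAb pr J (U := EtCoh.top P) (thetaApp hw J U t s) =
      (secOf (forgetSh J) (U := (EtCoh.bc f).obj U) s).res (lift₁ hw U t)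
        ((lift₁_hom hw U t).trans (Category.id_comp pr).symm) := by
  refine (toSecsAb_map pr J (secMap hw U t) _).trans ?_
  refine (congrArg (Secs.res _ _) ((toSecsAb_unit pr J (W := (EtCoh.bc f).obj U) s).trans (ofSect_eq _ _ _ _))).trans ?_
  refine (Secs.res_comp _ _ _ _ _).trans (Secs.res_congr ?_ _ _ _)
  exact pullback.lift_fst _ _ _

/-- The isomorphism with the standard base change. -/
def toPb (hw : q ≫ N.bc = pr ≫ f) : P ⟶ pullback N.bc f := pullback.lift q pr hw

include hP in
theorem theta_bijective [QuasiCompact f] [QuasiSeparated f] (J : EtCoh.Ab X) :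
    Function.Bijective (theta hP.w J) := by
  haveI hiso : IsIso (toPb hP.w) := by
    have : toPb hP.w = hP.isoPullback.hom := pullback.hom_ext
      ((pullback.lift_fst _ _ _).trans hP.isoPullback_hom_fst.symm)
      ((pullback.lift_snd _ _ _).trans hP.isoPullback_hom_snd.symm)
    rw [this]; infer_instance
  have hψ : toPb hP.w ≫ pullback.snd N.bc f = 𝟙 P ≫ pr := (pullback.lift_snd _ _ _).trans (Category.id_comp pr).symm
  have hψ' : inv (toPb hP.w) ≫ 𝟙 P ≫ pr = pullback.snd N.bc f := by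
    rw [← hψ, IsIso.inv_hom_id_assoc]
  have hres : Function.Bijective (fun σ : Secs (pullback.snd N.bc f) (forgetSh J) => σ.res (toPb hP.w) hψ) := by
    refine ⟨fun a b h => ?_, fun σ => ⟨σ.res (inv (toPb hP.w)) hψ', ?_⟩⟩
    · have := congrArg (fun r => Secs.res (inv (toPb hP.w)) hψ' r) h
      simp only [Secs.res_comp] at this
      exact ((Secs.res_id a).symm.trans ((Secs.res_congr (IsIso.inv_hom_id (toPb hP.w)).symm _ _ a).trans this)).trans
        ((Secs.res_congr (IsIso.inv_hom_id (toPb hP.w)) _ _ b).trans (Secs.res_id b))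
    · exact (Secs.res_comp _ _ _ _ σ).trans ((Secs.res_congr (IsIso.hom_inv_id (toPb hP.w)) _ _ σ).trans (Secs.res_id σ))
  have hTS : Function.Bijective (toSecsAb pr J (U := EtCoh.top P)) := toSecsAb_bijective pr J _
  -- the value of `theta` on a neighbourhood which is a stage
  have key : ∀ (i : N.I) (hi : Etale (N.b i)) (s : EtCoh.sect ((EtCoh.push f).obj J)
        (@Scheme.Etale.mk _ _ (N.b i) hi)) (t : (Scheme.pointSmallEtale η).fiber.obj (@Scheme.Etale.mk _ _ (N.b i) hi)),
      t.left = N.pt ≫ N.c.π.app i →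
      toSecsAb pr J (U := EtCoh.top P) (theta hP.w J (germ η _ t s)) =
        (resT f (N.c.π.app i) (N.hbc i)
          (secOf (forgetSh J) (U := (EtCoh.bc f).obj (@Scheme.Etale.mk _ _ (N.b i) hi)) s)).res (toPb hP.w) hψ := by
    intro i hi s t ht
    rw [theta_germ, toSecsAb_thetaApp]
    refine Eq.trans (Secs.res_congr ?_ _ _ _) (Secs.res_comp _ _ _ _ _).symm
    have hl : locMap N (@Scheme.Etale.mk _ _ (N.b i) hi) t = N.c.π.app i := by
      haveI := hi
      refine N.ext (N.b i) _ _ ((locMap_hom N _ t).trans (N.hbc i).symm) ?_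
      exact (pt_locMap N (@Scheme.Etale.mk _ _ (N.b i) hi) t).trans ht
    refine pullback.hom_ext ?_ ?_
    · refine (pullback.lift_fst _ _ _).trans ?_
      refine Eq.trans ?_ (Category.assoc _ _ _).symm
      refine Eq.trans ?_ (congrArg (toPb hP.w ≫ ·) (bmap_fst f _ _)).symm
      rw [toPb, pullback.lift_fst_assoc, hl]
    · refine (pullback.lift_snd _ _ _).trans ?_
      refine Eq.trans ?_ (Category.assoc _ _ _).symm
      refine Eq.trans ?_ (congrArg (toPb hP.w ≫ ·) (bmap_snd f _ _)).symm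
      exact (pullback.lift_snd _ _ _).symm
  -- every germ lives on a stage
  have stage : ∀ x : (EtCoh.stalk η).obj ((EtCoh.push f).obj J),
      ∃ (i : N.I) (hi : Etale (N.b i)) (t : (Scheme.pointSmallEtale η).fiber.obj (@Scheme.Etale.mk _ _ (N.b i) hi))
        (s : EtCoh.sect ((EtCoh.push f).obj J) (@Scheme.Etale.mk _ _ (N.b i) hi)),
        t.left = N.pt ≫ N.c.π.app i ∧ germ η _ t s = x := by
    intro x
    obtain ⟨U, t, s, rfl⟩ := exists_germ η ((EtCoh.push f).obj J) x
    obtain ⟨i, m, hm, hp⟩ := N.initial U.left U.hom U.prop t.left (Over.w t)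
    haveI := N.etale i
    let U' : S.Etale := Scheme.Etale.mk (N.b i)
    let r : U' ⟶ U := MorphismProperty.Over.homMk m hm
    let t' : (Scheme.pointSmallEtale η).fiber.obj U' :=
      fib η (U := U') (N.pt ≫ N.c.π.app i) (by rw [Category.assoc]; exact (congrArg (N.pt ≫ ·) (N.hbc i)).trans N.hpt)
    have hrt : (Scheme.pointSmallEtale η).fiber.map r t' = t :=
      Over.OverMorphism.ext ((Category.assoc _ _ _).trans hp)
    refine ⟨i, N.etale i, t', ((EtCoh.push f).obj J).obj.map r.op s, rfl, ?_⟩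
    rw [germ_map, hrt]
  constructor
  · refine (injective_iff_map_eq_zero (theta hP.w J).hom).2 fun x hx => ?_
    obtain ⟨i, hi, t, s, ht, rfl⟩ := stage x
    have h0 : germ η ((EtCoh.push f).obj J) t (0 : EtCoh.sect ((EtCoh.push f).obj J) _) = 0 := map_zero _
    have e : toSecsAb pr J (U := EtCoh.top P) (theta hP.w J (germ η _ t s)) =
        toSecsAb pr J (U := EtCoh.top P) (theta hP.w J (germ η _ t (0 : EtCoh.sect ((EtCoh.push f).obj J) _))) := by
      rw [h0, map_zero]
      exact congrArg _ hx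
    rw [key i hi s t ht, key i hi 0 t ht] at e
    obtain ⟨j, φ, hφ⟩ := N.exists_stage_eq f _ _ (hres.1 e)
    haveI := hi
    haveI := N.etale j
    let Uj : S.Etale := Scheme.Etale.mk (N.b j)
    let rj : Uj ⟶ Scheme.Etale.mk (N.b i) := MorphismProperty.Over.homMk (N.D.map φ) (N.hb φ)
    have hb : ((EtCoh.bc f).map rj).left = bmap f (N.D.map φ) (N.hb φ) :=
      pullback.hom_ext ((pullback.lift_fst _ _ _).trans (bmap_fst f _ _).symm)
        ((pullback.lift_snd _ _ _).trans (bmap_snd f _ _).symm)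
    have hs : J.obj.map ((EtCoh.bc f).map rj).op s =
        J.obj.map ((EtCoh.bc f).map rj).op (0 : EtCoh.sect ((EtCoh.push f).obj J) _) := by
      apply secOf_injective (forgetSh J)
      exact (secOf_map (forgetSh J) ((EtCoh.bc f).map rj) s).trans (((Secs.res_congr hb _ _ _).trans (hφ.trans
        (Secs.res_congr hb _ _ _).symm)).trans (secOf_map (forgetSh J) ((EtCoh.bc f).map rj) _).symm)
    let tj : (Scheme.pointSmallEtale η).fiber.obj Uj :=
      fib η (U := Uj) (N.pt ≫ N.c.π.app j) (by rw [Category.assoc]; exact (congrArg (N.pt ≫ ·) (N.hbc j)).trans N.hpt)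
    have htj : (Scheme.pointSmallEtale η).fiber.map rj tj = t :=
      Over.OverMorphism.ext (by
        show (N.pt ≫ N.c.π.app j) ≫ N.D.map φ = t.left
        rw [Category.assoc, N.c.w, ht])
    rw [← htj, ← germ_map, show ((EtCoh.push f).obj J).obj.map rj.op s = J.obj.map ((EtCoh.bc f).map rj).op s from rfl,
      hs, show J.obj.map ((EtCoh.bc f).map rj).op (0 : EtCoh.sect ((EtCoh.push f).obj J) _) = 0 from map_zero _]
    exact map_zero (germ η ((EtCoh.push f).obj J) tj).hom
  · intro σ
    obtain ⟨τ, hτ⟩ := hres.2 (toSecsAb pr J σ)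
    obtain ⟨i, s, hs⟩ := N.exists_stage f τ
    haveI := N.etale i
    obtain ⟨s₀, hs₀⟩ := (secOf_bijective (forgetSh J) ((EtCoh.bc f).obj (Scheme.Etale.mk (N.b i)))).2 s
    let t : (Scheme.pointSmallEtale η).fiber.obj (Scheme.Etale.mk (N.b i)) :=
      fib η (U := Scheme.Etale.mk (N.b i)) (N.pt ≫ N.c.π.app i)
        (by rw [Category.assoc]; exact (congrArg (N.pt ≫ ·) (N.hbc i)).trans N.hpt)
    refine ⟨germ η ((EtCoh.push f).obj J) t s₀, hTS.1 ?_⟩
    rw [key i (N.etale i) s₀ t rfl, hs₀, hs]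
    exact hτ

include hP in
/-- Stalks of direct images are sections over the base change. -/
theorem nonempty_stalk_push_iso [QuasiCompact f] [QuasiSeparated f] :
    Nonempty (EtCoh.push f ⋙ EtCoh.stalk η ≅ EtCoh.pull pr ⋙ EtCore.gsec P) := by
  haveI : ∀ J, IsIso (theta hP.w J) := fun J => (ConcreteCategory.isIso_iff_bijective _).2 (theta_bijective hP J)
  exact ⟨NatIso.ofComponents (fun J => asIso (theta hP.w J)) (fun φ => theta_natural hP.w φ)⟩

end GrothLib.EtLimit
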