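import Groth.Agent.Lib.EtLimit.StalkPush
import Groth.Agent.Lib.EtLimit.Main
import Groth.Agent.Lib.EtDer.Injective
import Groth.Agent.Lib.CechUniv.ExtDelta
import Groth.Agent.Lib.EtFastInst

/-!
# Stalks of higher direct images
-/

set_option autoImplicit false
set_option backward.isDefEq.respectTransparency false
universe u

open CategoryTheory CategoryTheory.Limits CategoryTheory.Abelian AlgebraicGeometry Opposite
open GrothLib.EtColim (Z)
open scoped GrothLib.EtFast

noncomputable section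

namespace GrothLib.EtLimit

variable {X S : Scheme.{u}} {f : X ⟶ S} {Ω : Type u} [Field Ω] [IsSepClosed Ω]
  {η : Spec (CommRingCat.of Ω) ⟶ S} {N : GrothLib.EtSec.ProNbhd η}
  {P : Scheme.{u}} {q : P ⟶ N.c.pt} {pr : P ⟶ X} (hP : IsPullback q pr N.bc f)

include hP in
theorem subsingleton_ext_pull_injective [QuasiCompact f] [QuasiSeparated f] (J : EtCoh.Ab X) [Injective J] (n : ℕ) :
    Subsingleton (Ext.{u + 1} (Z P) ((EtCoh.pull pr).obj J) (n + 1)) := by
  obtain ⟨i₀⟩ := IsCofiltered.nonempty (C := N.I)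
  haveI := N.affine
  haveI : ∀ i, Etale (N.b i) := N.etale
  haveI : ∀ (i j : N.I) (φ : i ⟶ j), IsAffineHom (N.D.map φ) := fun _ _ _ => isAffineHom_of_isAffine _
  let a : pullback (N.b i₀) f ⟶ N.D.obj i₀ := pullback.fst (N.b i₀) f
  haveI : QuasiCompact a := MorphismProperty.pullback_fst _ _ ‹QuasiCompact f›
  haveI : QuasiSeparated a := MorphismProperty.pullback_fst _ _ ‹QuasiSeparated f›
  haveI : CompactSpace ↥(pullback (N.b i₀) f) := QuasiCompact.compactSpace_of_compactSpace a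
  haveI : QuasiSeparatedSpace ↥(pullback (N.b i₀) f) := quasiSeparatedSpace_of_quasiSeparated a
  haveI : ∀ (j k : Over i₀) (φ : j ⟶ k), IsAffineHom ((LimDesc.diag N.D i₀ a).map φ) :=
    fun j k φ => LimDesc.isAffineHom_map N.D i₀ a φ
  haveI : ∀ j : Over i₀, CompactSpace ↥((LimDesc.diag N.D i₀ a).obj j) :=
    fun j => LimDesc.compactSpace_obj N.D i₀ a j
  haveI : ∀ j : Over i₀, QuasiSeparatedSpace ↥((LimDesc.diag N.D i₀ a).obj j) :=
    fun j => LimDesc.quasiSeparatedSpace_obj N.D i₀ a j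
  let q₀ : P ⟶ pullback (N.b i₀) f :=
    pullback.lift (q ≫ N.c.π.app i₀) pr (by rw [Category.assoc, N.hbc, hP.w])
  have hQ : IsPullback q₀ q a (N.c.π.app i₀) := by
    refine IsPullback.of_right ?_ (pullback.lift_fst _ _ _) (IsPullback.of_hasPullback (N.b i₀) f).flip
    rw [pullback.lift_snd, N.hbc]
    exact hP.flip
  let D' : Over i₀ ⥤ Scheme.{u} := LimDesc.diag N.D i₀ a
  let c' : Cone D' := LimDesc.cone N.D i₀ a hQ
  let top : Over i₀ := Over.mk (𝟙 i₀)
  let b : ∀ j : Over i₀, D'.obj j ⟶ X := fun j => pullback.fst a (N.D.map j.hom) ≫ pullback.snd (N.b i₀) f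
  have het : ∀ j, Etale (b j) := fun j => by
    haveI : Etale (N.D.map j.hom ≫ N.b i₀) := by rw [N.hb]; exact N.etale _
    haveI : Etale (N.D.map j.hom) := Etale.of_comp _ (N.b i₀)
    haveI : Etale (pullback.fst a (N.D.map j.hom)) := MorphismProperty.pullback_fst _ _ inferInstance
    haveI : Etale (pullback.snd (N.b i₀) f) := MorphismProperty.pullback_snd _ _ (N.etale i₀)
    exact (inferInstance : Etale (pullback.fst a (N.D.map j.hom) ≫ pullback.snd (N.b i₀) f))
  have hb : ∀ {j k : Over i₀} (φ : j ⟶ k), D'.map φ ≫ b k = b j := fun φ => LimDesc.map_fst_assoc N.D i₀ a φ _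
  have hπ : c'.π.app top ≫ b top = pr :=
    (LimDesc.π_fst_assoc N.D i₀ a hQ top _).trans (pullback.lift_snd _ _ _)
  haveI := het top
  let ψ : (EtCoh.pull (c'.π.app top)).obj ((EtCoh.pull (b top)).obj J) ≅ (EtCoh.pull pr).obj J :=
    (pV (X := c'.pt) (c'.π.app top) (b top) pr hπ).app J
  have key : ∀ y : Ext.{u + 1} (Z P) ((EtCoh.pull (c'.π.app top)).obj ((EtCoh.pull (b top)).obj J)) (n + 1),
      y = 0 := by
    intro y
    obtain ⟨j, α, ξj, hξ⟩ := exists_HpullVia_eq (LimDesc.isLimitCone N.D i₀ a hQ N.hc) top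
      ((EtCoh.pull (b top)).obj J) (n + 1) y
    have h0 : ξj = 0 := by
      haveI := het j
      haveI : Injective ((EtCoh.pull (b j)).obj J) := GrothLib.EtDer.injective_pull_etale (b j) J
      haveI : Injective ((EtCoh.pull (D'.map α)).obj ((EtCoh.pull (b top)).obj J)) :=
        Injective.of_iso ((pV (D'.map α) (b top) (b j) (hb α)).app J).symm inferInstance
      exact Ext.eq_zero_of_injective _
    rw [← hξ, h0]
    exact map_zero _
  refine subsingleton_of_forall_eq 0 fun x => ?_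
  have e1 : x = (x.comp (Ext.mk₀ ψ.inv) (add_zero _)).comp (Ext.mk₀ ψ.hom) (add_zero _) := by
    rw [Ext.comp_assoc_of_third_deg_zero, Ext.mk₀_comp_mk₀, Iso.inv_hom_id, Ext.comp_mk₀_id]
  rw [e1, key (x.comp (Ext.mk₀ ψ.inv) (add_zero _)), Ext.zero_comp]

/-- `Ext` from the constant sheaf, as a functor. -/
abbrev HX (P : Scheme.{u}) (n : ℕ) : EtCoh.Ab P ⥤ AddCommGrpCat.{u + 1} := Abelian.extFunctorObj (Z P) n

theorem nonempty_HX_iso (P : Scheme.{u}) (n : ℕ) : Nonempty (HX P n ≅ EtCoh.HF P n) :=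
  ⟨NatIso.ofComponents (fun _ => Iso.refl _) (fun _ => rfl)⟩

theorem nonempty_HF_zero_iso (P : Scheme.{u}) : Nonempty (EtCoh.HF P 0 ≅ EtCore.gsec P) :=
  ⟨NatIso.ofComponents (fun G => (Sheaf.H.equiv₀ G (EtCore.topIsTerminal P)).toAddCommGrpIso) (fun {G G'} φ => by
    refine AddCommGrpCat.hom_ext (AddMonoidHom.ext fun x => ?_)
    exact (Sheaf.H.equiv₀_naturality (T := EtCoh.top P) (EtCore.topIsTerminal P) φ x).symm)⟩

include hP in
/-- `H^n` of the base change as a derived functor of the stalk of the direct image. -/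
theorem nonempty_HF_iso_rightDerived [QuasiCompact f] [QuasiSeparated f] [(EtCoh.push f ⋙ EtCoh.stalk η).Additive]
    [PreservesFiniteLimits (EtCoh.push f ⋙ EtCoh.stalk η)] (n : ℕ) :
    Nonempty (EtCoh.pull pr ⋙ HX P n ≅ (EtCoh.push f ⋙ EtCoh.stalk η).rightDerived n) := by
  haveI := GrothLib.EtSite.pull_preservesFiniteLimits pr
  haveI : (EtCoh.pull pr).Additive := (EtCoh.pullPushAdj pr).left_adjoint_additive
  haveI : PreservesFiniteColimits (EtCoh.pull pr) :=
    haveI : PreservesColimitsOfSize.{0, 0} (EtCoh.pull pr) := (EtCoh.pullPushAdj pr).leftAdjoint_preservesColimits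
    PreservesColimitsOfSize.preservesFiniteColimits _
  obtain ⟨θ⟩ := nonempty_stalk_push_iso (η := η) hP
  obtain ⟨e'⟩ := nonempty_HF_zero_iso P
  obtain ⟨r⟩ := nonempty_HX_iso P 0
  let e : HX P 0 ≅ EtCore.gsec P := r ≪≫ e'
  exact GrothLib.CechUniv.nonempty_extFunctor_iso_rightDerived (EtCoh.pull pr) (Z P) (EtCoh.push f ⋙ EtCoh.stalk η)
    (fun I hI n => subsingleton_ext_pull_injective hP I n) (Functor.isoWhiskerLeft (EtCoh.pull pr) e ≪≫ θ.symm) n

include hP in
/-- **The stalk of a higher direct image is the cohomology of the base change to the strict localization.** -/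
theorem nonempty_stalk_Rpush_iso [QuasiCompact f] [QuasiSeparated f] (n : ℕ) :
    Nonempty (EtCoh.Rpush f n ⋙ EtCoh.stalk η ≅ EtCoh.pull pr ⋙ EtCoh.HF P n) := by
  haveI : (EtCoh.push f).Additive := (EtCoh.pullPushAdj f).right_adjoint_additive
  haveI : PreservesLimitsOfSize.{0, 0} (EtCoh.push f) := (EtCoh.pullPushAdj f).rightAdjoint_preservesLimits
  haveI : PreservesFiniteLimits (EtCoh.push f) := PreservesLimitsOfSize.preservesFiniteLimits _
  haveI : (EtCoh.stalk η).Additive := GrothLib.EtSite.additive_stalk η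
  haveI := GrothLib.EtSite.preservesFiniteLimits_stalk η
  haveI := GrothLib.EtSite.preservesFiniteColimits_stalk η
  haveI : (EtCoh.push f ⋙ EtCoh.stalk η).Additive := inferInstance
  haveI : PreservesFiniteLimits (EtCoh.push f ⋙ EtCoh.stalk η) := comp_preservesFiniteLimits _ _
  obtain ⟨les⟩ := RDerLES.nonempty_derivedLES (EtCoh.push f)
  obtain ⟨e₁⟩ := nonempty_HF_iso_rightDerived (η := η) hP n
  obtain ⟨e₂⟩ := GrothLib.CechUniv.nonempty_iso_rightDerived_of_delta (EtCoh.push f ⋙ EtCoh.stalk η)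
    (fun n => EtCoh.Rpush f n ⋙ EtCoh.stalk η)
    (fun S hS n => (EtCoh.stalk η).map (les.δ S hS n (n + 1) rfl))
    (fun S S' hS hS' φ n => by
      exact ((EtCoh.stalk η).map_comp _ _).symm.trans
        ((congrArg (EtCoh.stalk η).map (les.δ_natural hS hS' φ n (n + 1) rfl)).trans ((EtCoh.stalk η).map_comp _ _)))
    (fun S hS n => by
      exact ((EtCoh.stalk η).map_comp _ _).symm.trans
        ((congrArg (EtCoh.stalk η).map (les.comp_δ S hS n (n + 1) rfl)).trans ((EtCoh.stalk η).map_zero _ _)))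
    (fun S hS n _ => (les.exact₃ S hS n (n + 1) rfl).map (EtCoh.stalk η))
    (fun S hS n _ => by
      haveI : Epi (les.δ S hS n (n + 1) rfl) := (les.exact₁ S hS n (n + 1) rfl).epi_f
        (((EtCoh.push f).isZero_rightDerived_obj_injective_succ n S.X₂).eq_of_tgt _ _)
      exact inferInstance)
    (Functor.isoWhiskerRight (EtCoh.push f).rightDerivedZeroIsoSelf (EtCoh.stalk η)) n
  obtain ⟨r⟩ := nonempty_HX_iso P n
  exact ⟨e₂ ≪≫ e₁.symm ≪≫ Functor.isoWhiskerLeft (EtCoh.pull pr) r⟩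

end GrothLib.EtLimit
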