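import Groth.Agent.Lib.EtLimit.Induction
import Groth.Agent.Lib.EtLimit.Pullback
import Groth.Agent.Lib.EtLimit.Main
import Groth.Agent.Lib.EtLimit.ColimExt

/-!
# Cohomology of compatible systems of sheaves on a limit
-/

set_option autoImplicit false
set_option backward.isDefEq.respectTransparency false
universe u

open CategoryTheory CategoryTheory.Limits CategoryTheory.Abelian AlgebraicGeometry Opposite
open GrothLib.EtColim (Z)
open scoped GrothLib.EtFast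

noncomputable section

namespace GrothLib.EtLimit

variable {ι : Type u} [Preorder ι] [Nonempty ι] [IsDirected ι (· ≤ ·)] {Xs : ιᵒᵖ ⥤ Scheme.{u}} {c : Cone Xs}

/-- Every class at the limit comes from a later stage. -/
theorem exists_le_hp_eq [∀ a b : ιᵒᵖ, ∀ f : a ⟶ b, IsAffineHom (Xs.map f)]
    [∀ a, CompactSpace ↥(Xs.obj a)] [∀ a, QuasiSeparatedSpace ↥(Xs.obj a)] (hc : IsLimit c)
    (i : ι) (F : EtCoh.Ab (Xs.obj (op i))) (n : ℕ)
    (ξ : Ext.{u + 1} (Z c.pt) ((EtCoh.pull (c.π.app (op i))).obj F) n) :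
    ∃ (j : ι) (hij : i ≤ j)
      (z : Ext.{u + 1} (Z (Xs.obj (op j))) ((EtCoh.pull (Xs.map (homOfLE hij).op)).obj F) n),
      hp (X := c.pt) (c.π.app (op j)) ((pV (X := c.pt) (c.π.app (op j)) (Xs.map (homOfLE hij).op) (c.π.app (op i))
        (c.w (homOfLE hij).op)).hom.app F) z = ξ := by
  let e := EtCore.pullConst (X := c.pt) (c.π.app (op i)) ℤ
  obtain ⟨⟨j⟩, a, y, hy⟩ := ((all hc n).2.1 (op i) (Z (Xs.obj (op i))) isFree_Z F)
    ((Ext.mk₀ e.hom).comp ξ (zero_add n))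
  have hij : i ≤ j := a.unop.le
  obtain rfl : a = (homOfLE hij).op := Subsingleton.elim _ _
  refine ⟨j, hij, (Ext.mk₀ (EtCore.pullConst (Xs.map (homOfLE hij).op) ℤ).inv).comp y (zero_add n), ?_⟩
  refine (hp_pV_pre (X := c.pt) _ _ _ (c.w (homOfLE hij).op) F y).trans ?_
  refine (congrArg (fun z => (Ext.mk₀ e.inv).comp z (zero_add n)) hy).trans ?_
  rw [Ext.mk₀_comp_mk₀_assoc, Iso.inv_hom_id, Ext.mk₀_id_comp]

/-- A class dying at the limit dies at a later stage. -/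
theorem exists_le_map_eq_zero [∀ a b : ιᵒᵖ, ∀ f : a ⟶ b, IsAffineHom (Xs.map f)]
    [∀ a, CompactSpace ↥(Xs.obj a)] [∀ a, QuasiSeparatedSpace ↥(Xs.obj a)] (hc : IsLimit c)
    (k : ι) (F : EtCoh.Ab (Xs.obj (op k))) (n : ℕ) (z : Ext.{u + 1} (Z (Xs.obj (op k))) F n)
    (hz : z.mapExactFunctor (EtCoh.pull (c.π.app (op k))) = 0) :
    ∃ (l : ι) (hkl : k ≤ l), z.mapExactFunctor (EtCoh.pull (Xs.map (homOfLE hkl).op)) = 0 := by
  obtain ⟨⟨l⟩, b, hb⟩ := (all hc n).1 (op k) (Z (Xs.obj (op k))) isFree_Z F z hz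
  have hkl : k ≤ l := b.unop.le
  obtain rfl : b = (homOfLE hkl).op := Subsingleton.elim _ _
  exact ⟨l, hkl, hb⟩

omit [Nonempty ι] [IsDirected ι (· ≤ ·)] in
theorem map_le_comp (Xs : ιᵒᵖ ⥤ Scheme.{u}) {i j k : ι} (hij : i ≤ j) (hjk : j ≤ k) :
    Xs.map (homOfLE hjk).op ≫ Xs.map (homOfLE hij).op = Xs.map (homOfLE (hij.trans hjk)).op := by
  rw [← Functor.map_comp]; rfl

/-- Compatible systems: generation and killing. -/
theorem gen_and_kill (haff : ∀ ⦃a b : ιᵒᵖ⦄ (h : a ⟶ b), IsAffineHom (Xs.map h))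
    (hqc : ∀ a, CompactSpace ↥(Xs.obj a)) (hqs : ∀ a, QuasiSeparatedSpace ↥(Xs.obj a)) (hc : IsLimit c)
    (F : ∀ i : ι, EtCoh.Ab (Xs.obj (op i)))
    (φ : ∀ ⦃i j : ι⦄ (h : i ≤ j), (EtCoh.pull (Xs.map (homOfLE h).op)).obj (F i) ⟶ F j)
    (hφ : ∀ ⦃i j k : ι⦄ (hij : i ≤ j) (hjk : j ≤ k),
      φ (hij.trans hjk) = (pV _ _ _ (map_le_comp Xs hij hjk)).inv.app (F i) ≫
        (EtCoh.pull (Xs.map (homOfLE hjk).op)).map (φ hij) ≫ φ hjk)
    (G : ι ⥤ EtCoh.Ab c.pt) (ψ : ∀ i : ι, (EtCoh.pull (c.π.app (op i))).obj (F i) ≅ G.obj i)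
    (hψ : ∀ ⦃i j : ι⦄ (hij : i ≤ j), (ψ i).hom ≫ G.map (homOfLE hij) =
      (pV (X := c.pt) (c.π.app (op j)) (Xs.map (homOfLE hij).op) (c.π.app (op i))
        (c.w (homOfLE hij).op)).inv.app (F i) ≫
        (EtCoh.pull (c.π.app (op j))).map (φ hij) ≫ (ψ j).hom)
    (n : ℕ) :
    (∀ ξ : Ext.{u + 1} (Z c.pt) (colimit G) n, ∃ (j : ι) (ξj : Ext.{u + 1} (Z (Xs.obj (op j))) (F j) n),
        hp (c.π.app (op j)) ((ψ j).hom ≫ colimit.ι G j) ξj = ξ) ∧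
    (∀ (j : ι) (ξj : Ext.{u + 1} (Z (Xs.obj (op j))) (F j) n),
      hp (c.π.app (op j)) ((ψ j).hom ≫ colimit.ι G j) ξj = 0 →
        ∃ (k : ι) (hk : j ≤ k), hp (Xs.map (homOfLE hk).op) (φ hk) ξj = 0) := by
  haveI : ∀ (a b : ιᵒᵖ) (f : a ⟶ b), IsAffineHom (Xs.map f) := fun a b f => haff f
  haveI := hqc
  haveI := hqs
  haveI := isAffineHom_π_app Xs c hc (op (Classical.arbitrary ι))
  haveI : CompactSpace c.pt := Scheme.compactSpace_of_isLimit Xs c hc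
  haveI : QuasiSeparatedSpace c.pt :=
    quasiSeparatedSpace_of_quasiSeparated (c.π.app (op (Classical.arbitrary ι)))
  refine ⟨fun ξ => ?_, fun j ξj hξj => ?_⟩
  · obtain ⟨i, η, hη⟩ := exists_colim_eq G n ξ
    obtain ⟨j, hij, z, hz⟩ := exists_le_hp_eq hc i (F i) n (Ext.comp η (Ext.mk₀ (ψ i).inv) (add_zero n))
    refine ⟨j, Ext.comp z (Ext.mk₀ (φ hij)) (add_zero n), ?_⟩
    let e := pV (X := c.pt) (c.π.app (op j)) (Xs.map (homOfLE hij).op) (c.π.app (op i)) (c.w (homOfLE hij).op)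
    have he : (EtCoh.pull (c.π.app (op j))).map (φ hij) ≫ (ψ j).hom ≫ colimit.ι G j =
        e.hom.app (F i) ≫ (ψ i).hom ≫ colimit.ι G i := by
      rw [← colimit.w G (homOfLE hij), reassoc_of% (hψ hij), Iso.hom_inv_id_app_assoc]
    rw [hp_mk₀, he, ← hp_comp, hz, Ext.comp_assoc_of_third_deg_zero, Ext.mk₀_comp_mk₀, Iso.inv_hom_id_assoc, hη]
  · rw [← hp_comp] at hξj
    obtain ⟨k, hjk, he⟩ := exists_le_colim_eq_zero G j n _ hξj
    have hz' : hp (c.π.app (op k)) (ψ k).hom (hp (Xs.map (homOfLE hjk).op) (φ hjk) ξj) = 0 := by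
      rw [hp_comp, hψ hjk] at he
      rwa [hp_hp (X := c.pt) _ _ _ (c.w (homOfLE hjk).op)]
    obtain ⟨l, hkl, hl'⟩ := exists_le_map_eq_zero hc k (F k) n _ (map_eq_zero_of_hp _ (ψ k) _ hz')
    refine ⟨l, hjk.trans hkl, ?_⟩
    have h0 := hp_eq_zero_of_map _ (φ hkl) _ hl'
    rw [hp_hp _ _ _ (map_le_comp Xs hjk hkl)] at h0
    rwa [hφ hjk hkl]

end GrothLib.EtLimit
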