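import Groth.Agent.Lib.EtLimit.Main
import Groth.Agent.Lib.EtLimit.Torsion
import Groth.Agent.Lib.EtFastInst

/-!
# Cohomology of torsion sheaves is torsion
-/

set_option autoImplicit false
set_option backward.isDefEq.respectTransparency false
universe u

open CategoryTheory CategoryTheory.Limits CategoryTheory.Abelian AlgebraicGeometry Opposite
open GrothLib.EtSite
open scoped GrothLib.EtFast

noncomputable section

namespace GrothLib.EtLimit

variable {X : Scheme.{u}}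

theorem torsion_of_iso {N N' F : EtCoh.Ab X} (e : N ≅ N') {n : ℕ}
    (h : ∀ y : Ext.{u + 1} N F n, IsOfFinAddOrder y) (y : Ext.{u + 1} N' F n) : IsOfFinAddOrder y := by
  obtain ⟨m, hm, hy⟩ := isOfFinAddOrder_iff_nsmul_eq_zero.1 (h (cj e.symm (Iso.refl F) y))
  refine isOfFinAddOrder_iff_nsmul_eq_zero.2 ⟨m, hm, ?_⟩
  rwa [← map_nsmul, cj_eq_zero_iff] at hy

theorem torsion_ext_zero_ZV {F : EtCoh.Ab X} (hF : EtCoh.IsTorsion F) {V : X.Etale} (hV : Qcqs V)
    (y : Ext.{u + 1} (ZV V) F 0) : IsOfFinAddOrder y := by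
  obtain ⟨φ, rfl⟩ := (Ext.mk₀_bijective _ _).2 y
  haveI := hV.1
  obtain ⟨m, hm, h⟩ := isOfFinAddOrder_iff_nsmul_eq_zero.1
    (isOfFinAddOrder_of_compact hF V (φ.hom.app (op V) (gen V)))
  refine isOfFinAddOrder_iff_nsmul_eq_zero.2 ⟨m, hm, ?_⟩
  have h' : m • φ = 0 := ZV_ext (by
    refine Eq.trans ?_ (h.trans rfl)
    rfl)
  exact (map_nsmul Ext.addEquiv₀.symm m φ).symm.trans ((congrArg Ext.addEquiv₀.symm h').trans (map_zero _))

/-- `Ext` from free and from resolvable sheaves into torsion sheaves is torsion. -/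
theorem torsion_ext {F : EtCoh.Ab X} (hF : EtCoh.IsTorsion F) (n : ℕ) :
    (∀ N, IsFree N → ∀ y : Ext.{u + 1} N F n, IsOfFinAddOrder y) ∧
      (∀ N, Res N → ∀ y : Ext.{u + 1} N F n, IsOfFinAddOrder y) := by
  induction n with
  | zero =>
    refine ⟨fun N ⟨V, hV, ⟨e⟩⟩ => torsion_of_iso e (torsion_ext_zero_ZV hF hV), fun N hN y => ?_⟩
    obtain ⟨K, P, f, g, w, hS, ⟨V, hV, ⟨e⟩⟩, -⟩ := hN.step
    obtain ⟨m, hm, h⟩ := isOfFinAddOrder_iff_nsmul_eq_zero.1
      (torsion_of_iso e (torsion_ext_zero_ZV hF hV) ((Ext.mk₀ g).comp y (zero_add 0)))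
    obtain ⟨φ, rfl⟩ := (Ext.mk₀_bijective _ _).2 y
    haveI : Epi g := hS.epi_g
    refine isOfFinAddOrder_iff_nsmul_eq_zero.2 ⟨m, hm, ?_⟩
    have h2 : Ext.mk₀ (m • (g ≫ φ)) = 0 := by
      refine Eq.trans (map_nsmul Ext.addEquiv₀.symm m (g ≫ φ)) ?_
      rw [Ext.mk₀_comp_mk₀] at h
      exact h
    rw [Ext.mk₀_eq_zero_iff, ← Preadditive.comp_nsmul] at h2
    have h' : m • φ = 0 := (cancel_epi g).1 (h2.trans comp_zero.symm)
    exact (map_nsmul Ext.addEquiv₀.symm m φ).symm.trans ((congrArg Ext.addEquiv₀.symm h').trans (map_zero _))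
  | succ n ih =>
    have hn : 1 + n = n + 1 := by omega
    have key : ∀ {K P N : EtCoh.Ab X} {f : K ⟶ P} {g : P ⟶ N} {w : f ≫ g = 0},
        (ShortComplex.mk f g w).ShortExact → Res K → ∀ y : Ext.{u + 1} N F (n + 1),
        (Ext.mk₀ g).comp y (zero_add (n + 1)) = 0 → IsOfFinAddOrder y := by
      intro K P N f g w hS hK y hy
      obtain ⟨η, hη⟩ := Ext.contravariant_sequence_exact₃ hS _ y hy hn
      obtain ⟨m, hm, h⟩ := isOfFinAddOrder_iff_nsmul_eq_zero.1 (ih.2 K hK η)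
      refine isOfFinAddOrder_iff_nsmul_eq_zero.2 ⟨m, hm, ?_⟩
      rw [← hη]
      refine (map_nsmul (AddMonoidHom.mk' (fun z : Ext.{u + 1} K F n => hS.extClass.comp z hn)
        fun a b => Ext.comp_add _ _ _ _) m η).symm.trans ?_
      rw [h, map_zero]
    have free : ∀ N, IsFree N → ∀ y : Ext.{u + 1} N F (n + 1), IsOfFinAddOrder y := by
      rintro N ⟨V, hV, ⟨e⟩⟩
      refine torsion_of_iso e fun y => ?_
      obtain ⟨T, p, hT, hp, hzero⟩ := kill_class hV n F y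
      obtain ⟨K, P, f, g, w, a, hS, -, hKres, hg⟩ := exists_cover_seq hV hT p hp
      refine key hS hKres y ?_
      rw [hg, ← Ext.mk₀_comp_mk₀_assoc, hzero, Ext.comp_zero]
    refine ⟨free, fun N hN y => ?_⟩
    obtain ⟨K, P, f, g, w, hS, hP, hKres⟩ := hN.step
    obtain ⟨m, hm, h⟩ := isOfFinAddOrder_iff_nsmul_eq_zero.1 (free P hP ((Ext.mk₀ g).comp y (zero_add (n + 1))))
    refine IsOfFinAddOrder.of_nsmul (n := m) ?_ (by omega)
    refine key hS hKres (m • y) ?_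
    refine Eq.trans ?_ h
    exact map_nsmul (AddMonoidHom.mk' (fun z : Ext.{u + 1} N F (n + 1) => (Ext.mk₀ g).comp z (zero_add (n + 1)))
      fun a b => Ext.comp_add _ _ _ _) m y

/-- The cohomology of a torsion sheaf on a quasi-compact quasi-separated scheme is torsion. -/
theorem isOfFinAddOrder_H [CompactSpace X] [QuasiSeparatedSpace X] {F : EtCoh.Ab X} (hF : EtCoh.IsTorsion F)
    (n : ℕ) (y : Ext.{u + 1} (GrothLib.EtColim.Z X) F n) : IsOfFinAddOrder y :=
  (torsion_ext hF n).1 _ isFree_Z y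

end GrothLib.EtLimit
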