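import Groth.Agent.Lib.EtLimit.Classes
import Groth.Agent.Lib.EtLimit.Points

/-!
# Degree zero: sections over quasi-compact quasi-separated objects at the limit
-/

set_option autoImplicit false
set_option backward.isDefEq.respectTransparency false
universe u

open CategoryTheory CategoryTheory.Limits CategoryTheory.Abelian AlgebraicGeometry Opposite
open GrothLib.EtSite

noncomputable section

namespace GrothLib.EtLimit

open GrothLib.ConnFibres (zeroLocus proj)

variable {X Y : Scheme.{u}}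

theorem mapZ_gen {W V : X.Etale} (p : W ⟶ V) :
    (mapZ p).hom.app (op W) (gen W) = (ZV V).obj.map p.op (gen V) :=
  (hZV_eq (mapZ p)).symm.trans ((congrArg (hZV W (ZV V)) (Category.comp_id (mapZ p)).symm).trans
    (hZV_mapZ p (𝟙 _)))

theorem mapZ_comp {U W V : X.Etale} (q : U ⟶ W) (p : W ⟶ V) : mapZ (q ≫ p) = mapZ q ≫ mapZ p := by
  refine ZV_ext ((mapZ_gen _).trans ?_)
  refine Eq.trans ?_ (congrArg ((mapZ p).hom.app (op U)) (mapZ_gen q)).symm
  refine Eq.trans ?_ (NatTrans.naturality_apply (mapZ p).hom q.op (gen W)).symm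
  refine Eq.trans ?_ (congrArg ((ZV V).obj.map q.op) (mapZ_gen p)).symm
  exact (ConcreteCategory.congr_hom ((ZV V).obj.map_comp p.op q.op) (gen V)).trans
    (ConcreteCategory.comp_apply _ _ _)

theorem mapZ_apply_gen {W V : X.Etale} (p : W ⟶ V) {F : EtCoh.Ab X} (φ : ZV V ⟶ F) :
    (mapZ p ≫ φ).hom.app (op W) (gen W) = F.obj.map p.op (φ.hom.app (op V) (gen V)) :=
  (hZV_eq _).symm.trans ((hZV_mapZ p φ).trans (congrArg (F.obj.map p.op) (hZV_eq φ)))

/-- The tautological section of a pulled back free sheaf. -/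
def genPull (f : X ⟶ Y) (V : Y.Etale) : EtCoh.sect ((EtCoh.pull f).obj (ZV V)) ((EtCoh.bc f).obj V) :=
  ((EtCoh.pullPushAdj f).unit.app (ZV V)).hom.app (op V) (gen V)

/-- The image of a section in the inverse image. -/
def unitSect (f : X ⟶ Y) {G : EtCoh.Ab Y} {U : Y.Etale} (s : EtCoh.sect G U) :
    EtCoh.sect ((EtCoh.pull f).obj G) ((EtCoh.bc f).obj U) :=
  ((EtCoh.pullPushAdj f).unit.app G).hom.app (op U) s

theorem pull_hom_ext (f : X ⟶ Y) {V : Y.Etale} {G : EtCoh.Ab X} {φ ψ : (EtCoh.pull f).obj (ZV V) ⟶ G}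
    (h : φ.hom.app (op ((EtCoh.bc f).obj V)) (genPull f V) = ψ.hom.app (op ((EtCoh.bc f).obj V)) (genPull f V)) :
    φ = ψ := by
  apply ((EtCoh.pullPushAdj f).homEquiv _ _).injective
  refine (Adjunction.homEquiv_unit _ _ _ _).trans (Eq.trans ?_ (Adjunction.homEquiv_unit _ _ _ _).symm)
  exact ZV_ext h

theorem map_genPull (f : X ⟶ Y) {V : Y.Etale} {G : EtCoh.Ab Y} (φ : ZV V ⟶ G) :
    ((EtCoh.pull f).map φ).hom.app (op ((EtCoh.bc f).obj V)) (genPull f V) =
      ((EtCoh.pullPushAdj f).unit.app G).hom.app (op V) (φ.hom.app (op V) (gen V)) :=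
  (congrArg (fun ψ => ψ.hom.app (op V) (gen V)) ((EtCoh.pullPushAdj f).unit.naturality φ)).symm

theorem pullZV_hom_genPull (f : X ⟶ Y) (V : Y.Etale) :
    (pullZV f V).hom.hom.app (op ((EtCoh.bc f).obj V)) (genPull f V) = gen ((EtCoh.bc f).obj V) :=
  (congrArg (fun ψ => ψ.hom.app (op V) (gen V)) (unit_fromPullZV f V)).trans (ofSect_gen _)

theorem pullZV_inv_gen (f : X ⟶ Y) (V : Y.Etale) :
    (pullZV f V).inv.hom.app (op ((EtCoh.bc f).obj V)) (gen ((EtCoh.bc f).obj V)) = genPull f V :=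
  ofSect_gen _

theorem pullZV_inv_naturality (f : X ⟶ Y) {U V : Y.Etale} (g : U ⟶ V) :
    mapZ ((EtCoh.bc f).map g) ≫ (pullZV f V).inv = (pullZV f U).inv ≫ (EtCoh.pull f).map (mapZ g) := by
  refine ZV_ext ((mapZ_apply_gen _ _).trans ?_)
  rw [pullZV_inv_gen]
  refine Eq.trans ?_ (congrArg (((EtCoh.pull f).map (mapZ g)).hom.app _) (pullZV_inv_gen f U)).symm
  rw [map_genPull, mapZ_gen]
  exact (NatTrans.naturality_apply ((EtCoh.pullPushAdj f).unit.app (ZV V)).hom g.op (gen V)).symm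

theorem conj_eq_of_cancel {W Z : Scheme.{u}} (f : W ⟶ X) (t : X ⟶ Z) (t' : W ⟶ Z) (w : f ≫ t = t')
    {A B G : EtCoh.Ab Z} (m : A ⟶ B) (φ : (EtCoh.pull t).obj B ⟶ (EtCoh.pull t).obj G) (ψ : A ⟶ G)
    (ξ : (EtCoh.pull t').obj B ⟶ (EtCoh.pull t').obj G) [Epi ((EtCoh.pull t').map m)]
    (hφ : (EtCoh.pull t).map m ≫ φ = (EtCoh.pull t).map ψ)
    (hξ : (EtCoh.pull t').map m ≫ ξ = (EtCoh.pull t').map ψ) :
    ((pV f t t' w).app B).inv ≫ (EtCoh.pull f).map φ ≫ ((pV f t t' w).app G).hom = ξ := by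
  have n1 := (pV f t t' w).inv.naturality m
  have n2 := (pV f t t' w).hom.naturality ψ
  simp only [Functor.comp_map] at n1 n2
  simp only [Iso.app_inv, Iso.app_hom]
  rw [← cancel_epi ((EtCoh.pull t').map m), hξ, reassoc_of% n1, ← Functor.map_comp_assoc, hφ, n2,
    Iso.inv_hom_id_app_assoc]

theorem epi_mapZ {V W : X.Etale} (hV : Qcqs V) (hW : Qcqs W) (p : W ⟶ V) (hp : Surjective p.left) :
    Epi (mapZ p) := by
  obtain ⟨K, P, f, g, w, a, hS, -, -, e⟩ := exists_cover_seq hV hW p hp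
  haveI : Epi g := hS.epi_g
  have : Epi (a ≫ mapZ p) := by rw [← e]; infer_instance
  exact epi_of_epi a (mapZ p)

variable {I : Type u} [SmallCategory I] [IsCofiltered I] {D : I ⥤ Scheme.{u}} {c : Cone D} (hc : IsLimit c)
  [∀ (i j : I) (f : i ⟶ j), IsAffineHom (D.map f)]

include hc in
/-- Sections dying at the limit die at a stage. -/
theorem kill_zero_ZV {j : I} {V : (D.obj j).Etale} (hV : Qcqs V) (G : EtCoh.Ab (D.obj j)) :
    Kill D c 0 (ZV V) G := by
  intro y hy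
  obtain ⟨φ, rfl⟩ := (Ext.mk₀_bijective _ _).2 y
  rw [Ext.mapExactFunctor_mk₀, Ext.mk₀_eq_zero_iff] at hy
  let s : EtCoh.sect G V := φ.hom.app (op V) (gen V)
  have hs : ((EtCoh.pullPushAdj (c.π.app j)).unit.app G).hom.app (op V) s = 0 := by
    rw [← map_genPull, hy]
    rfl
  let O : V.left.Opens := ⟨zeroLocus G s, GrothLib.ConnFibres.isOpen_zeroLocus G s⟩
  obtain ⟨k, a, hk⟩ := exists_range_subset hc hV O (by
    rintro _ ⟨z, rfl⟩
    refine (GrothLib.ConnFibres.mem_unit (c.π.app j) G s z).1 ?_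
    rw [hs]
    exact ⟨_, 𝟙 _, z, rfl, map_zero _⟩)
  refine ⟨k, a, ?_⟩
  rw [Ext.mapExactFunctor_mk₀, Ext.mk₀_eq_zero_iff]
  refine pull_hom_ext _ ?_
  refine (map_genPull _ φ).trans ?_
  exact GrothLib.ConnFibres.eq_zero_of_univ ((EtCoh.pull (D.map a)).obj G) (W := (EtCoh.bc (D.map a)).obj V)
    _ fun z => (GrothLib.ConnFibres.mem_unit (D.map a) G s z).2 (hk ⟨z, rfl⟩)

section glue

variable {j : I} {V : (D.obj j).Etale} {G : EtCoh.Ab (D.obj j)}

include hc in
/-- A compatible local family of homomorphisms comes from a stage. -/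
theorem reach_of_cover (hV : Qcqs V)
    (ξ : (EtCoh.pull (c.π.app j)).obj (ZV V) ⟶ (EtCoh.pull (c.π.app j)).obj G)
    {W : (D.obj j).Etale} (hW : Qcqs W) (p : W ⟶ V) (ψ : ZV W ⟶ G)
    (h : (EtCoh.pull (c.π.app j)).map (mapZ p) ≫ ξ = (EtCoh.pull (c.π.app j)).map ψ)
    (hp : Set.range (proj (c.π.app j) V).base ⊆ Set.range p.left.base) :
    Reach D c (Ext.mk₀ ξ) := by
  haveI := GrothLib.ConnFibres.etale_left p
  let P : W.left ⟶ V.left := p.left
  haveI : Etale (pullback.fst P P) := MorphismProperty.pullback_fst _ _ ‹_›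
  let R : (D.obj j).Etale := GrothLib.EtBasicB.objOver (U := W) (pullback.fst P P)
  let r₁ : R ⟶ W := MorphismProperty.Over.homMk (pullback.fst P P) rfl trivial
  let r₂ : R ⟶ W := MorphismProperty.Over.homMk (pullback.snd P P) (by
    change pullback.snd P P ≫ W.hom = pullback.fst P P ≫ W.hom
    rw [← MorphismProperty.Over.w p, ← Category.assoc, ← Category.assoc, pullback.condition]) trivial
  have hr : r₁ ≫ p = r₂ ≫ p := MorphismProperty.Over.Hom.ext pullback.condition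
  have hR : Qcqs R := by
    haveI := hW.1; haveI := hW.2; haveI := hV.1; haveI := hV.2
    haveI : QuasiCompact P := quasiCompact_of_compactSpace _
    haveI : QuasiSeparated P := by
      haveI : QuasiSeparated (P ≫ terminal.from _) := by
        rw [terminalIsTerminal.hom_ext (P ≫ terminal.from _) (terminal.from _),
          ← quasiSeparatedSpace_iff_quasiSeparated]
        exact hW.2
      exact QuasiSeparated.of_comp _ (terminal.from _)
    exact ⟨QuasiCompact.compactSpace_of_compactSpace (pullback.fst P P),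
      quasiSeparatedSpace_of_quasiSeparated (pullback.fst P P)⟩
  have hy : (Ext.mk₀ (mapZ r₁ ≫ ψ - mapZ r₂ ≫ ψ)).mapExactFunctor (EtCoh.pull (c.π.app j)) = 0 := by
    rw [Ext.mapExactFunctor_mk₀, Ext.mk₀_eq_zero_iff, Functor.map_sub, Functor.map_comp, Functor.map_comp,
      ← h, ← Functor.map_comp_assoc, ← Functor.map_comp_assoc, ← mapZ_comp, ← mapZ_comp, hr, sub_self]
  obtain ⟨k, a, hk⟩ := kill_zero_ZV hc hR G _ hy
  obtain ⟨k', a', hk'⟩ := exists_range_subset hc hV ⟨Set.range p.left.base, GrothLib.EtBasicB.isOpen_range_left p⟩ hp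
  obtain ⟨l, b, b', e⟩ := IsCofiltered.cospan a a'
  let t := D.map (b ≫ a)
  have hl : (EtCoh.pull t).map (mapZ r₁ ≫ ψ) = (EtCoh.pull t).map (mapZ r₂ ≫ ψ) := by
    rw [← sub_eq_zero, ← Functor.map_sub, ← Ext.mk₀_eq_zero_iff, ← Ext.mapExactFunctor_mk₀]
    exact (map_map_eq_zero_iff a b _).1 (by rw [hk, Ext.mapExactFunctor_zero])
  have hsurj : Surjective ((EtCoh.bc t).map p).left := ⟨fun z => by
    have hz : proj t V z ∈ Set.range p.left.base := by
      have hz' := hk' ⟨toStage (D.map b') (D.map a') t (by rw [w_map]; exact congrArg D.map e.symm) V z, rfl⟩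
      rwa [show proj (D.map a') V (toStage (D.map b') (D.map a') t _ V z) = proj t V z from
        congr($(toStage_fst (D.map b') (D.map a') t _ V).base z)] at hz'
    obtain ⟨w, hw⟩ := hz
    obtain ⟨q, hq, -⟩ := Scheme.exists_preimage_of_isPullback (EtCoh.isPullback_bc_map t p) z w hw.symm
    exact ⟨q, hq⟩⟩
  let W' := (EtCoh.bc t).obj W
  let V' := (EtCoh.bc t).obj V
  let p' : W' ⟶ V' := (EtCoh.bc t).map p
  let ψ' : ZV W' ⟶ (EtCoh.pull t).obj G := (pullZV t W).inv ≫ (EtCoh.pull t).map ψ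
  have hpb : IsPullback r₁ r₂ p p := by
    have hsq : IsPullback (pullback.fst P P) (pullback.snd P P) P P := IsPullback.of_hasPullback P P
    exact IsPullback.of_map (Scheme.Etale.forget (D.obj j) ⋙ Over.forget (D.obj j)) hr hsq
  have hpb' : IsPullback ((EtCoh.bc t).map r₁) ((EtCoh.bc t).map r₂) p' p' := hpb.map (EtCoh.bc t)
  have hdiff : mapZ ((EtCoh.bc t).map r₁) ≫ ψ' = mapZ ((EtCoh.bc t).map r₂) ≫ ψ' := by
    rw [← Category.assoc, ← Category.assoc, pullZV_inv_naturality, pullZV_inv_naturality, Category.assoc,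
      Category.assoc, ← Functor.map_comp, ← Functor.map_comp, hl]
  obtain ⟨σ, hσ⟩ := GrothLib.EtShriek.exists_glue ((EtCoh.pull t).obj G) V' (fun _ : Unit => W') (fun _ => p')
    (fun z => ⟨(), hsurj.surj z⟩) (fun _ => ψ'.hom.app (op W') (gen W')) (fun _ _ Z q₁ q₂ hq => by
      let m := hpb'.lift q₁ q₂ hq
      have hm := congrArg (fun φ => φ.hom.app (op ((EtCoh.bc t).obj R)) (gen ((EtCoh.bc t).obj R))) hdiff
      simp only [mapZ_apply_gen] at hm
      let x := ψ'.hom.app (op W') (gen W')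
      let H := ((EtCoh.pull t).obj G).obj
      rw [← hpb'.lift_fst q₁ q₂ hq, op_comp, Functor.map_comp, ConcreteCategory.comp_apply]
      conv_rhs => rw [← hpb'.lift_snd q₁ q₂ hq, op_comp, Functor.map_comp, ConcreteCategory.comp_apply]
      exact congrArg (H.map m.op) hm)
  let φ : (EtCoh.pull t).obj (ZV V) ⟶ (EtCoh.pull t).obj G := (pullZV t V).hom ≫ ofSect σ
  have hφ : (EtCoh.pull t).map (mapZ p) ≫ φ = (EtCoh.pull t).map ψ := by
    rw [← cancel_epi (pullZV t W).inv, ← Category.assoc, ← pullZV_inv_naturality, Category.assoc,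
      Iso.inv_hom_id_assoc]
    refine ZV_ext ((mapZ_apply_gen _ _).trans ?_)
    rw [ofSect_gen]
    exact hσ ()
  refine ⟨l, b ≫ a, Ext.mk₀ φ, ?_⟩
  rw [res_eq_cj, Ext.mapExactFunctor_mk₀, cj_mk₀]
  refine congrArg Ext.mk₀ ?_
  haveI hπ : IsAffineHom (c.π.app j) := isAffineHom_π_app D c hc j
  have hs : Surjective ((EtCoh.bc (c.π.app j)).map p).left := ⟨fun z => by
    obtain ⟨w, hw⟩ := hp ⟨z, rfl⟩
    obtain ⟨q, hq, -⟩ := Scheme.exists_preimage_of_isPullback (EtCoh.isPullback_bc_map (c.π.app j) p) z w hw.symm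
    exact ⟨q, hq⟩⟩
  haveI := epi_mapZ (qcqs_bc (c.π.app j) hV) (qcqs_bc (c.π.app j) hW) _ hs
  have hepi : Epi ((EtCoh.pull (c.π.app j)).map (mapZ p)) := by
    have : (EtCoh.pull (c.π.app j)).map (mapZ p) =
        (pullZV _ W).hom ≫ mapZ ((EtCoh.bc (c.π.app j)).map p) ≫ (pullZV _ V).inv := by
      rw [pullZV_inv_naturality, Iso.hom_inv_id_assoc]
    rw [this]
    infer_instance
  exact @conj_eq_of_cancel _ _ _ (c.π.app l) (D.map (b ≫ a)) (c.π.app j) (w_π D c (b ≫ a)) _ _ _ (mapZ p) φ ψ ξ hepi hφ h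

/-- A section at the limit agrees near every point with a section from the base. -/
theorem exists_local_datum (ξ : (EtCoh.pull (c.π.app j)).obj (ZV V) ⟶ (EtCoh.pull (c.π.app j)).obj G)
    (x : ((EtCoh.bc (c.π.app j)).obj V).left) :
    ∃ (U : (D.obj j).Etale) (g : U ⟶ V) (s : EtCoh.sect G U) (z : ((EtCoh.bc (c.π.app j)).obj U).left),
      IsAffine U.left ∧ ((EtCoh.bc (c.π.app j)).map g).left z = x ∧
      z ∈ zeroLocus ((EtCoh.pull (c.π.app j)).obj G)
        (unitSect (c.π.app j) s -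
          ((EtCoh.pull (c.π.app j)).obj G).obj.map ((EtCoh.bc (c.π.app j)).map g).op
            (ξ.hom.app (op ((EtCoh.bc (c.π.app j)).obj V)) (genPull (c.π.app j) V)) :
          EtCoh.sect ((EtCoh.pull (c.π.app j)).obj G) ((EtCoh.bc (c.π.app j)).obj U)) := by
  obtain ⟨Ω, _, _, η, tx, rfl⟩ := GrothLib.ConnFibres.exists_point _ x
  obtain ⟨v, rfl⟩ := exists_fib_bc η (c.π.app j) V tx
  rw [fiberBcIso_inv_eq_liftPt]
  let σ := ξ.hom.app (op ((EtCoh.bc (c.π.app j)).obj V)) (genPull (c.π.app j) V)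
  obtain ⟨W, w, s, hs⟩ := exists_unit_germ (g' := c.π.app j) (ξ' := η) rfl G
    (germ η ((EtCoh.pull (c.π.app j)).obj G) (liftPt (c.π.app j) v η rfl) σ)
  let Vh : V.left ⟶ D.obj j := V.hom
  let Wh : W.left ⟶ D.obj j := W.hom
  haveI : Etale Wh := W.prop
  haveI : Etale (pullback.fst Vh Wh) := MorphismProperty.pullback_fst _ _ ‹_›
  let P : (D.obj j).Etale := GrothLib.EtBasicB.objOver (U := V) (pullback.fst Vh Wh)
  let q₁ : P ⟶ V := MorphismProperty.Over.homMk (pullback.fst Vh Wh) rfl trivial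
  let q₂ : P ⟶ W := MorphismProperty.Over.homMk (pullback.snd Vh Wh) pullback.condition.symm trivial
  let pl := pullback.lift (f := Vh) (g := Wh) v.left w.left ((Over.w v).trans (Over.w w).symm)
  obtain ⟨_, ⟨A, hA, rfl⟩, hpA, -⟩ := P.left.isBasis_affineOpens.exists_subset_of_mem_open
    (Set.mem_univ (pl.base (default : Spec (CommRingCat.of Ω)))) isOpen_univ
  let A₀ : P.left.Opens := A
  have hpl : pl ≫ P.hom = η ≫ c.π.app j :=
    (pullback.lift_fst_assoc _ _ _ _).trans (Over.w v)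
  let p₀ : (Scheme.pointSmallEtale (η ≫ c.π.app j)).fiber.obj P := fib _ (U := P) pl hpl
  obtain ⟨p, hp, -⟩ := GrothLib.EtBasicB.exists_fib_lift (η ≫ c.π.app j) (opensHom P A₀) p₀
    (⟨pl.base (default : Spec (CommRingCat.of Ω)), hpA⟩ : A₀) rfl
  have e₁ : (Scheme.pointSmallEtale (η ≫ c.π.app j)).fiber.map q₁ p₀ = v :=
    Over.OverMorphism.ext (pullback.lift_fst _ _ _)
  have e₂ : (Scheme.pointSmallEtale (η ≫ c.π.app j)).fiber.map q₂ p₀ = w :=
    Over.OverMorphism.ext (pullback.lift_snd _ _ _)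
  let g : opensObj P A₀ ⟶ V := opensHom P A₀ ≫ q₁
  let g₂ : opensObj P A₀ ⟶ W := opensHom P A₀ ≫ q₂
  have eg : (Scheme.pointSmallEtale (η ≫ c.π.app j)).fiber.map g p = v := by
    rw [Functor.map_comp, ConcreteCategory.comp_apply, hp, e₁]
  have eg₂ : (Scheme.pointSmallEtale (η ≫ c.π.app j)).fiber.map g₂ p = w := by
    rw [Functor.map_comp, ConcreteCategory.comp_apply, hp, e₂]
  refine ⟨opensObj P A₀, g, G.obj.map g₂.op s,
    (liftPt (c.π.app j) p η rfl).left.base (default : Spec (CommRingCat.of Ω)), hA, ?_, ?_⟩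
  · refine Eq.trans ?_ (congrArg (fun t => t.left.base (default : Spec (CommRingCat.of Ω)))
      ((map_bc_liftPt (c.π.app j) g p η rfl).trans (congrArg (fun q => liftPt (c.π.app j) q η rfl) eg)))
    rfl
  · refine (GrothLib.ConnFibres.mem_iff_germ _ _ η _).2 ?_
    rw [map_sub, sub_eq_zero]
    refine (congrArg (germ η _ _) (NatTrans.naturality_apply
      ((EtCoh.pullPushAdj (c.π.app j)).unit.app G).hom g₂.op s)).trans ?_
    refine (germ_map η _ ((EtCoh.bc (c.π.app j)).map g₂) _ _).trans ?_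
    rw [map_bc_liftPt, eg₂, hs]
    refine Eq.symm ((germ_map η _ ((EtCoh.bc (c.π.app j)).map g) _ _).trans ?_)
    rw [map_bc_liftPt, eg]

include hc in
/-- Sections at the limit come from a stage. -/
theorem gen_zero_ZV (hV : Qcqs V) : Gen D c 0 (ZV V) G := by
  classical
  intro e
  obtain ⟨ξ, rfl⟩ := (Ext.mk₀_bijective _ _).2 e
  have hπ : IsAffineHom (c.π.app j) := isAffineHom_π_app D c hc j
  let π := c.π.app j
  choose U g s z hU hz hzero using exists_local_datum (G := G) ξ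
  haveI : CompactSpace ↥((EtCoh.bc (c.π.app j)).obj V).left := (qcqs_bc (c.π.app j) hV).1
  obtain ⟨ts, hts⟩ := isCompact_univ.elim_finite_subcover
    (fun x => ((EtCoh.bc (c.π.app j)).map (g x)).left.base '' zeroLocus ((EtCoh.pull (c.π.app j)).obj G)
      (unitSect (c.π.app j) (s x) -
          ((EtCoh.pull (c.π.app j)).obj G).obj.map ((EtCoh.bc (c.π.app j)).map (g x)).op
            (ξ.hom.app (op ((EtCoh.bc (c.π.app j)).obj V)) (genPull (c.π.app j) V)) :
          EtCoh.sect ((EtCoh.pull (c.π.app j)).obj G) ((EtCoh.bc (c.π.app j)).obj (U x))))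
    (fun x => by
      haveI := GrothLib.ConnFibres.etale_left ((EtCoh.bc (c.π.app j)).map (g x))
      exact ((EtCoh.bc (c.π.app j)).map (g x)).left.isOpenMap _ (GrothLib.ConnFibres.isOpen_zeroLocus _ _))
    (fun x _ => Set.mem_iUnion.2 ⟨x, z x, hzero x, hz x⟩)
  let ee := ts.equivFin.symm
  obtain ⟨T, p, jn, hT, hjp, ho, hd, hs'⟩ := exists_sigma (fun i => U (ee i).1) (fun i => g (ee i).1) (fun i => hU _)
  obtain ⟨sT, hsT⟩ := exists_sect_sigma G _ jn ho hd hs' (fun i => s (ee i).1)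
  let σ := ξ.hom.app (op ((EtCoh.bc (c.π.app j)).obj V)) (genPull (c.π.app j) V)
  let d : EtCoh.sect ((EtCoh.pull (c.π.app j)).obj G) ((EtCoh.bc (c.π.app j)).obj T) :=
    unitSect (c.π.app j) sT -
      ((EtCoh.pull (c.π.app j)).obj G).obj.map ((EtCoh.bc (c.π.app j)).map p).op σ
  have hd' : ∀ i, ((EtCoh.pull (c.π.app j)).obj G).obj.map ((EtCoh.bc (c.π.app j)).map (jn i)).op d =
      (unitSect (c.π.app j) (s (ee i).1) -
        ((EtCoh.pull (c.π.app j)).obj G).obj.map ((EtCoh.bc (c.π.app j)).map (g (ee i).1)).op σ :) := fun i => by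
    refine (map_sub _ _ _).trans (congrArg₂ (· - ·) ?_ ?_)
    · rw [← hsT i]
      exact (NatTrans.naturality_apply ((EtCoh.pullPushAdj (c.π.app j)).unit.app G).hom (jn i).op sT).symm
    · rw [← hjp i, Functor.map_comp, op_comp, Functor.map_comp]
      rfl
  have hcov : ∀ x, ∃ w ∈ zeroLocus ((EtCoh.pull (c.π.app j)).obj G) d,
      ((EtCoh.bc (c.π.app j)).map p).left w = x := fun x => by
    obtain ⟨y, hy, hxy⟩ := Set.mem_iUnion₂.1 (hts (Set.mem_univ x))
    have hy' : (ee (ts.equivFin ⟨y, hy⟩)).1 = y := congrArg Subtype.val (Equiv.symm_apply_apply _ _)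
    rw [← hy'] at hxy
    obtain ⟨w, hw, hwx⟩ := hxy
    generalize ts.equivFin ⟨y, hy⟩ = i at w hw hwx
    refine ⟨((EtCoh.bc (c.π.app j)).map (jn i)).left w, ?_, ?_⟩
    · refine (GrothLib.ConnFibres.mem_map _ _ d w).1 ?_
      rw [hd' i]
      exact hw
    · have h : ((EtCoh.bc (c.π.app j)).map (jn i)).left ≫ ((EtCoh.bc (c.π.app j)).map p).left =
          ((EtCoh.bc (c.π.app j)).map (g (ee i).1)).left :=
        congrArg (fun m : (EtCoh.bc (c.π.app j)).obj (U (ee i).1) ⟶ (EtCoh.bc (c.π.app j)).obj V => m.left)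
          (((EtCoh.bc (c.π.app j)).map_comp _ _).symm.trans (congrArg _ (hjp i)))
      exact congr($(h).base w).trans hwx
  -- a compact open of agreement
  choose w hw hwx using hcov
  have haff : ∀ x, ∃ A : ((EtCoh.bc (c.π.app j)).obj T).left.Opens, IsAffineOpen A ∧ w x ∈ A ∧
      (A : Set ((EtCoh.bc (c.π.app j)).obj T).left) ⊆ zeroLocus ((EtCoh.pull (c.π.app j)).obj G) d := fun x =>
    exists_isAffineOpen_mem_and_subset
      (U := ⟨_, GrothLib.ConnFibres.isOpen_zeroLocus ((EtCoh.pull (c.π.app j)).obj G) d⟩) (hw x)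
  choose A hA hwA hAz using haff
  obtain ⟨t', ht'⟩ := isCompact_univ.elim_finite_subcover
    (fun x => ((EtCoh.bc (c.π.app j)).map p).left.base '' (A x))
    (fun x => by
      haveI := GrothLib.ConnFibres.etale_left ((EtCoh.bc (c.π.app j)).map p)
      exact ((EtCoh.bc (c.π.app j)).map p).left.isOpenMap _ (A x).2)
    (fun x _ => Set.mem_iUnion.2 ⟨x, w x, hwA x, hwx x⟩)
  let O : ((EtCoh.bc (c.π.app j)).obj T).left.Opens := ⨆ x ∈ t', A x
  have hOc : IsCompact (O : Set ((EtCoh.bc (c.π.app j)).obj T).left) := by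
    simp only [O, TopologicalSpace.Opens.coe_iSup]
    exact t'.finite_toSet.isCompact_biUnion fun x _ => (hA x).isCompact
  obtain ⟨k, a, Ak, hAk, hiff⟩ := exists_open_stage hc T O hOc
  let t := D.map a
  let Wk : (D.obj k).Etale := opensObj ((EtCoh.bc t).obj T) Ak
  let ι : Wk ⟶ (EtCoh.bc t).obj T := opensHom ((EtCoh.bc t).obj T) Ak
  have hWk : Qcqs Wk :=
    haveI : QuasiSeparatedSpace ↥((EtCoh.bc t).obj T).left := (qcqs_bc t hT).2
    ⟨isCompact_iff_compactSpace.1 hAk, (Scheme.Opens.ι Ak).isOpenEmbedding.quasiSeparatedSpace⟩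
  let P := pV (c.π.app k) t (c.π.app j) (w_π D c a)
  let ψ : ZV Wk ⟶ (EtCoh.pull t).obj G := (mapZ ι ≫ (pullZV t T).inv) ≫ (EtCoh.pull t).map (ofSect sT)
  let ξk : (EtCoh.pull (c.π.app k)).obj (ZV ((EtCoh.bc t).obj V)) ⟶
      (EtCoh.pull (c.π.app k)).obj ((EtCoh.pull t).obj G) :=
    (EtCoh.pull (c.π.app k)).map (pullZV t V).inv ≫ P.hom.app (ZV V) ≫ ξ ≫ P.inv.app G
  have hδ : ((EtCoh.pull (c.π.app k)).map (mapZ ι ≫ (pullZV t T).inv) ≫ P.hom.app (ZV T)) ≫
      ((EtCoh.pull (c.π.app j)).map (ofSect sT) - (EtCoh.pull (c.π.app j)).map (mapZ p) ≫ ξ) = 0 := by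
    refine pull_hom_ext _ ?_
    let δ := (EtCoh.pull (c.π.app j)).map (ofSect sT) - (EtCoh.pull (c.π.app j)).map (mapZ p) ≫ ξ
    let Wb := (EtCoh.bc (c.π.app k)).obj Wk
    have h1 : ((EtCoh.pull (c.π.app k)).map (mapZ ι ≫ (pullZV t T).inv) ≫ P.hom.app (ZV T)).hom.app (op Wb)
        (genPull (c.π.app k) Wk) = ((EtCoh.pull (c.π.app j)).obj (ZV T)).obj.map
          (mu (c.π.app k) t (c.π.app j) (w_π D c a) T ι).op (genPull (c.π.app j) T) := by
      refine (congrArg ((P.hom.app (ZV T)).hom.app (op Wb)) (map_genPull _ _)).trans ?_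
      refine Eq.trans ?_ (pV_unit_res (c.π.app k) t (c.π.app j) (w_π D c a) (ZV T) ι (gen T))
      rw [mapZ_apply_gen, pullZV_inv_gen]
      rfl
    refine (congrArg (δ.hom.app (op Wb)) h1).trans ?_
    refine (NatTrans.naturality_apply δ.hom _ _).trans ?_
    have h2 : δ.hom.app (op ((EtCoh.bc (c.π.app j)).obj T)) (genPull (c.π.app j) T) = d := by
      refine congrArg₂ (fun (u v : EtCoh.sect ((EtCoh.pull (c.π.app j)).obj G) ((EtCoh.bc (c.π.app j)).obj T)) => u - v)
        ((map_genPull (c.π.app j) (ofSect sT)).trans (congrArg (fun u => unitSect (c.π.app j) u) (ofSect_gen sT))) ?_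
      refine (congrArg (ξ.hom.app (op ((EtCoh.bc (c.π.app j)).obj T))) (map_genPull _ _)).trans ?_
      rw [mapZ_gen]
      refine (congrArg (ξ.hom.app (op ((EtCoh.bc (c.π.app j)).obj T)))
        (NatTrans.naturality_apply ((EtCoh.pullPushAdj (c.π.app j)).unit.app (ZV V)).hom p.op (gen V))).trans ?_
      exact NatTrans.naturality_apply ξ.hom ((EtCoh.bc (c.π.app j)).map p).op (genPull (c.π.app j) V)
    rw [h2]
    refine GrothLib.ConnFibres.eq_zero_of_univ ((EtCoh.pull (c.π.app j)).obj G) (W := Wb) _ fun z => ?_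
    refine (GrothLib.ConnFibres.mem_map _ _ d z).2 ?_
    have hzO : (mu (c.π.app k) t (c.π.app j) (w_π D c a) T ι).left z ∈ O := by
      rw [← hiff, toStage_mu]
      exact (proj (c.π.app k) Wk z).2
    obtain ⟨x, -, hx⟩ := by simpa [O] using hzO
    exact hAz x hx
  have hcond : (EtCoh.pull (c.π.app k)).map (mapZ (ι ≫ (EtCoh.bc t).map p)) ≫ ξk =
      (EtCoh.pull (c.π.app k)).map ψ := by
    have n1 := P.hom.naturality (mapZ p)
    have n2 := P.hom.naturality (ofSect sT)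
    simp only [Functor.comp_map] at n1 n2
    refine (cancel_mono (P.hom.app G)).1 ?_
    have n0 : (EtCoh.pull (c.π.app k)).map (mapZ ((EtCoh.bc t).map p)) ≫
        (EtCoh.pull (c.π.app k)).map (pullZV t V).inv =
        (EtCoh.pull (c.π.app k)).map (pullZV t T).inv ≫
          (EtCoh.pull (c.π.app k)).map ((EtCoh.pull t).map (mapZ p)) := by
      rw [← Functor.map_comp, pullZV_inv_naturality, Functor.map_comp]
    simp only [ξk, ψ, mapZ_comp, Functor.map_comp, Category.assoc, Iso.inv_hom_id_app]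
    erw [Category.comp_id]
    rw [reassoc_of% n0, reassoc_of% n1, n2]
    have := hδ
    rw [Preadditive.comp_sub, sub_eq_zero] at this
    simpa [Functor.map_comp, Category.assoc] using this.symm
  have hrange : Set.range (proj (c.π.app k) ((EtCoh.bc t).obj V)).base ⊆
      Set.range (ι ≫ (EtCoh.bc t).map p).left.base := by
    rintro _ ⟨v, rfl⟩
    obtain ⟨x, hx⟩ := exists_toStage_eq (c.π.app k) t (c.π.app j) (w_π D c a) V v
    obtain ⟨y, hy, w', hw', hwx'⟩ := Set.mem_iUnion₂.1 (ht' (Set.mem_univ x))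
    have hm : toStage (c.π.app k) t (c.π.app j) (w_π D c a) T w' ∈ Ak :=
      (hiff w').2 (by simp only [O, TopologicalSpace.Opens.mem_iSup]; exact ⟨y, hy, hw'⟩)
    refine ⟨⟨_, hm⟩, ?_⟩
    rw [← hx, ← hwx']
    exact congr($(toStage_naturality (c.π.app k) t (c.π.app j) (w_π D c a) p).base w').symm
  have hr := reach_of_cover hc (qcqs_bc t hV) ξk hWk (ι ≫ (EtCoh.bc t).map p) ψ hcond hrange
  refine reach_of_stage a _ (Reach.of_iso (pullZV t V) _ ?_)
  rw [cj_mk₀, cj_mk₀]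
  refine Eq.mp (congrArg (fun m => Reach D c (Ext.mk₀ m)) ?_) hr
  simp [ξk, P]
  rfl

end glue

end GrothLib.EtLimit
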